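import Mathlib

/-!
# Lengths of kernel and cokernel of multiplication by `t`

Snake-lemma based additivity of `length (N / tN) - length (N[t])`.
-/

namespace Groth.Agent.Lib.Helper95.LengthT

open Function Pointwise

section general

variable {R : Type*} [CommRing R]

theorem length_eq_range_add_range {M₁ M₂ M₃ : Type*} [AddCommGroup M₁] [Module R M₁]
    [AddCommGroup M₂] [Module R M₂] [AddCommGroup M₃] [Module R M₃]
    {f : M₁ →ₗ[R] M₂} {g : M₂ →ₗ[R] M₃} (h : Exact f g) :
    Module.length R M₂ =
      Module.length R (LinearMap.range f) + Module.length R (LinearMap.range g) := by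
  refine Module.length_eq_add_of_exact (LinearMap.range f).subtype g.rangeRestrict
    (Submodule.subtype_injective _) g.surjective_rangeRestrict ?_
  intro y
  constructor
  · intro hy
    have hy' : g y = 0 := congrArg Subtype.val hy
    obtain ⟨x, hx⟩ := (h y).mp hy'
    exact ⟨⟨y, ⟨x, hx⟩⟩, rfl⟩
  · rintro ⟨⟨_, ⟨x, rfl⟩⟩, rfl⟩
    apply Subtype.ext
    exact h.apply_apply_eq_zero x

theorem six_term {A₁ A₂ A₃ A₄ A₅ A₆ : Type*}
    [AddCommGroup A₁] [Module R A₁] [AddCommGroup A₂] [Module R A₂]
    [AddCommGroup A₃] [Module R A₃] [AddCommGroup A₄] [Module R A₄]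
    [AddCommGroup A₅] [Module R A₅] [AddCommGroup A₆] [Module R A₆]
    (f₁ : A₁ →ₗ[R] A₂) (f₂ : A₂ →ₗ[R] A₃) (f₃ : A₃ →ₗ[R] A₄) (f₄ : A₄ →ₗ[R] A₅)
    (f₅ : A₅ →ₗ[R] A₆) (h₀ : Injective f₁) (h₁ : Exact f₁ f₂) (h₂ : Exact f₂ f₃)
    (h₃ : Exact f₃ f₄) (h₄ : Exact f₄ f₅) (h₅ : Surjective f₅) :
    Module.length R A₂ + Module.length R A₄ + Module.length R A₆ =
      Module.length R A₁ + Module.length R A₃ + Module.length R A₅ := by
  have e1 : Module.length R (LinearMap.range f₁) = Module.length R A₁ :=
    (LinearEquiv.ofInjective f₁ h₀).length_eq.symm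
  have e6 : Module.length R (LinearMap.range f₅) = Module.length R A₆ := by
    rw [LinearMap.range_eq_top.mpr h₅]; exact Module.length_top
  rw [length_eq_range_add_range h₁, length_eq_range_add_range h₂, length_eq_range_add_range h₃,
    length_eq_range_add_range h₄, e1, e6]
  ring

end general

section snake

variable {A : Type*} [CommRing A] (t : A)

/-- kernel of multiplication by `t` -/
abbrev K (N : Type*) [AddCommGroup N] [Module A N] : Submodule A N :=
  LinearMap.ker (t • (LinearMap.id : N →ₗ[A] N))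

theorem mem_K {N : Type*} [AddCommGroup N] [Module A N] (x : N) : x ∈ K t N ↔ t • x = 0 := by
  simp [K]

/-- functoriality of the kernel of `t` -/
def Kmap {N N' : Type*} [AddCommGroup N] [Module A N] [AddCommGroup N'] [Module A N']
    (f : N →ₗ[A] N') : K t N →ₗ[A] K t N' :=
  f.restrict (fun x hx => by
    rw [mem_K] at hx ⊢
    rw [← map_smul, hx, map_zero])

@[simp] theorem Kmap_coe {N N' : Type*} [AddCommGroup N] [Module A N] [AddCommGroup N']
    [Module A N'] (f : N →ₗ[A] N') (x : K t N) : ((Kmap t f x : K t N') : N') = f x := rfl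

theorem exact_smul_mkQ (N : Type*) [AddCommGroup N] [Module A N] :
    Exact (t • (LinearMap.id : N →ₗ[A] N)) (Submodule.mkQ (t • (⊤ : Submodule A N))) := by
  intro y
  rw [Submodule.mkQ_apply, Submodule.Quotient.mk_eq_zero,
    Submodule.mem_smul_pointwise_iff_exists]
  constructor
  · rintro ⟨x, -, hx⟩
    exact ⟨x, by simpa using hx⟩
  · rintro ⟨x, hx⟩
    exact ⟨x, trivial, by simpa using hx⟩

variable {M' M M'' : Type*} [AddCommGroup M'] [Module A M'] [AddCommGroup M] [Module A M]
  [AddCommGroup M''] [Module A M'']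

theorem length_snake (i : M' →ₗ[A] M) (p : M →ₗ[A] M'')
    (hi : Injective i) (hp : Surjective p) (hex : Exact i p) :
    Module.length A (K t M) + Module.length A (QuotSMulTop t M') +
        Module.length A (QuotSMulTop t M'') =
      Module.length A (K t M') + Module.length A (K t M'') +
        Module.length A (QuotSMulTop t M) := by
  have c₁ : i.comp (t • (LinearMap.id : M' →ₗ[A] M')) = (t • (LinearMap.id : M →ₗ[A] M)).comp i := by
    ext x; simp
  have c₂ : p.comp (t • (LinearMap.id : M →ₗ[A] M)) =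
      (t • (LinearMap.id : M'' →ₗ[A] M'')).comp p := by
    ext x; simp
  have hι₂ : Exact (K t M).subtype (t • (LinearMap.id : M →ₗ[A] M)) :=
    LinearMap.exact_subtype_ker_map _
  have hι₃ : Exact (K t M'').subtype (t • (LinearMap.id : M'' →ₗ[A] M'')) :=
    LinearMap.exact_subtype_ker_map _
  have hπ₁ := exact_smul_mkQ t M'
  have hπ₂ := exact_smul_mkQ t M
  let δ := SnakeLemma.δ' (t • (LinearMap.id : M' →ₗ[A] M')) (t • (LinearMap.id : M →ₗ[A] M))
    (t • (LinearMap.id : M'' →ₗ[A] M'')) i p hex i p hex c₁ c₂ (K t M'').subtype hι₃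
    (Submodule.mkQ (t • (⊤ : Submodule A M'))) hπ₁ hp hi
  have h₂ : Exact (Kmap t p) δ :=
    SnakeLemma.exact_δ'_right (t • (LinearMap.id : M' →ₗ[A] M')) (t • (LinearMap.id : M →ₗ[A] M))
      (t • (LinearMap.id : M'' →ₗ[A] M'')) i p hex i p hex c₁ c₂ (K t M).subtype hι₂
      (K t M'').subtype hι₃
      (Submodule.mkQ (t • (⊤ : Submodule A M'))) hπ₁ hp hi (Kmap t p) (by ext x; rfl)
      (Submodule.subtype_injective _)
  have h₃ : Exact δ (QuotSMulTop.map t i) :=
    SnakeLemma.exact_δ'_left (t • (LinearMap.id : M' →ₗ[A] M')) (t • (LinearMap.id : M →ₗ[A] M))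
      (t • (LinearMap.id : M'' →ₗ[A] M'')) i p hex i p hex c₁ c₂
      (K t M'').subtype hι₃
      (Submodule.mkQ (t • (⊤ : Submodule A M'))) hπ₁
      (Submodule.mkQ (t • (⊤ : Submodule A M))) hπ₂ hp hi (QuotSMulTop.map t i)
      (QuotSMulTop.map_comp_mkQ t i) (Submodule.mkQ_surjective _)
  have h₀ : Injective (Kmap t i) := by
    intro x y hxy
    apply Subtype.ext
    apply hi
    exact congrArg Subtype.val hxy
  have h₁ : Exact (Kmap t i) (Kmap t p) := by
    intro y
    constructor
    · intro hy
      have hy' : p y.1 = 0 := congrArg Subtype.val hy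
      obtain ⟨x, hx⟩ := (hex y.1).mp hy'
      have hx0 : t • x = 0 := by
        apply hi
        rw [map_smul, hx, map_zero]
        exact (mem_K t _).mp y.2
      exact ⟨⟨x, (mem_K t _).mpr hx0⟩, Subtype.ext hx⟩
    · rintro ⟨x, rfl⟩
      apply Subtype.ext
      exact hex.apply_apply_eq_zero x.1
  have h₄ : Exact (QuotSMulTop.map t i) (QuotSMulTop.map t p) := QuotSMulTop.map_exact t hex hp
  have h₅ : Surjective (QuotSMulTop.map t p) := QuotSMulTop.map_surjective t hp
  exact six_term (Kmap t i) (Kmap t p) δ (QuotSMulTop.map t i) (QuotSMulTop.map t p)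
    h₀ h₁ h₂ h₃ h₄ h₅

end snake

section finiteness

variable {A : Type*} [CommRing A]

theorem isFiniteLength_of_smul_eq_zero (t : A)
    (h : IsFiniteLength A (A ⧸ Ideal.span {t})) (N : Type*) [AddCommGroup N] [Module A N]
    [Module.Finite A N] (hN : ∀ x : N, t • x = 0) : IsFiniteLength A N := by
  obtain ⟨n, f, hf⟩ := Module.Finite.exists_fin' A N
  let I : Submodule A A := Ideal.span {t}
  let P : Submodule A (Fin n → A) := Submodule.pi Set.univ (fun _ => I)
  have hP : P ≤ LinearMap.ker f := by
    intro v hv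
    have hex : ∀ i, ∃ w, v i = t * w := fun i => by
      have := hv i (Set.mem_univ i)
      obtain ⟨w, hw⟩ := Ideal.mem_span_singleton'.mp this
      exact ⟨w, by rw [← hw, mul_comm]⟩
    choose w hw using hex
    have hvw : v = t • w := funext fun i => by simp [hw]
    rw [LinearMap.mem_ker, hvw, map_smul, hN]
  let g := P.liftQ f hP
  have hg : Function.Surjective g := fun x => by
    obtain ⟨v, rfl⟩ := hf x
    exact ⟨P.mkQ v, rfl⟩
  let e := Submodule.quotientPi (fun _ : Fin n => I)
  have h1 : IsFiniteLength A (Fin n → A ⧸ I) := by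
    rw [← Module.length_ne_top_iff, Module.length_pi_of_fintype]
    have h0 : Module.length A (A ⧸ I) ≠ ⊤ := Module.length_ne_top_iff.mpr h
    simp only [Finset.sum_const, Finset.card_univ, Fintype.card_fin, nsmul_eq_mul]
    exact WithTop.mul_ne_top (ENat.coe_ne_top n) h0
  have h2 : IsFiniteLength A ((Fin n → A) ⧸ P) := h1.of_surjective (f := e.symm.toLinearMap) e.symm.surjective
  exact h2.of_surjective (f := g) hg

variable [IsNoetherianRing A]

theorem isFiniteLength_quot_span (hdim : ringKrullDim A = 1) (t : A) (ht : t ∈ nonZeroDivisors A) :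
    IsFiniteLength A (A ⧸ Ideal.span {t}) := by
  have : Ring.KrullDimLE 1 A := by
    rw [Ring.KrullDimLE, Order.krullDimLE_iff, ← ringKrullDim, hdim]; rfl
  exact isFiniteLength_quotient_span_singleton A ht

theorem isFiniteLength_K (hdim : ringKrullDim A = 1) (t : A) (ht : t ∈ nonZeroDivisors A)
    (N : Type*) [AddCommGroup N] [Module A N] [Module.Finite A N] :
    IsFiniteLength A (K t N) := by
  apply isFiniteLength_of_smul_eq_zero t (isFiniteLength_quot_span hdim t ht)
  intro x
  apply Subtype.ext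
  exact (mem_K t _).mp x.2

theorem isFiniteLength_Q (hdim : ringKrullDim A = 1) (t : A) (ht : t ∈ nonZeroDivisors A)
    (N : Type*) [AddCommGroup N] [Module A N] [Module.Finite A N] :
    IsFiniteLength A (QuotSMulTop t N) := by
  apply isFiniteLength_of_smul_eq_zero t (isFiniteLength_quot_span hdim t ht)
  intro x
  obtain ⟨y, rfl⟩ := Submodule.mkQ_surjective _ x
  rw [← map_smul, Submodule.mkQ_apply, Submodule.Quotient.mk_eq_zero]
  exact Submodule.smul_mem_pointwise_smul y t ⊤ trivial

end finiteness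

end Groth.Agent.Lib.Helper95.LengthT
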