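import Groth.Prelude.Def_AlgGrp

/-! Basic lemmas on `AlgGrp.Action` in terms of generalized points, and the shear isomorphism. -/

set_option autoImplicit false
universe u
open CategoryTheory MonoidalCategory CartesianMonoidalCategory MonObj GrpObj AlgebraicGeometry

namespace Groth.Agent.Lib.Helper95

variable {S : Scheme.{u}} {G X : Over S} [GrpObj G]

/-- The action on `T`-valued points. -/
noncomputable def psmul (a : AlgGrp.Action G X) {T : Over S} (g : T ⟶ G) (x : T ⟶ X) : T ⟶ X :=
  lift g x ≫ a.act

lemma comp_psmul (a : AlgGrp.Action G X) {T T' : Over S} (f : T' ⟶ T) (g : T ⟶ G) (x : T ⟶ X) :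
    f ≫ psmul a g x = psmul a (f ≫ g) (f ≫ x) := by
  simp only [psmul, ← Category.assoc, comp_lift]

lemma one_psmul (a : AlgGrp.Action G X) {T : Over S} (x : T ⟶ X) :
    psmul a (1 : T ⟶ G) x = x := by
  have h : lift (1 : T ⟶ G) x = lift (toUnit T) x ≫ (η[G] ▷ X) := by
    ext
    · simp [Hom.one_def]
    · simp
  rw [psmul, h, Category.assoc, a.one_act]
  simp

lemma mul_psmul (a : AlgGrp.Action G X) {T : Over S} (g h : T ⟶ G) (x : T ⟶ X) :
    psmul a (g * h) x = psmul a g (psmul a h x) := by
  have h1 : lift (g * h) x = lift (lift g h) x ≫ (μ[G] ▷ X) := by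
    ext
    · simp [Hom.mul_def]
    · simp
  have h2 : lift (lift g h) x ≫ (α_ G G X).hom ≫ (G ◁ a.act) = lift g (lift h x ≫ a.act) := by
    ext
    · simp
    · simp
  rw [psmul, h1, Category.assoc, a.mul_act, psmul, psmul, ← h2]
  simp only [Category.assoc]

/-- The shear map `(g, x) ↦ (g, g • x)`. -/
noncomputable def shear (a : AlgGrp.Action G X) : G ⊗ X ≅ G ⊗ X where
  hom := lift (fst G X) (psmul a (fst G X) (snd G X))
  inv := lift (fst G X) (psmul a (fst G X)⁻¹ (snd G X))
  hom_inv_id := by
    rw [comp_lift, comp_psmul, GrpObj.comp_inv, lift_fst, lift_snd, ← mul_psmul, inv_mul_cancel,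
      one_psmul, lift_fst_snd]
  inv_hom_id := by
    rw [comp_lift, comp_psmul, lift_fst, lift_snd, ← mul_psmul, mul_inv_cancel,
      one_psmul, lift_fst_snd]

lemma shear_hom_snd (a : AlgGrp.Action G X) : (shear a).hom ≫ snd G X = a.act := by
  simp [shear, psmul]

/-- Any property stable under base change and isomorphisms passes from `G → S` to the action map. -/
lemma act_left_of_isStableUnderBaseChange (P : MorphismProperty Scheme.{u})
    [P.IsStableUnderBaseChange] (a : AlgGrp.Action G X) (h : P G.hom) :
    P a.act.left := by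
  have : P.RespectsIso := MorphismProperty.IsStableUnderBaseChange.respectsIso
  rw [← shear_hom_snd a, Over.comp_left]
  have : IsIso (shear a).hom.left := (Over.forget S).map_isIso (shear a).hom
  rw [P.cancel_left_of_respectsIso]
  rw [Over.snd_left]
  exact P.pullback_snd _ _ h

end Groth.Agent.Lib.Helper95
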