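import Mathlib

/-!
# Grading on the quotient of a graded algebra by a homogeneous ideal (helper95)
-/

set_option autoImplicit false
set_option linter.unusedSectionVars false

namespace Groth.Agent.Lib.Helper95.GradedQuotRing

open DirectSum

variable {ι R A : Type*} [DecidableEq ι] [AddMonoid ι] [CommRing R] [CommRing A] [Algebra R A]
  (𝒜 : ι → Submodule R A) [GradedAlgebra 𝒜] (I : Ideal A)

/-- pieces of the quotient: images of the pieces -/
def qpiece (d : ι) : Submodule R (A ⧸ I) := (𝒜 d).map (Ideal.Quotient.mkₐ R I).toLinearMap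

theorem mem_qpiece_iff {d : ι} {x : A ⧸ I} :
    x ∈ qpiece 𝒜 I d ↔ ∃ a ∈ 𝒜 d, Ideal.Quotient.mk I a = x := by
  unfold qpiece
  rw [Submodule.mem_map]
  rfl

theorem mk_mem_qpiece {d : ι} {a : A} (ha : a ∈ 𝒜 d) : Ideal.Quotient.mk I a ∈ qpiece 𝒜 I d :=
  (mem_qpiece_iff 𝒜 I).mpr ⟨a, ha, rfl⟩

instance gradedMonoid : SetLike.GradedMonoid (qpiece 𝒜 I) where
  one_mem := by
    have h := mk_mem_qpiece 𝒜 I (SetLike.GradedOne.one_mem (A := 𝒜))
    simpa using h
  mul_mem := by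
    rintro i j x y hx hy
    obtain ⟨a, ha, rfl⟩ := (mem_qpiece_iff 𝒜 I).mp hx
    obtain ⟨b, hb, rfl⟩ := (mem_qpiece_iff 𝒜 I).mp hy
    rw [← map_mul]
    exact mk_mem_qpiece 𝒜 I (SetLike.GradedMul.mul_mem ha hb)

/-- restriction of `mk` to pieces -/
def mkPiece (d : ι) : 𝒜 d →+ qpiece 𝒜 I d where
  toFun y := ⟨Ideal.Quotient.mk I y.1, mk_mem_qpiece 𝒜 I y.2⟩
  map_zero' := by ext; simp
  map_add' a b := by ext; simp

noncomputable def preDecomp : A →+ ⨁ d, qpiece 𝒜 I d :=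
  (DirectSum.map (mkPiece 𝒜 I)).comp (DirectSum.decomposeAddEquiv 𝒜).toAddMonoidHom

theorem preDecomp_of_mem {d : ι} {a : A} (ha : a ∈ 𝒜 d) :
    preDecomp 𝒜 I a =
      DirectSum.of (fun d => qpiece 𝒜 I d) d ⟨Ideal.Quotient.mk I a, mk_mem_qpiece 𝒜 I ha⟩ := by
  unfold preDecomp
  rw [AddMonoidHom.comp_apply]
  change DirectSum.map _ (DirectSum.decompose 𝒜 a) = _
  rw [DirectSum.decompose_of_mem 𝒜 ha, DirectSum.map_of]
  rfl

theorem preDecomp_eq_zero (hI : I.IsHomogeneous 𝒜) {x : A} (hx : x ∈ I) :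
    preDecomp 𝒜 I x = 0 := by
  classical
  rw [← DirectSum.sum_support_decompose 𝒜 x, map_sum]
  apply Finset.sum_eq_zero
  intro d _
  rw [preDecomp_of_mem 𝒜 I (SetLike.coe_mem _)]
  have h1 : Ideal.Quotient.mk I (DirectSum.decompose 𝒜 x d : A) = 0 :=
    Ideal.Quotient.eq_zero_iff_mem.mpr (hI d hx)
  have h2 : (⟨Ideal.Quotient.mk I (DirectSum.decompose 𝒜 x d : A),
      mk_mem_qpiece 𝒜 I (SetLike.coe_mem _)⟩ : qpiece 𝒜 I d) = 0 := Subtype.ext h1
  rw [h2, map_zero]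

noncomputable def qDecomp (hI : I.IsHomogeneous 𝒜) : (A ⧸ I) →+ ⨁ d, qpiece 𝒜 I d :=
  QuotientAddGroup.lift I.toAddSubgroup (preDecomp 𝒜 I)
    (fun _ hx => preDecomp_eq_zero 𝒜 I hI hx)

theorem qDecomp_mk (hI : I.IsHomogeneous 𝒜) (x : A) :
    qDecomp 𝒜 I hI (Ideal.Quotient.mk I x) = preDecomp 𝒜 I x := rfl

/-- The decomposition on the quotient by a homogeneous ideal. -/
@[reducible] noncomputable def quotDecomposition (hI : I.IsHomogeneous 𝒜) :
    DirectSum.Decomposition (qpiece 𝒜 I) :=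
  DirectSum.Decomposition.ofAddHom (qpiece 𝒜 I) (qDecomp 𝒜 I hI)
    (by
      ext x
      obtain ⟨x, rfl⟩ := Ideal.Quotient.mk_surjective x
      rw [AddMonoidHom.comp_apply, qDecomp_mk, AddMonoidHom.id_apply]
      induction x using DirectSum.Decomposition.inductionOn 𝒜 with
      | zero => simp
      | @homogeneous g y =>
        obtain ⟨y, hy⟩ := y
        rw [preDecomp_of_mem 𝒜 I hy, DirectSum.coeAddMonoidHom_of]
      | add y y' hy hy' => rw [map_add, map_add, hy, hy', map_add])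
    (by
      apply DirectSum.addHom_ext
      intro g x
      obtain ⟨x, hx⟩ := x
      obtain ⟨y, hy, rfl⟩ := (mem_qpiece_iff 𝒜 I).mp hx
      rw [AddMonoidHom.comp_apply, DirectSum.coeAddMonoidHom_of]
      change qDecomp 𝒜 I hI (Ideal.Quotient.mk I y) = _
      rw [qDecomp_mk, preDecomp_of_mem 𝒜 I hy]
      rfl)

/-- The quotient of a graded algebra by a homogeneous ideal is graded by the images. -/
@[reducible] noncomputable def quotGradedAlgebra (hI : I.IsHomogeneous 𝒜) :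
    GradedAlgebra (qpiece 𝒜 I) :=
  { gradedMonoid 𝒜 I, quotDecomposition 𝒜 I hI with }

end Groth.Agent.Lib.Helper95.GradedQuotRing
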