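import Mathlib

/-!
# `A[X]/(f)` for monic `f` is etale iff `f'` is a unit in it (helper95)
-/

set_option autoImplicit false

namespace Groth.Agent.Lib.Helper95.AdjoinRootEtale

open Polynomial

variable {A : Type*} [CommRing A]

/-- If `f` is monic and `f'` is a unit modulo `f`, then `A[X]/(f)` is etale over `A`. -/
theorem etale_of_isUnit_derivative (f : A[X]) (hf : f.Monic)
    (hu : IsUnit (AdjoinRoot.mk f (derivative f))) : Algebra.Etale A (AdjoinRoot f) := by
  obtain ⟨b, hb⟩ := hu.exists_right_inv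
  obtain ⟨p₁, rfl⟩ := AdjoinRoot.mk_surjective b
  rw [← map_mul, ← map_one (AdjoinRoot.mk f), ← sub_eq_zero, ← map_sub, AdjoinRoot.mk_eq_zero]
    at hb
  obtain ⟨c, hc⟩ := hb
  let P : StandardEtalePair A := ⟨f, hf, 1, p₁, -c, 1, by
    rw [pow_one]
    linear_combination hc⟩
  let e1 : P.Ring ≃ₐ[A] Localization.Away (AdjoinRoot.mk P.f P.g) := P.equivAwayAdjoinRoot
  have hg : AdjoinRoot.mk P.f P.g = 1 := map_one _
  have hloc : IsLocalization.Away (1 : AdjoinRoot f) (Localization.Away (AdjoinRoot.mk P.f P.g)) := by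
    have h := (inferInstance :
      IsLocalization.Away (AdjoinRoot.mk P.f P.g) (Localization.Away (AdjoinRoot.mk P.f P.g)))
    rw [hg] at h
    exact h
  let e2 : AdjoinRoot f ≃ₐ[AdjoinRoot f] Localization.Away (AdjoinRoot.mk P.f P.g) :=
    IsLocalization.atOne (AdjoinRoot f) _
  exact Algebra.Etale.of_equiv (e1.trans (e2.restrictScalars A).symm)

section Converse

variable (f : A[X])

/-- The additive map `g ↦ g' mod (f, f')` on `A[X]/(f)`. -/
noncomputable def D0 :
    AdjoinRoot f →+ (AdjoinRoot f ⧸ Ideal.span {AdjoinRoot.mk f (derivative f)}) :=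
  QuotientAddGroup.lift (Ideal.span {f}).toAddSubgroup
    ((Ideal.Quotient.mk (Ideal.span {AdjoinRoot.mk f (derivative f)})).toAddMonoidHom.comp
      ((AdjoinRoot.mk f).toAddMonoidHom.comp (derivative (R := A)).toAddMonoidHom))
    (by
      intro g hg
      obtain ⟨h, rfl⟩ := Ideal.mem_span_singleton.mp hg
      change Ideal.Quotient.mk _ (AdjoinRoot.mk f (derivative (f * h))) = 0
      rw [derivative_mul, map_add, map_mul, map_mul, AdjoinRoot.mk_self, zero_mul, add_zero,
        Ideal.Quotient.eq_zero_iff_mem]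
      exact Ideal.mul_mem_right _ _ (Ideal.subset_span rfl))

theorem D0_mk (g : A[X]) :
    D0 f (AdjoinRoot.mk f g) = Ideal.Quotient.mk _ (AdjoinRoot.mk f (derivative g)) := rfl

/-- The derivation `A[X]/(f) → A[X]/(f, f')`. -/
noncomputable def Dder :
    Derivation A (AdjoinRoot f) (AdjoinRoot f ⧸ Ideal.span {AdjoinRoot.mk f (derivative f)}) :=
  Derivation.mk'
    { toFun := D0 f
      map_add' := map_add _
      map_smul' := by
        intro a b
        obtain ⟨g, rfl⟩ := AdjoinRoot.mk_surjective b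
        rw [RingHom.id_apply, AdjoinRoot.smul_mk, D0_mk, D0_mk, derivative_smul,
          ← AdjoinRoot.smul_mk]
        rfl }
    (by
      intro x y
      obtain ⟨g, rfl⟩ := AdjoinRoot.mk_surjective x
      obtain ⟨h, rfl⟩ := AdjoinRoot.mk_surjective y
      change D0 f (AdjoinRoot.mk f g * AdjoinRoot.mk f h) =
        AdjoinRoot.mk f g • D0 f (AdjoinRoot.mk f h) + AdjoinRoot.mk f h • D0 f (AdjoinRoot.mk f g)
      rw [← map_mul, D0_mk, D0_mk, D0_mk, derivative_mul]
      change _ = Ideal.Quotient.mk _ (AdjoinRoot.mk f g * AdjoinRoot.mk f (derivative h)) +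
        Ideal.Quotient.mk _ (AdjoinRoot.mk f h * AdjoinRoot.mk f (derivative g))
      rw [← map_add]
      congr 1
      rw [map_add, map_mul, map_mul]
      ring)

theorem Dder_mk (g : A[X]) :
    Dder f (AdjoinRoot.mk f g) = Ideal.Quotient.mk _ (AdjoinRoot.mk f (derivative g)) := rfl

/-- If `A[X]/(f)` is formally unramified over `A`, then `f'` is a unit modulo `f`. -/
theorem isUnit_derivative_of_formallyUnramified [Algebra.FormallyUnramified A (AdjoinRoot f)] :
    IsUnit (AdjoinRoot.mk f (derivative f)) := by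
  have hsub : Subsingleton (Ω[AdjoinRoot f⁄A]) := inferInstance
  have h1 : Dder f (AdjoinRoot.mk f X) = Ideal.Quotient.mk _ 1 := by
    rw [Dder_mk, derivative_X, map_one]
  have h0 : Dder f (AdjoinRoot.mk f X) = 0 := by
    rw [← (Dder f).liftKaehlerDifferential_comp_D (AdjoinRoot.mk f X)]
    have hz : KaehlerDifferential.D A (AdjoinRoot f) (AdjoinRoot.mk f X) = 0 :=
      Subsingleton.elim _ _
    rw [hz, map_zero]
  rw [h0] at h1
  have h2 : (1 : AdjoinRoot f) ∈ Ideal.span {AdjoinRoot.mk f (derivative f)} :=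
    Ideal.Quotient.eq_zero_iff_mem.mp h1.symm
  exact Ideal.span_singleton_eq_top.mp ((Ideal.eq_top_iff_one _).mpr h2)

end Converse

end Groth.Agent.Lib.Helper95.AdjoinRootEtale
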