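import Mathlib.RepresentationTheory.Invariants
import Mathlib.LinearAlgebra.TensorProduct.Basic
import Mathlib.SetTheory.Cardinal.Finite

/-! The averaging projector onto invariants when `|G|` is a unit (no `Invertible` instance needed). -/

set_option autoImplicit false
universe u v w w'

namespace Groth.Agent.Lib.Helper95

open TensorProduct

variable {R : Type u} [CommRing R] {G : Type v} [Group G] [Fintype G]
  {M : Type w} [AddCommGroup M] [Module R M] (ρ : Representation R G M)

/-- the averaging operator with a given inverse `c` of `|G|` -/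
noncomputable def avgMap (c : R) : M →ₗ[R] M := c • ∑ g : G, ρ g

lemma avgMap_apply (c : R) (m : M) : avgMap ρ c m = c • ∑ g : G, ρ g m := by
  simp [avgMap, LinearMap.sum_apply]

lemma avgMap_mem_invariants (c : R) (m : M) : avgMap ρ c m ∈ ρ.invariants := by
  intro g
  rw [avgMap_apply, map_smul, map_sum]
  congr 1
  have : ∀ x : G, ρ g (ρ x m) = ρ (g * x) m := fun x => by rw [map_mul]; rfl
  simp only [this]
  exact Fintype.sum_equiv (Equiv.mulLeft g) _ _ (fun x => rfl)

lemma avgMap_of_mem_invariants (c : R) (hc : c * (Fintype.card G : R) = 1) (m : M)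
    (hm : m ∈ ρ.invariants) : avgMap ρ c m = m := by
  rw [avgMap_apply]
  have : ∀ g : G, ρ g m = m := hm
  simp only [this, Finset.sum_const, Finset.card_univ]
  rw [← Nat.cast_smul_eq_nsmul R, smul_smul, hc, one_smul]

/-- the retraction onto the invariants -/
noncomputable def avgProj (c : R) : M →ₗ[R] ρ.invariants :=
  (avgMap ρ c).codRestrict _ (avgMap_mem_invariants ρ c)

lemma avgProj_comp_subtype (c : R) (hc : c * (Fintype.card G : R) = 1) :
    (avgProj ρ c) ∘ₗ ρ.invariants.subtype = LinearMap.id := by
  ext m
  exact avgMap_of_mem_invariants ρ c hc m.1 m.2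

lemma subtype_comp_avgProj (c : R) :
    ρ.invariants.subtype ∘ₗ (avgProj ρ c) = avgMap ρ c := rfl

end Groth.Agent.Lib.Helper95
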