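import Mathlib

/-!
# Finite point sets in `ℙ³` with the Cayley–Bacharach property

Shared toolkit (helper95): linear forms from functionals, heredity of `CB` under removing a plane,
lower bound `n + 2 ≤ |Z|`, collinearity for `|Z| ≤ 2n + 1`.
-/

set_option autoImplicit false
universe u

namespace Groth.Agent.Lib.Helper95.CBPoints

open MvPolynomial

section
variable {k : Type u} [Field k]

/-- the linear form attached to a functional -/
noncomputable def lin (φ : Module.Dual k (Fin 4 → k)) : MvPolynomial (Fin 4) k :=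
  ∑ i : Fin 4, C (φ (fun j => if i = j then 1 else 0)) * X i

lemma lin_hom (φ : Module.Dual k (Fin 4 → k)) : (lin φ).IsHomogeneous 1 := by
  refine IsHomogeneous.sum _ _ _ fun i _ => ?_
  have := (isHomogeneous_C (Fin 4) (φ (fun j => if i = j then 1 else 0))).mul (isHomogeneous_X k i)
  rwa [zero_add] at this

lemma lin_eval (φ : Module.Dual k (Fin 4 → k)) (v : Fin 4 → k) : eval v (lin φ) = φ v := by
  rw [LinearMap.pi_apply_eq_sum_univ φ v, lin, map_sum]
  refine Finset.sum_congr rfl fun i _ => ?_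
  rw [map_mul, eval_C, eval_X, smul_eq_mul, mul_comm]

/-- separating functional -/
lemma exists_sep (W : Submodule k (Fin 4 → k)) (v : Fin 4 → k) (hv : v ∉ W) :
    ∃ φ : Module.Dual k (Fin 4 → k), φ v ≠ 0 ∧ ∀ w ∈ W, φ w = 0 := by
  obtain ⟨f, hf, hf'⟩ := Submodule.exists_dual_map_eq_bot_of_notMem hv inferInstance
  refine ⟨f, hf, fun w hw => ?_⟩
  have : f w ∈ W.map f := Submodule.mem_map_of_mem hw
  rw [hf'] at this
  exact (Submodule.mem_bot k).1 this

/-- The Cayley–Bacharach property in degree `n`. -/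
def CB (Z : Finset (Projectivization k (Fin 4 → k))) (n : ℕ) : Prop :=
  ∀ z ∈ Z, ∀ p : MvPolynomial (Fin 4) k, p.IsHomogeneous n →
    (∀ z' ∈ Z, z' ≠ z → MvPolynomial.eval z'.rep p = 0) → MvPolynomial.eval z.rep p = 0

open Classical in
lemma CB.filter {Z : Finset (Projectivization k (Fin 4 → k))} {n : ℕ} (h : CB Z (n + 1))
    (φ : Module.Dual k (Fin 4 → k)) : CB (Z.filter fun z => φ z.rep ≠ 0) n := by
  intro z hz p hp hvan
  rw [Finset.mem_filter] at hz
  have h1 := h z hz.1 (p * lin φ) (hp.mul (lin_hom φ)) ?_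
  · rw [map_mul, lin_eval] at h1
    exact (mul_eq_zero.1 h1).resolve_right hz.2
  · intro z' hz' hne
    rw [map_mul, lin_eval]
    by_cases hφ : φ z'.rep = 0
    · rw [hφ, mul_zero]
    · rw [hvan z' (Finset.mem_filter.2 ⟨hz', hφ⟩) hne, zero_mul]

lemma rep_notMem_span {z z' : Projectivization k (Fin 4 → k)} (hne : z ≠ z') :
    z.rep ∉ Submodule.span k {z'.rep} := by
  intro hmem
  obtain ⟨c, hc⟩ := Submodule.mem_span_singleton.1 hmem
  apply hne
  rw [← z.mk_rep, ← z'.mk_rep, Projectivization.mk_eq_mk_iff']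
  exact ⟨c, hc⟩

end


section
variable {k : Type u} [Field k]

lemma card_ge_two {Z : Finset (Projectivization k (Fin 4 → k))} {n : ℕ} (h : CB Z n)
    (hne : Z.Nonempty) : 2 ≤ Z.card := by
  by_contra hlt
  push Not at hlt
  obtain ⟨z, hz⟩ := hne
  have hZ : ∀ z' ∈ Z, z' = z := by
    intro z' hz'
    by_contra hne'
    have : 1 < Z.card := Finset.one_lt_card.2 ⟨z', hz', z, hz, hne'⟩
    omega
  obtain ⟨φ, hφ, -⟩ := exists_sep ⊥ z.rep (by simpa using z.rep_nonzero)
  have hh : (lin φ ^ n).IsHomogeneous n := by simpa using (lin_hom φ).pow n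
  have h1 := h z hz (lin φ ^ n) hh (fun z' hz' hne' => absurd (hZ z' hz') hne')
  rw [map_pow, lin_eval] at h1
  exact hφ (eq_zero_of_pow_eq_zero h1)

open Classical in
lemma part1 : ∀ (n : ℕ) (Z : Finset (Projectivization k (Fin 4 → k))), CB Z n → Z.Nonempty →
    n + 2 ≤ Z.card := by
  intro n
  induction n with
  | zero => intro Z h hne; exact card_ge_two h hne
  | succ n ih =>
    intro Z h hne
    have h2 := card_ge_two h hne
    obtain ⟨z, hz, z', hz', hzz'⟩ := Finset.one_lt_card.1 h2
    obtain ⟨φ, hφ, hφ'⟩ := exists_sep (Submodule.span k {z'.rep}) z.rep (rep_notMem_span hzz')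
    have hCB := h.filter φ
    have hne' : (Z.filter fun z => φ z.rep ≠ 0).Nonempty := ⟨z, Finset.mem_filter.2 ⟨hz, hφ⟩⟩
    have h3 := ih _ hCB hne'
    have h4 : (Z.filter fun z => φ z.rep ≠ 0).card < Z.card := by
      refine Finset.card_lt_card (Finset.filter_ssubset.2 ⟨z', hz', ?_⟩)
      rw [not_not]
      exact hφ' _ (Submodule.mem_span_singleton_self _)
    omega

open Classical in
lemma part2 : ∀ (n : ℕ) (Z : Finset (Projectivization k (Fin 4 → k))), CB Z n → Z.Nonempty →
    Z.card ≤ 2 * n + 1 →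
    ∃ W : Submodule k (Fin 4 → k), Module.finrank k ↥W = 2 ∧ ∀ z ∈ Z, z.rep ∈ W := by
  intro n
  induction n with
  | zero =>
    intro Z h hne hcard
    have := part1 0 Z h hne
    omega
  | succ n ih =>
    intro Z h hne hcard
    have h2 := part1 (n + 1) Z h hne
    obtain ⟨a, ha, b, hb, hab⟩ := Finset.one_lt_card.1 (by omega : 1 < Z.card)
    have hli : LinearIndependent k (Projectivization.rep ∘ ![a, b]) :=
      Projectivization.independent_iff.1 ((Projectivization.independent_pair_iff_ne a b).2 hab)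
    set W : Submodule k (Fin 4 → k) := Submodule.span k (Set.range (Projectivization.rep ∘ ![a, b]))
      with hWdef
    have hW : Module.finrank k ↥W = 2 := by
      rw [hWdef, finrank_span_eq_card hli]; rfl
    have haW : a.rep ∈ W := Submodule.subset_span ⟨0, rfl⟩
    have hbW : b.rep ∈ W := Submodule.subset_span ⟨1, rfl⟩
    by_cases hall : ∀ z ∈ Z, z.rep ∈ W
    · exact ⟨W, hW, hall⟩
    push Not at hall
    obtain ⟨z0, hz0, hz0W⟩ := hall
    obtain ⟨φ, hφ, hφ'⟩ := exists_sep W z0.rep hz0W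
    have hCB' := h.filter φ
    have hne' : (Z.filter fun z => φ z.rep ≠ 0).Nonempty := ⟨z0, Finset.mem_filter.2 ⟨hz0, hφ⟩⟩
    have hcard' : (Z.filter fun z => φ z.rep ≠ 0).card + 2 ≤ Z.card := by
      have hsub : (Z.filter fun z => φ z.rep ≠ 0) ⊆ (Z.erase a).erase b := by
        intro z hz
        rw [Finset.mem_filter] at hz
        rw [Finset.mem_erase, Finset.mem_erase]
        refine ⟨?_, ?_, hz.1⟩
        · rintro rfl; exact hz.2 (hφ' _ hbW)
        · rintro rfl; exact hz.2 (hφ' _ haW)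
      have h5 := Finset.card_le_card hsub
      rw [Finset.card_erase_of_mem (Finset.mem_erase.2 ⟨hab.symm, hb⟩), Finset.card_erase_of_mem ha] at h5
      omega
    obtain ⟨W', hW', hall'⟩ := ih _ hCB' hne' (by omega)
    have h3 := part1 n _ hCB' hne'
    by_cases hall2 : ∀ z ∈ Z, z.rep ∈ W'
    · exact ⟨W', hW', hall2⟩
    push Not at hall2
    obtain ⟨z1, hz1, hz1W⟩ := hall2
    obtain ⟨φ1, hφ1, hφ1'⟩ := exists_sep W' z1.rep hz1W
    have hCB'' := h.filter φ1
    have hne'' : (Z.filter fun z => φ1 z.rep ≠ 0).Nonempty := ⟨z1, Finset.mem_filter.2 ⟨hz1, hφ1⟩⟩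
    have h4 := part1 n _ hCB'' hne''
    have hdisj : Disjoint (Z.filter fun z => φ z.rep ≠ 0) (Z.filter fun z => φ1 z.rep ≠ 0) := by
      rw [Finset.disjoint_left]
      intro z hz hz'
      exact (Finset.mem_filter.1 hz').2 (hφ1' _ (hall' z hz))
    have h6 : (Z.filter fun z => φ z.rep ≠ 0).card + (Z.filter fun z => φ1 z.rep ≠ 0).card ≤ Z.card := by
      rw [← Finset.card_union_of_disjoint hdisj]
      exact Finset.card_le_card (Finset.union_subset (Finset.filter_subset _ _) (Finset.filter_subset _ _))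
    omega

end


end Groth.Agent.Lib.Helper95.CBPoints
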