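import Mathlib
import Groth.Prelude.Def_FlatCA

/-!
Helper library for S8999: purity along a fibre is insensitive to pushing forward along a closed
immersion.
-/

set_option autoImplicit false
universe u

namespace Groth.Agent.Lib.Helper95.PureClosedImm

open TensorProduct

section Lbc

variable {R S R' S' : Type*} [CommRing R] [CommRing S] [CommRing R'] [CommRing S']
  [Algebra R S] [Algebra R R'] [Algebra S S'] [Algebra R' S'] [Algebra R S']
  [IsScalarTower R S S'] [IsScalarTower R R' S']
  {M M' : Type*} [AddCommGroup M] [Module R M] [Module S M] [IsScalarTower R S M]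
  [AddCommGroup M'] [Module R M'] [Module S M'] [Module R' M'] [Module S' M']
  [IsScalarTower R S M'] [IsScalarTower R R' M'] [IsScalarTower S S' M'] [IsScalarTower R' S' M']

/-- Base change along the top of a pushout square can be checked along the bottom. -/
theorem isBaseChange_restrict_of_pushout (hpo : Algebra.IsPushout R S R' S') (f : M →ₗ[S] M')
    (hf : IsBaseChange S' f) : IsBaseChange R' (f.restrictScalars R) := by
  haveI : Algebra.IsPushout R R' S S' := hpo.symm
  let e : S' ⊗[S] M ≃ₗ[R'] R' ⊗[R] M := Algebra.IsPushout.cancelBaseChange R R' S S' M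
  refine IsBaseChange.of_equiv (e.symm ≪≫ₗ (hf.equiv.restrictScalars R')) fun x => ?_
  simp [e, IsBaseChange.equiv_tmul]

theorem isBaseChange_of_restrict_of_pushout (hpo : Algebra.IsPushout R S R' S') (f : M →ₗ[S] M')
    (hf : IsBaseChange R' (f.restrictScalars R)) : IsBaseChange S' f := by
  haveI : Algebra.IsPushout R R' S S' := hpo.symm
  let e : S' ⊗[S] M ≃ₗ[R'] R' ⊗[R] M := Algebra.IsPushout.cancelBaseChange R R' S S' M
  let Φ : S' ⊗[S] M →ₗ[S'] M' := f.liftBaseChange S'
  have key : ∀ y : R' ⊗[R] M, Φ (e.symm y) = hf.equiv y := by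
    intro y
    induction y using TensorProduct.induction_on with
    | zero => simp
    | add x y hx hy => simp only [map_add, hx, hy]
    | tmul r m =>
      simp [e, Φ, IsBaseChange.equiv_tmul]
  have hbij : Function.Bijective Φ := by
    have : (Φ : S' ⊗[S] M → M') = (hf.equiv : R' ⊗[R] M → M') ∘ (e : S' ⊗[S] M → R' ⊗[R] M) := by
      funext x
      have := key (e x)
      simpa using this
    rw [this]
    exact hf.equiv.bijective.comp e.bijective
  exact IsBaseChange.of_equiv (LinearEquiv.ofBijective Φ hbij) fun x => by simp [Φ]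

end Lbc

section AssSemilinear

variable {R R' : Type*} [CommRing R] [CommRing R'] (φ : R →+* R') (hφ : Function.Surjective φ)
  {M M' : Type*} [AddCommGroup M] [Module R M] [AddCommGroup M'] [Module R' M']
  (ψ : M ≃+ M') (hψ : ∀ (r : R) (m : M), ψ (r • m) = φ r • ψ m)

include hψ in
theorem mem_radical_colon_iff (r : R) (x : M) :
    r ∈ (Submodule.colon (⊥ : Submodule R M) {x}).radical ↔
      φ r ∈ (Submodule.colon (⊥ : Submodule R' M') {ψ x}).radical := by
  simp only [Ideal.mem_radical_iff, Submodule.mem_colon_singleton, Submodule.mem_bot]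
  constructor
  · rintro ⟨n, hn⟩
    refine ⟨n, ?_⟩
    rw [← map_pow, ← hψ, hn, map_zero]
  · rintro ⟨n, hn⟩
    refine ⟨n, ?_⟩
    rw [← map_pow, ← hψ] at hn
    exact (map_eq_zero_iff ψ ψ.injective).mp hn

include hψ in
theorem isAssociatedPrime_comap_of (q' : Ideal R') (h : IsAssociatedPrime q' M') :
    IsAssociatedPrime (q'.comap φ) M := by
  obtain ⟨hq, x', hx'⟩ := h
  haveI := hq
  refine ⟨Ideal.comap_isPrime φ q', ψ.symm x', ?_⟩
  ext r
  rw [mem_radical_colon_iff φ ψ hψ, Ideal.mem_comap, hx']
  simp

include hφ hψ in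
theorem isAssociatedPrime_map_of (Q : Ideal R) (h : IsAssociatedPrime Q M) :
    RingHom.ker φ ≤ Q ∧ IsAssociatedPrime (Q.map φ) M' := by
  obtain ⟨hQ, x, hx⟩ := h
  haveI := hQ
  have hker : RingHom.ker φ ≤ Q := by
    intro r hr
    rw [hx]
    apply Ideal.le_radical
    rw [Submodule.mem_colon_singleton, Submodule.mem_bot]
    apply ψ.injective
    rw [hψ, hr, zero_smul, map_zero]
  refine ⟨hker, Ideal.map_isPrime_of_surjective hφ hker, ψ x, ?_⟩
  ext r'
  obtain ⟨r, rfl⟩ := hφ r'
  rw [← mem_radical_colon_iff φ ψ hψ, ← hx]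
  constructor
  · intro h
    have := Ideal.mem_comap.mpr h
    rwa [Ideal.comap_map_of_surjective φ hφ, sup_eq_left.mpr] at this
    exact hker
  · exact Ideal.mem_map_of_mem φ

end AssSemilinear

section K

attribute [local instance] Algebra.TensorProduct.rightAlgebra

variable {A' : Type u} (B' C' : Type u) [CommRing A'] [CommRing B'] [CommRing C'] [Algebra A' B']
  [Algebra A' C'] [Algebra B' C'] [IsScalarTower A' B' C']
  (N' : Type u) [AddCommGroup N'] [Module A' N'] [Module B' N'] [Module C' N']
  [IsScalarTower A' B' N'] [IsScalarTower A' C' N'] [IsScalarTower B' C' N']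
  (t' : Ideal A') [t'.IsPrime]

/-- The map of fibre rings induced by `B' → C'`. -/
noncomputable def fiberMap : t'.Fiber B' →ₐ[t'.ResidueField] t'.Fiber C' :=
  Algebra.TensorProduct.map (AlgHom.id _ _) (IsScalarTower.toAlgHom A' B' C')

omit [IsScalarTower A' B' C'] in
theorem isBaseChange_fiber (S : Type u) [CommRing S] [Algebra A' S] [Module S N']
    [IsScalarTower A' S N'] :
    IsBaseChange t'.ResidueField
      ((TensorProduct.mk S (t'.Fiber S) N' 1).restrictScalars A') :=
  isBaseChange_restrict_of_pushout inferInstance _ (TensorProduct.isBaseChange S N' (t'.Fiber S))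

/-- Both fibre modules are the base change of `N'` to the residue field. -/
noncomputable def fiberModEquiv :
    ((t'.Fiber B') ⊗[B'] N') ≃ₗ[t'.ResidueField] ((t'.Fiber C') ⊗[C'] N') :=
  (isBaseChange_fiber N' t' B').equiv.symm ≪≫ₗ (isBaseChange_fiber N' t' C').equiv

theorem fiberModEquiv_one_tmul (n : N') :
    fiberModEquiv B' C' N' t' ((1 : t'.Fiber B') ⊗ₜ[B'] n) = (1 : t'.Fiber C') ⊗ₜ[C'] n := by
  have h1 := (isBaseChange_fiber N' t' B').equiv_symm_apply n
  simp only [LinearMap.coe_restrictScalars, TensorProduct.mk_apply] at h1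
  simp only [fiberModEquiv, LinearEquiv.trans_apply, h1, IsBaseChange.equiv_tmul, one_smul,
    LinearMap.coe_restrictScalars, TensorProduct.mk_apply]

theorem fiberModEquiv_smul_base (b : B') (m : (t'.Fiber B') ⊗[B'] N') :
    fiberModEquiv B' C' N' t' (b • m) = (algebraMap B' C' b) • fiberModEquiv B' C' N' t' m := by
  refine (isBaseChange_fiber N' t' B').inductionOn m _ ?_ ?_ ?_ ?_
  · simp
  · intro n
    simp only [LinearMap.coe_restrictScalars, TensorProduct.mk_apply]
    rw [← TensorProduct.tmul_smul, fiberModEquiv_one_tmul, fiberModEquiv_one_tmul,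
      ← TensorProduct.tmul_smul, algebraMap_smul]
  · intro k m hm
    rw [smul_comm, map_smul, hm, map_smul, smul_comm]
  · intro m₁ m₂ h₁ h₂
    rw [smul_add, map_add, h₁, h₂, map_add, smul_add]

theorem fiberModEquiv_smul (x : t'.Fiber B') (m : (t'.Fiber B') ⊗[B'] N') :
    fiberModEquiv B' C' N' t' (x • m) = fiberMap B' C' t' x • fiberModEquiv B' C' N' t' m := by
  induction x using TensorProduct.induction_on with
  | zero => simp
  | add x y hx hy => rw [add_smul, map_add, hx, hy, map_add, add_smul]
  | tmul k b =>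
    have e1 : (k ⊗ₜ[A'] b : t'.Fiber B') = k • algebraMap B' (t'.Fiber B') b := by
      rw [Algebra.TensorProduct.right_algebraMap_apply, TensorProduct.smul_tmul', smul_eq_mul,
        mul_one]
    have e2 : fiberMap B' C' t' (k ⊗ₜ[A'] b : t'.Fiber B') =
        k • algebraMap C' (t'.Fiber C') (algebraMap B' C' b) := by
      rw [Algebra.TensorProduct.right_algebraMap_apply, TensorProduct.smul_tmul', smul_eq_mul,
        mul_one]
      simp [fiberMap]
    rw [e2, e1, smul_assoc, algebraMap_smul (t'.Fiber B'), map_smul, fiberModEquiv_smul_base,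
      smul_assoc, algebraMap_smul (t'.Fiber C')]

end K

section K2

attribute [local instance] Algebra.TensorProduct.rightAlgebra

variable {A' : Type u} (B' C' : Type u) [CommRing A'] [CommRing B'] [CommRing C'] [Algebra A' B']
  [Algebra A' C'] [Algebra B' C'] [IsScalarTower A' B' C']
  (hπ : Function.Surjective (algebraMap B' C'))
  (t' : Ideal A') [t'.IsPrime]

include hπ in
theorem fiberMap_surjective : Function.Surjective (fiberMap B' C' t') := by
  have : Function.Surjective (IsScalarTower.toAlgHom A' B' C') := hπ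
  exact Algebra.TensorProduct.map_surjective (AlgHom.id t'.ResidueField t'.ResidueField)
    (IsScalarTower.toAlgHom A' B' C') Function.surjective_id this

theorem fiberMap_includeRight (b : B') :
    fiberMap B' C' t' ((1 : t'.ResidueField) ⊗ₜ[A'] b) = (1 : t'.ResidueField) ⊗ₜ[A'] algebraMap B' C' b := by
  simp [fiberMap]

include hπ in
theorem ker_fiberMap :
    RingHom.ker (fiberMap B' C' t') = FlatCA.fiberIdeal t' (RingHom.ker (algebraMap B' C')) := by
  have : Function.Surjective (IsScalarTower.toAlgHom A' B' C') := hπ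
  have h := Algebra.TensorProduct.lTensor_ker (A := t'.ResidueField)
    (IsScalarTower.toAlgHom A' B' C') this
  exact h

include hπ in
theorem fiberIdeal_comap (P : Ideal C') :
    FlatCA.fiberIdeal t' (P.comap (algebraMap B' C')) =
      (FlatCA.fiberIdeal t' P).comap (fiberMap B' C' t') := by
  apply le_antisymm
  · rw [FlatCA.fiberIdeal, Ideal.map_le_iff_le_comap]
    intro b hb
    rw [Ideal.mem_comap] at hb
    rw [Ideal.mem_comap, Ideal.mem_comap]
    change fiberMap B' C' t' ((1 : t'.ResidueField) ⊗ₜ[A'] b) ∈ _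
    rw [fiberMap_includeRight]
    exact Ideal.mem_map_of_mem _ hb
  · intro x hx
    rw [Ideal.mem_comap] at hx
    have hP : FlatCA.fiberIdeal t' P =
        (FlatCA.fiberIdeal t' (P.comap (algebraMap B' C'))).map (fiberMap B' C' t') := by
      conv_lhs => rw [← Ideal.map_comap_of_surjective (algebraMap B' C') hπ P]
      change _ = Ideal.map (fiberMap B' C' t').toRingHom _
      rw [FlatCA.fiberIdeal, FlatCA.fiberIdeal, Ideal.map_map, Ideal.map_map]
      congr 1 <;> (ext b; simp [fiberMap])
    rw [hP] at hx
    have hx' : x ∈ ((FlatCA.fiberIdeal t' (P.comap (algebraMap B' C'))).map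
        (fiberMap B' C' t')).comap (fiberMap B' C' t') := hx
    rw [Ideal.comap_map_of_surjective (fiberMap B' C' t') (fiberMap_surjective B' C' hπ t')] at hx'
    have hle : Ideal.comap (fiberMap B' C' t') ⊥ ≤
        FlatCA.fiberIdeal t' (P.comap (algebraMap B' C')) := by
      have : Ideal.comap (fiberMap B' C' t') ⊥ = RingHom.ker (fiberMap B' C' t') := rfl
      rw [this, ker_fiberMap B' C' hπ t']
      exact Ideal.map_mono (Ideal.comap_mono bot_le)
    rwa [sup_eq_left.mpr hle] at hx'

end K2

section Contract

attribute [local instance] Algebra.TensorProduct.rightAlgebra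

variable {A' : Type u} [CommRing A'] (t' : Ideal A') [t'.IsPrime]

theorem comap_fiberIdeal_le (S : Type u) [CommRing S] [Algebra A' S] (Q : Ideal S)
    [hQ : Q.IsPrime] [hQt : Q.LiesOver t'] :
    (FlatCA.fiberIdeal t' Q).comap
      (Algebra.TensorProduct.includeRight (R := A') (A := t'.ResidueField) (B := S)).toRingHom
        ≤ Q := by
  let e := PrimeSpectrum.primesOverOrderIsoFiber A' S t'
  let Q' : t'.primesOver S := ⟨Q, hQ, hQt⟩
  have h1 : ((e.symm (e Q') : t'.primesOver S) : Ideal S) = Q := by rw [e.symm_apply_apply]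
  rw [PrimeSpectrum.coe_primesOverOrderIsoFiber_symm_apply] at h1
  have h2 : FlatCA.fiberIdeal t' Q ≤ (e Q').asIdeal := by
    rw [FlatCA.fiberIdeal, Ideal.map_le_iff_le_comap]
    exact h1.ge
  exact (Ideal.comap_mono h2).trans h1.le

end Contract

section KMain

attribute [local instance] Algebra.TensorProduct.rightAlgebra

/-- The three conditions on the prime `P` in an impurity. -/
def ImpCond {A' : Type u} (S N' : Type u) [CommRing A'] [CommRing S] [Algebra A' S]
    [AddCommGroup N'] [Module S N'] [Module A' N'] [IsScalarTower A' S N']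
    (t' t : Ideal A') [t'.IsPrime] [t.IsPrime] (P : Ideal S) [P.IsPrime] : Prop :=
  P.LiesOver t' ∧
    FlatCA.fiberIdeal t' P ∈ associatedPrimes (t'.Fiber S) (FlatCA.fiberMod t' S N') ∧
    ∀ (P' : Ideal S) [P'.IsPrime], P ≤ P' → ¬ P'.LiesOver t

variable {A' : Type u} (B' C' : Type u) [CommRing A'] [CommRing B'] [CommRing C'] [Algebra A' B']
  [Algebra A' C'] [Algebra B' C'] [IsScalarTower A' B' C']
  (hπ : Function.Surjective (algebraMap B' C'))
  (N' : Type u) [AddCommGroup N'] [Module A' N'] [Module B' N'] [Module C' N']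
  [IsScalarTower A' B' N'] [IsScalarTower A' C' N'] [IsScalarTower B' C' N']
  (t' t : Ideal A') [t'.IsPrime] [t.IsPrime]

omit [t'.IsPrime] [t.IsPrime] in
theorem under_comap (P : Ideal C') :
    (P.comap (algebraMap B' C')).under A' = P.under A' := by
  ext a
  simp only [Ideal.under, Ideal.mem_comap, ← IsScalarTower.algebraMap_apply]

include hπ in
theorem impCond_comap (P : Ideal C') [P.IsPrime]
    (h : ImpCond C' N' t' t P) :
    ImpCond B' N' t' t (P.comap (algebraMap B' C')) := by
  obtain ⟨h1, h2, h3⟩ := h
  refine ⟨⟨?_⟩, ?_, ?_⟩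
  · rw [under_comap]; exact h1.over
  · rw [fiberIdeal_comap B' C' hπ t' P]
    exact isAssociatedPrime_comap_of (fiberMap B' C' t').toRingHom
      (fiberModEquiv B' C' N' t').toAddEquiv (fiberModEquiv_smul B' C' N' t') _ h2
  · intro Q' hQ' hle hQt
    have hker : RingHom.ker (algebraMap B' C') ≤ Q' :=
      le_trans (Ideal.comap_mono bot_le) hle
    haveI : (Q'.map (algebraMap B' C')).IsPrime := Ideal.map_isPrime_of_surjective hπ hker
    have hcm : (Q'.map (algebraMap B' C')).comap (algebraMap B' C') = Q' := by
      rw [Ideal.comap_map_of_surjective _ hπ, sup_eq_left]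
      exact hker
    refine h3 (Q'.map (algebraMap B' C')) ?_ ⟨?_⟩
    · rw [← Ideal.map_comap_of_surjective (algebraMap B' C') hπ P]
      exact Ideal.map_mono hle
    · rw [← under_comap B' C', hcm]; exact hQt.over

include hπ in
theorem impCond_map (Q : Ideal B') [Q.IsPrime]
    (h : ImpCond B' N' t' t Q) :
    ∃ (P : Ideal C') (_ : P.IsPrime), ImpCond C' N' t' t P := by
  obtain ⟨h1, h2, h3⟩ := h
  haveI := h1
  obtain ⟨hk, hass⟩ := isAssociatedPrime_map_of (fiberMap B' C' t').toRingHom
    (fiberMap_surjective B' C' hπ t')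
    (fiberModEquiv B' C' N' t').toAddEquiv (fiberModEquiv_smul B' C' N' t') _ h2
  have hker : RingHom.ker (algebraMap B' C') ≤ Q := by
    intro b hb
    apply comap_fiberIdeal_le t' B' Q
    rw [Ideal.mem_comap]
    apply hk
    rw [RingHom.mem_ker]
    change fiberMap B' C' t' ((1 : t'.ResidueField) ⊗ₜ[A'] b) = 0
    rw [fiberMap_includeRight, (RingHom.mem_ker).mp hb, TensorProduct.tmul_zero]
  haveI hP : (Q.map (algebraMap B' C')).IsPrime := Ideal.map_isPrime_of_surjective hπ hker
  have hcm : (Q.map (algebraMap B' C')).comap (algebraMap B' C') = Q := by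
    rw [Ideal.comap_map_of_surjective _ hπ, sup_eq_left]
    exact hker
  refine ⟨Q.map (algebraMap B' C'), hP, ⟨?_⟩, ?_, ?_⟩
  · rw [← under_comap B' C', hcm]; exact h1.over
  · have e : FlatCA.fiberIdeal t' (Q.map (algebraMap B' C')) =
        (FlatCA.fiberIdeal t' Q).map (fiberMap B' C' t').toRingHom := by
      have := fiberIdeal_comap B' C' hπ t' (Q.map (algebraMap B' C'))
      rw [hcm] at this
      rw [this]
      exact (Ideal.map_comap_of_surjective _ (fiberMap_surjective B' C' hπ t') _).symm
    rw [e]
    exact hass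
  · intro P' hP' hle hPt
    refine h3 (P'.comap (algebraMap B' C')) ?_ ⟨?_⟩
    · rw [← hcm]; exact Ideal.comap_mono hle
    · rw [under_comap]; exact hPt.over

end KMain

section T1

attribute [local instance] Algebra.TensorProduct.rightAlgebra

variable {A B C : Type u} [CommRing A] [CommRing B] [CommRing C] [Algebra A B] [Algebra B C]
  [Algebra A C] [IsScalarTower A B C] (hBC : Function.Surjective (algebraMap B C))
  (N : Type u) [AddCommGroup N] [Module C N] [Module B N] [IsScalarTower B C N]
  (p : Ideal A) [p.IsPrime]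

include hBC in
/-- An impurity of `N` as a `C`-module gives one of `N` as a `B`-module over the same base. -/
theorem exists_impurity_B_of_C
    (A' C' N' : Type u) [CommRing A'] [CommRing C'] [Algebra A A'] [Algebra C C']
    [Algebra A' C'] [Algebra A C'] [IsScalarTower A C C'] [IsScalarTower A A' C']
    [AddCommGroup N'] [Module C' N'] [Module C N'] [IsScalarTower C C' N'] [Module A' N']
    [IsScalarTower A' C' N'] (f : N →ₗ[C] N') (t' t : Ideal A') [t'.IsPrime] [t.IsPrime]
    (P : Ideal C') [P.IsPrime] (h : FlatCA.IsImpurity A C N p A' C' N' f t' t P) :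
    ∃ (B' N'' : Type u) (_ : CommRing B') (_ : Algebra B B') (_ : Algebra A' B')
      (_ : Algebra A B') (_ : IsScalarTower A B B') (_ : IsScalarTower A A' B')
      (_ : AddCommGroup N'') (_ : Module B' N'') (_ : Module B N'') (_ : IsScalarTower B B' N'')
      (_ : Module A' N'') (_ : IsScalarTower A' B' N'') (f'' : N →ₗ[B] N'')
      (Q : Ideal B') (_ : Q.IsPrime), FlatCA.IsImpurity A B N p A' B' N'' f'' t' t Q := by
  obtain ⟨hpo, hbc, htt, htp, hPt, hass, hcl⟩ := h
  -- the algebra structures
  letI algBC' : Algebra B C' := ((algebraMap C C').comp (algebraMap B C)).toAlgebra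
  haveI : IsScalarTower B C C' := IsScalarTower.of_algebraMap_eq fun _ => rfl
  haveI : IsScalarTower A B C' := IsScalarTower.of_algebraMap_eq fun a => by
    rw [IsScalarTower.algebraMap_apply B C C', ← IsScalarTower.algebraMap_apply A B C,
      ← IsScalarTower.algebraMap_apply A C C']
  let π : B ⊗[A] A' →ₐ[A] C' :=
    Algebra.TensorProduct.productMap (IsScalarTower.toAlgHom A B C') (IsScalarTower.toAlgHom A A' C')
  letI algB'C' : Algebra (B ⊗[A] A') C' := π.toRingHom.toAlgebra
  have hπ_def : ∀ x, algebraMap (B ⊗[A] A') C' x = π x := fun _ => rfl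
  haveI : IsScalarTower A' (B ⊗[A] A') C' := IsScalarTower.of_algebraMap_eq fun a' => by
    rw [hπ_def, Algebra.TensorProduct.right_algebraMap_apply]
    simp [π]
  have hπ : Function.Surjective (algebraMap (B ⊗[A] A') C') := by
    intro c'
    refine hpo.out.inductionOn c' _ ⟨0, map_zero _⟩ ?_ ?_ ?_
    · intro a'
      exact ⟨1 ⊗ₜ a', by simp [hπ_def, π]⟩
    · rintro c x ⟨y, rfl⟩
      obtain ⟨b, rfl⟩ := hBC c
      refine ⟨(b ⊗ₜ 1) * y, ?_⟩
      rw [map_mul, Algebra.smul_def]
      congr 1
      simp [hπ_def, π, IsScalarTower.algebraMap_apply B C C']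
    · rintro x y ⟨x', rfl⟩ ⟨y', rfl⟩
      exact ⟨x' + y', map_add _ _ _⟩
  -- the module structures
  letI modB' : Module (B ⊗[A] A') N' := Module.compHom N' (algebraMap (B ⊗[A] A') C')
  letI modB : Module B N' := Module.compHom N' (algebraMap B C)
  haveI : IsScalarTower (B ⊗[A] A') C' N' := IsScalarTower.of_algebraMap_smul fun _ _ => rfl
  haveI : IsScalarTower B C N' := IsScalarTower.of_algebraMap_smul fun _ _ => rfl
  haveI : IsScalarTower B (B ⊗[A] A') N' := IsScalarTower.of_algebraMap_smul fun b x => by
    change algebraMap (B ⊗[A] A') C' (algebraMap B (B ⊗[A] A') b) • x = algebraMap B C b • x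
    rw [← algebraMap_smul C' (algebraMap B C b) x]
    congr 1
    simp [hπ_def, π, IsScalarTower.algebraMap_apply B C C']
  haveI : IsScalarTower A' (B ⊗[A] A') N' := IsScalarTower.of_algebraMap_smul fun a' x => by
    change algebraMap (B ⊗[A] A') C' (algebraMap A' (B ⊗[A] A') a') • x = a' • x
    rw [← IsScalarTower.algebraMap_apply A' (B ⊗[A] A') C', algebraMap_smul]
  letI modAN : Module A N := Module.compHom N (algebraMap A B)
  haveI : IsScalarTower A B N := IsScalarTower.of_algebraMap_smul fun _ _ => rfl
  haveI : IsScalarTower A C N := IsScalarTower.of_algebraMap_smul fun a x => by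
    change algebraMap A C a • x = algebraMap A B a • x
    rw [IsScalarTower.algebraMap_apply A B C, algebraMap_smul]
  letI modAN' : Module A N' := Module.compHom N' (algebraMap A A')
  haveI : IsScalarTower A A' N' := IsScalarTower.of_algebraMap_smul fun _ _ => rfl
  haveI : IsScalarTower A C N' := IsScalarTower.of_algebraMap_smul fun a x => by
    change algebraMap A C a • x = algebraMap A A' a • x
    rw [← algebraMap_smul C' (algebraMap A C a) x, ← IsScalarTower.algebraMap_apply A C C',
      IsScalarTower.algebraMap_apply A A' C', algebraMap_smul]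
  haveI : IsScalarTower A B N' := IsScalarTower.of_algebraMap_smul fun a x => by
    change algebraMap B C (algebraMap A B a) • x = a • x
    rw [← IsScalarTower.algebraMap_apply A B C, algebraMap_smul]
  -- the linear map
  let f'' : N →ₗ[B] N' :=
    { toFun := f
      map_add' := f.map_add
      map_smul' := fun b n => by
        change f (b • n) = algebraMap B C b • f n
        rw [← algebraMap_smul C b n, map_smul] }
  have hbcA : IsBaseChange A' (f.restrictScalars A) := isBaseChange_restrict_of_pushout hpo f hbc
  have hfeq : f''.restrictScalars A = f.restrictScalars A := LinearMap.ext fun _ => rfl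
  have hbc'' : IsBaseChange (B ⊗[A] A') f'' := by
    apply isBaseChange_of_restrict_of_pushout (R := A) (R' := A') inferInstance f''
    rw [hfeq]
    exact hbcA
  have hcond : ImpCond (B ⊗[A] A') N' t' t (P.comap (algebraMap (B ⊗[A] A') C')) :=
    impCond_comap (B ⊗[A] A') C' hπ N' t' t P ⟨hPt, hass, hcl⟩
  exact ⟨B ⊗[A] A', N', inferInstance, inferInstance, inferInstance, inferInstance, inferInstance,
    inferInstance, inferInstance, inferInstance, inferInstance, inferInstance, inferInstance,
    inferInstance, f'', P.comap (algebraMap (B ⊗[A] A') C'), inferInstance,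
    inferInstance, hbc'', htt, htp, hcond.1, hcond.2.1, hcond.2.2⟩

end T1

section T2

attribute [local instance] Algebra.TensorProduct.rightAlgebra

variable {A B C : Type u} [CommRing A] [CommRing B] [CommRing C] [Algebra A B] [Algebra B C]
  [Algebra A C] [IsScalarTower A B C] (hBC : Function.Surjective (algebraMap B C))
  (N : Type u) [AddCommGroup N] [Module C N] [Module B N] [IsScalarTower B C N]
  (p : Ideal A) [p.IsPrime]

include hBC in
/-- An impurity of `N` as a `B`-module gives one of `N` as a `C`-module over the same base. -/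
theorem exists_impurity_C_of_B
    (A' B' N' : Type u) [CommRing A'] [CommRing B'] [Algebra A A'] [Algebra B B']
    [Algebra A' B'] [Algebra A B'] [IsScalarTower A B B'] [IsScalarTower A A' B']
    [AddCommGroup N'] [Module B' N'] [Module B N'] [IsScalarTower B B' N'] [Module A' N']
    [IsScalarTower A' B' N'] (f : N →ₗ[B] N') (t' t : Ideal A') [t'.IsPrime] [t.IsPrime]
    (Q : Ideal B') [Q.IsPrime] (h : FlatCA.IsImpurity A B N p A' B' N' f t' t Q) :
    ∃ (C' N'' : Type u) (_ : CommRing C') (_ : Algebra C C') (_ : Algebra A' C')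
      (_ : Algebra A C') (_ : IsScalarTower A C C') (_ : IsScalarTower A A' C')
      (_ : AddCommGroup N'') (_ : Module C' N'') (_ : Module C N'') (_ : IsScalarTower C C' N'')
      (_ : Module A' N'') (_ : IsScalarTower A' C' N'') (f'' : N →ₗ[C] N'')
      (P : Ideal C') (_ : P.IsPrime), FlatCA.IsImpurity A C N p A' C' N'' f'' t' t P := by
  obtain ⟨hpo, hbc, htt, htp, hQt, hass, hcl⟩ := h
  haveI := hpo
  -- the algebra structures
  let π : B' →ₐ[A] C ⊗[A] A' :=
    Algebra.pushoutDesc B' (IsScalarTower.toAlgHom A B (C ⊗[A] A'))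
      (IsScalarTower.toAlgHom A A' (C ⊗[A] A')) (fun _ _ => mul_comm _ _)
  letI algB'C' : Algebra B' (C ⊗[A] A') := π.toRingHom.toAlgebra
  have hπ_def : ∀ x, algebraMap B' (C ⊗[A] A') x = π x := fun _ => rfl
  have hπl : ∀ b : B, π (algebraMap B B' b) = (algebraMap B C b) ⊗ₜ[A] (1 : A') := fun b => by
    simp only [π, Algebra.pushoutDesc_left]
    simp [Algebra.TensorProduct.algebraMap_apply]
  have hπr : ∀ a' : A', π (algebraMap A' B' a') = (1 : C) ⊗ₜ[A] a' := fun a' => by
    simp only [π, Algebra.pushoutDesc_right]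
    rfl
  haveI : IsScalarTower A' B' (C ⊗[A] A') := IsScalarTower.of_algebraMap_eq fun a' => by
    rw [hπ_def, hπr]; rfl
  have hπ : Function.Surjective (algebraMap B' (C ⊗[A] A')) := by
    intro c'
    induction c' using TensorProduct.induction_on with
    | zero => exact ⟨0, map_zero _⟩
    | tmul c a' =>
      obtain ⟨b, rfl⟩ := hBC c
      refine ⟨algebraMap B B' b * algebraMap A' B' a', ?_⟩
      rw [map_mul, hπ_def, hπ_def, hπl, hπr, Algebra.TensorProduct.tmul_mul_tmul, mul_one, one_mul]
    | add x y hx hy =>
      obtain ⟨x', rfl⟩ := hx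
      obtain ⟨y', rfl⟩ := hy
      exact ⟨x' + y', map_add _ _ _⟩
  -- the kernel of `B → C` kills `N'`
  have hkill : ∀ b : B, algebraMap B C b = 0 → ∀ x : N', b • x = 0 := by
    intro b hb x
    refine hbc.inductionOn x _ (smul_zero _) ?_ ?_ ?_
    · intro n
      rw [← map_smul, ← algebraMap_smul C b n, hb, zero_smul, map_zero]
    · intro b' y hy
      rw [smul_comm, hy, smul_zero]
    · intro y z hy hz
      rw [smul_add, hy, hz, add_zero]
  -- the module structures
  letI smulC : SMul C N' := ⟨fun c x => Function.surjInv hBC c • x⟩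
  have hsmul : ∀ (b : B) (x : N'), algebraMap B C b • x = b • x := by
    intro b x
    change Function.surjInv hBC (algebraMap B C b) • x = b • x
    rw [← sub_eq_zero, ← sub_smul]
    apply hkill
    rw [map_sub, Function.surjInv_eq hBC, sub_self]
  letI modC : Module C N' := Function.Surjective.moduleLeft (algebraMap B C) hBC hsmul
  haveI : IsScalarTower B C N' := IsScalarTower.of_algebraMap_smul hsmul
  letI modAN' : Module A N' := Module.compHom N' (algebraMap A A')
  haveI : IsScalarTower A A' N' := IsScalarTower.of_algebraMap_smul fun _ _ => rfl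
  haveI : IsScalarTower A B N' := IsScalarTower.of_algebraMap_smul fun a x => by
    change algebraMap A B a • x = algebraMap A A' a • x
    rw [← algebraMap_smul B' (algebraMap A B a) x, ← algebraMap_smul B' (algebraMap A A' a) x,
      ← IsScalarTower.algebraMap_apply A B B', ← IsScalarTower.algebraMap_apply A A' B']
  haveI : IsScalarTower A C N' := IsScalarTower.of_algebraMap_smul fun a x => by
    rw [IsScalarTower.algebraMap_apply A B C, hsmul, algebraMap_smul]
  haveI : SMulCommClass C A' N' := ⟨fun c a' x => by
    obtain ⟨b, rfl⟩ := hBC c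
    rw [hsmul, hsmul, ← algebraMap_smul B' b, ← algebraMap_smul B' a', smul_comm,
      algebraMap_smul B' b, algebraMap_smul B' a']⟩
  letI modC' : Module (C ⊗[A] A') N' := TensorProduct.Algebra.module
  haveI : IsScalarTower C (C ⊗[A] A') N' := IsScalarTower.of_algebraMap_smul fun c x => by
    change (c ⊗ₜ[A] (1 : A')) • x = c • x
    rw [TensorProduct.Algebra.smul_def, one_smul]
  haveI : IsScalarTower A' (C ⊗[A] A') N' := IsScalarTower.of_algebraMap_smul fun a' x => by
    change ((1 : C) ⊗ₜ[A] a') • x = a' • x
    rw [TensorProduct.Algebra.smul_def, one_smul]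
  haveI : IsScalarTower B' (C ⊗[A] A') N' := IsScalarTower.of_algebraMap_smul fun b' x => by
    refine hpo.out.inductionOn b' (fun b' => ∀ x : N', algebraMap B' (C ⊗[A] A') b' • x = b' • x)
      ?_ ?_ ?_ ?_ x
    · intro x; rw [map_zero, zero_smul, zero_smul]
    · intro a' x
      change algebraMap B' (C ⊗[A] A') (algebraMap A' B' a') • x = algebraMap A' B' a' • x
      rw [hπ_def, hπr, TensorProduct.Algebra.smul_def, one_smul, algebraMap_smul]
    · intro b y hy x
      rw [Algebra.smul_def, map_mul, mul_smul, hy, hπ_def, hπl, TensorProduct.Algebra.smul_def,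
        one_smul, hsmul, ← Algebra.smul_def, smul_assoc]
    · intro y z hy hz x
      rw [map_add, add_smul, add_smul, hy, hz]
  letI modAN : Module A N := Module.compHom N (algebraMap A B)
  haveI : IsScalarTower A B N := IsScalarTower.of_algebraMap_smul fun _ _ => rfl
  haveI : IsScalarTower A C N := IsScalarTower.of_algebraMap_smul fun a x => by
    change algebraMap A C a • x = algebraMap A B a • x
    rw [IsScalarTower.algebraMap_apply A B C, algebraMap_smul]
  -- the linear map
  let f'' : N →ₗ[C] N' :=
    { toFun := f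
      map_add' := f.map_add
      map_smul' := fun c n => by
        obtain ⟨b, rfl⟩ := hBC c
        change f (algebraMap B C b • n) = algebraMap B C b • f n
        rw [algebraMap_smul C b n, map_smul, hsmul] }
  have hbcA : IsBaseChange A' (f.restrictScalars A) := isBaseChange_restrict_of_pushout hpo f hbc
  have hfeq : f''.restrictScalars A = f.restrictScalars A := LinearMap.ext fun _ => rfl
  have hbc'' : IsBaseChange (C ⊗[A] A') f'' := by
    apply isBaseChange_of_restrict_of_pushout (R := A) (R' := A') inferInstance f''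
    rw [hfeq]
    exact hbcA
  obtain ⟨P, hP, hcond⟩ := impCond_map B' (C ⊗[A] A') hπ N' t' t Q ⟨hQt, hass, hcl⟩
  exact ⟨C ⊗[A] A', N', inferInstance, inferInstance, inferInstance, inferInstance, inferInstance,
    inferInstance, inferInstance, inferInstance, inferInstance, inferInstance, inferInstance,
    inferInstance, f'', P, hP,
    inferInstance, hbc'', htt, htp, hcond.1, hcond.2.1, hcond.2.2⟩

end T2

end Groth.Agent.Lib.Helper95.PureClosedImm
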