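import Mathlib
import Groth.Prelude.Def_FlatCA
import Groth.Agent.Lib.Helper95.PureClosedImm

/-!
Helper library for S1217: pulling back impurities along a base change which is flat at a point.
-/

set_option autoImplicit false
universe u

namespace Groth.Agent.Lib.Helper95.PurePullback

open TensorProduct

section AL

variable {R R' : Type*} [CommRing R] [CommRing R'] [Algebra R R']
  {M M' : Type*} [AddCommGroup M] [Module R M] [AddCommGroup M'] [Module R M'] [Module R' M']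
  [IsScalarTower R R' M'] (φ : M →ₗ[R] M') (hφ : IsBaseChange R' φ)

include hφ in
/-- Annihilators of elements commute with flat base change. -/
theorem smul_eq_zero_iff_mem_map [Module.Flat R R'] (q : Ideal R) (x : M)
    (hx : ∀ r, r ∈ q ↔ r • x = 0) (r' : R') :
    r' • φ x = 0 ↔ r' ∈ q.map (algebraMap R R') := by
  constructor
  · intro h
    let g : R →ₗ[R] M := LinearMap.toSpanSingleton R M x
    have hex : Function.Exact (Submodule.subtype q : q →ₗ[R] R) g := by
      intro r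
      simp only [g, LinearMap.toSpanSingleton_apply, Set.mem_range, Submodule.subtype_apply]
      constructor
      · intro hr
        exact ⟨⟨r, (hx r).mpr hr⟩, rfl⟩
      · rintro ⟨y, rfl⟩
        exact (hx _).mp y.2
    have hex' := Module.Flat.lTensor_exact R' hex
    have hz : (g.lTensor R') (r' ⊗ₜ[R] (1 : R)) = 0 := by
      apply hφ.equiv.injective
      simp [g, IsBaseChange.equiv_tmul, h]
    obtain ⟨w, hw⟩ := (hex' _).mp hz
    have key : ∀ w : R' ⊗[R] q, TensorProduct.rid R R' ((Submodule.subtype q).lTensor R' w) ∈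
        q.map (algebraMap R R') := by
      intro w
      induction w using TensorProduct.induction_on with
      | zero => simp
      | add a b ha hb => simpa [map_add] using Ideal.add_mem _ ha hb
      | tmul s a =>
        simp only [LinearMap.lTensor_tmul, Submodule.subtype_apply, TensorProduct.rid_tmul]
        rw [Algebra.smul_def]
        exact Ideal.mul_mem_right _ _ (Ideal.mem_map_of_mem _ a.2)
    have := key w
    rw [hw] at this
    simpa using this
  · intro h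
    have hle : q.map (algebraMap R R') ≤ LinearMap.ker (LinearMap.toSpanSingleton R' M' (φ x)) := by
      rw [Ideal.map_le_iff_le_comap]
      intro r hr
      rw [Ideal.mem_comap, LinearMap.mem_ker, LinearMap.toSpanSingleton_apply, algebraMap_smul,
        ← map_smul, (hx r).mp hr, map_zero]
    have := hle h
    rwa [LinearMap.mem_ker, LinearMap.toSpanSingleton_apply] at this

include hφ in
/-- Lifting an associated prime along a flat base change. -/
theorem exists_assoc_over [Module.Flat R R'] [IsNoetherianRing R']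
    (q : Ideal R) [hqp : q.IsPrime] (x : M) (hx : ∀ r, r ∈ q ↔ r • x = 0)
    (hq : q.map (algebraMap R R') ≠ ⊤) :
    ∃ Q : Ideal R', IsAssociatedPrime Q M' ∧ Q.comap (algebraMap R R') = q := by
  have h1 := smul_eq_zero_iff_mem_map φ hφ q x hx
  have hx0 : φ x ≠ 0 := by
    intro h0
    apply hq
    rw [Ideal.eq_top_iff_one, ← h1, h0, smul_zero]
  have : Nontrivial (Submodule.span R' {φ x}) := by
    refine ⟨⟨⟨φ x, Submodule.mem_span_singleton_self _⟩, 0, ?_⟩⟩
    intro h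
    exact hx0 (congrArg Subtype.val h)
  obtain ⟨Q, hQ⟩ := associatedPrimes.nonempty R' (Submodule.span R' {φ x})
  have hQ' : IsAssociatedPrime Q M' :=
    IsAssociatedPrime.map_of_injective (Submodule.subtype _) hQ (Submodule.subtype_injective _)
  obtain ⟨hQp, y, hy⟩ := (isAssociatedPrime_iff.mp hQ)
  obtain ⟨s', hs'⟩ := Submodule.mem_span_singleton.mp y.2
  refine ⟨Q, hQ', ?_⟩
  have hmem : ∀ r' : R', r' ∈ Q ↔ (r' * s') • φ x = 0 := by
    intro r'
    rw [hy, Submodule.mem_colon_singleton, Submodule.mem_bot, mul_smul, hs']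
    constructor
    · intro h
      have := congrArg Subtype.val h
      simpa using this
    · intro h
      apply Subtype.ext
      simpa using h
  have hy0 : s' • φ x ≠ 0 := by
    intro h
    apply hQp.ne_top
    rw [Ideal.eq_top_iff_one, hmem, one_mul, h]
  ext r
  rw [Ideal.mem_comap, hmem]
  constructor
  · intro h
    by_contra hr
    apply hy0
    -- `r • x` has the same annihilator `q`
    have hx2 : ∀ a, a ∈ q ↔ a • (r • x) = 0 := by
      intro a
      rw [smul_smul, ← hx]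
      constructor
      · intro ha
        exact Ideal.mul_mem_right _ _ ha
      · intro ha
        exact (hqp.mem_or_mem ha).resolve_right hr
    have h2 := smul_eq_zero_iff_mem_map φ hφ q (r • x) hx2
    rw [h1, ← h2, map_smul, ← algebraMap_smul R' r (φ x), smul_smul, mul_comm]
    exact h
  · intro hr
    rw [h1, mul_comm]
    exact Ideal.mul_mem_left _ _ (Ideal.mem_map_of_mem _ hr)

end AL

section Fib

attribute [local instance] Algebra.TensorProduct.rightAlgebra

variable {A : Type u} [CommRing A] (t : Ideal A) [t.IsPrime] (S : Type u) [CommRing S] [Algebra A S]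

/-- A prime of the fibre ring is the extension of its contraction. -/
theorem fiberIdeal_comap_includeRight (Q : Ideal (t.Fiber S)) [Q.IsPrime] :
    FlatCA.fiberIdeal t (Q.comap
      (Algebra.TensorProduct.includeRight (R := A) (A := t.ResidueField) (B := S)).toRingHom) = Q := by
  apply le_antisymm
  · exact Ideal.map_comap_le
  · intro x hx
    obtain ⟨r, hr, s, hrs⟩ := Ideal.Fiber.exists_smul_eq_one_tmul t x
    have hs : (1 : t.ResidueField) ⊗ₜ[A] s ∈ Q := by
      rw [← hrs, Algebra.smul_def]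
      exact Ideal.mul_mem_left _ _ hx
    have hs' : (1 : t.ResidueField) ⊗ₜ[A] s ∈ FlatCA.fiberIdeal t (Q.comap
        (Algebra.TensorProduct.includeRight (R := A) (A := t.ResidueField) (B := S)).toRingHom) :=
      Ideal.mem_map_of_mem _ (Ideal.mem_comap.mpr hs)
    have hr0 : algebraMap A t.ResidueField r ≠ 0 := by
      rw [Ne, Ideal.algebraMap_residueField_eq_zero]
      exact hr
    have hxe : x = ((algebraMap A t.ResidueField r)⁻¹ ⊗ₜ[A] (1 : S)) * (r • x) := by
      rw [Algebra.smul_def, ← mul_assoc, Algebra.TensorProduct.algebraMap_apply,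
        Algebra.TensorProduct.tmul_mul_tmul, inv_mul_cancel₀ hr0, mul_one]
      exact (one_mul x).symm
    rw [hxe, hrs]
    exact Ideal.mul_mem_left _ _ hs'

theorem liesOver_comap_includeRight (Q : Ideal (t.Fiber S)) [hQ : Q.IsPrime] :
    (Q.comap (Algebra.TensorProduct.includeRight (R := A) (A := t.ResidueField)
      (B := S)).toRingHom).LiesOver t := by
  have := ((PrimeSpectrum.primesOverOrderIsoFiber A S t).symm ⟨Q, hQ⟩).2.2
  rwa [PrimeSpectrum.coe_primesOverOrderIsoFiber_symm_apply] at this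

end Fib

section Theta

attribute [local instance] Algebra.TensorProduct.rightAlgebra

variable {A₁ A₂ : Type u} (B₁ B₂ : Type u) [CommRing A₁] [CommRing A₂] [CommRing B₁] [CommRing B₂]
  [Algebra A₁ A₂] [Algebra A₁ B₁] [Algebra A₂ B₂] [Algebra B₁ B₂] [Algebra A₁ B₂]
  [IsScalarTower A₁ B₁ B₂] [IsScalarTower A₁ A₂ B₂]
  (t₁ : Ideal A₁) [t₁.IsPrime] (t₂ : Ideal A₂) [t₂.IsPrime] [t₂.LiesOver t₁]

/-- The map of residue fields. -/
noncomputable def kappaMap : t₁.ResidueField →ₐ[A₁] t₂.ResidueField :=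
  Ideal.ResidueField.mapₐ t₁ t₂ (Algebra.ofId A₁ A₂) (Ideal.LiesOver.over)

/-- The map of fibre rings. -/
noncomputable def theta : t₁.Fiber B₁ →ₐ[A₁] t₂.Fiber B₂ :=
  Algebra.TensorProduct.productMap
    ((Algebra.TensorProduct.includeLeft (S := A₁)).comp (kappaMap t₁ t₂))
    (((Algebra.TensorProduct.includeRight (R := A₂) (A := t₂.ResidueField)
      (B := B₂)).restrictScalars A₁).comp (IsScalarTower.toAlgHom A₁ B₁ B₂))

theorem theta_tmul (k : t₁.ResidueField) (b : B₁) :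
    theta B₁ B₂ t₁ t₂ (k ⊗ₜ[A₁] b) = (kappaMap t₁ t₂ k) ⊗ₜ[A₂] (algebraMap B₁ B₂ b) := by
  simp [theta]

end Theta

section PB

attribute [local instance] Algebra.TensorProduct.rightAlgebra

open PureClosedImm

variable {A₁ A₂ : Type u} (B₁ B₂ : Type u) [CommRing A₁] [CommRing A₂] [CommRing B₁] [CommRing B₂]
  [Algebra A₁ A₂] [Algebra A₁ B₁] [Algebra A₂ B₂] [Algebra B₁ B₂] [Algebra A₁ B₂]
  [IsScalarTower A₁ B₁ B₂] [IsScalarTower A₁ A₂ B₂]

theorem exists_impCond_pullback (hpo : Algebra.IsPushout A₁ B₁ A₂ B₂) [Algebra.FiniteType A₁ B₁]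
    (N₁ N₂ : Type u) [AddCommGroup N₁] [Module B₁ N₁] [Module A₁ N₁] [IsScalarTower A₁ B₁ N₁]
    [AddCommGroup N₂] [Module B₂ N₂] [Module A₂ N₂] [IsScalarTower A₂ B₂ N₂]
    [Module B₁ N₂] [IsScalarTower B₁ B₂ N₂]
    (f : N₁ →ₗ[B₁] N₂) (hf : IsBaseChange B₂ f)
    (t₁' t₁ : Ideal A₁) [t₁'.IsPrime] [t₁.IsPrime] (t₂' t₂ : Ideal A₂) [t₂'.IsPrime] [t₂.IsPrime]
    [t₂'.LiesOver t₁'] [t₂.LiesOver t₁]
    (P : Ideal B₁) [P.IsPrime] (h : ImpCond B₁ N₁ t₁' t₁ P) :
    ∃ (P₂ : Ideal B₂) (_ : P₂.IsPrime), ImpCond B₂ N₂ t₂' t₂ P₂ := by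
  obtain ⟨h1, h2, h3⟩ := h
  let κm := kappaMap t₁' t₂'
  let θ := theta B₁ B₂ t₁' t₂'
  letI algκ : Algebra t₁'.ResidueField t₂'.ResidueField := κm.toRingHom.toAlgebra
  letI algF : Algebra (t₁'.Fiber B₁) (t₂'.Fiber B₂) := θ.toRingHom.toAlgebra
  letI algBF : Algebra B₁ (t₂'.Fiber B₂) :=
    ((algebraMap B₂ (t₂'.Fiber B₂)).comp (algebraMap B₁ B₂)).toAlgebra
  have hθ_def : ∀ x, algebraMap (t₁'.Fiber B₁) (t₂'.Fiber B₂) x = θ x := fun _ => rfl
  -- towers
  haveI : IsScalarTower A₁ t₁'.ResidueField t₂'.ResidueField :=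
    IsScalarTower.of_algebraMap_eq fun a => (κm.commutes a).symm
  haveI : IsScalarTower t₁'.ResidueField t₂'.ResidueField (t₂'.Fiber B₂) := inferInstance
  haveI : IsScalarTower B₁ B₂ (t₂'.Fiber B₂) := IsScalarTower.of_algebraMap_eq fun _ => rfl
  haveI : IsScalarTower A₁ B₂ (t₂'.Fiber B₂) := IsScalarTower.of_algebraMap_eq fun a => by
    rw [IsScalarTower.algebraMap_apply A₁ A₂ (t₂'.Fiber B₂),
      IsScalarTower.algebraMap_apply A₂ B₂ (t₂'.Fiber B₂),
      ← IsScalarTower.algebraMap_apply A₁ A₂ B₂]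
  haveI : IsScalarTower A₁ B₁ (t₂'.Fiber B₂) := IsScalarTower.of_algebraMap_eq fun a => by
    rw [IsScalarTower.algebraMap_apply A₁ B₂ (t₂'.Fiber B₂),
      IsScalarTower.algebraMap_apply A₁ B₁ B₂,
      ← IsScalarTower.algebraMap_apply B₁ B₂ (t₂'.Fiber B₂)]
  haveI : IsScalarTower t₁'.ResidueField (t₁'.Fiber B₁) (t₂'.Fiber B₂) :=
    IsScalarTower.of_algebraMap_eq (R := t₁'.ResidueField) (S := t₁'.Fiber B₁)
        (A := t₂'.Fiber B₂) fun k => by
      have e : algebraMap t₁'.ResidueField (t₁'.Fiber B₁) k = k ⊗ₜ[A₁] (1 : B₁) := rfl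
      rw [hθ_def, e, theta_tmul, map_one]
      rfl
  haveI : IsScalarTower B₁ (t₁'.Fiber B₁) (t₂'.Fiber B₂) :=
    IsScalarTower.of_algebraMap_eq (R := B₁) (S := t₁'.Fiber B₁)
        (A := t₂'.Fiber B₂) fun b => by
      rw [hθ_def, Algebra.TensorProduct.right_algebraMap_apply, theta_tmul, map_one]
      rfl
  haveI : IsScalarTower A₁ (t₁'.Fiber B₁) (t₂'.Fiber B₂) :=
    IsScalarTower.of_algebraMap_eq (R := A₁) (S := t₁'.Fiber B₁)
        (A := t₂'.Fiber B₂) fun a => (θ.commutes a).symm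
  -- pushouts
  haveI hpo' : Algebra.IsPushout A₁ A₂ B₁ B₂ := hpo.symm
  have hp1 : Algebra.IsPushout A₁ t₂'.ResidueField B₁ (t₂'.Fiber B₂) :=
    (Algebra.IsPushout.comp_iff A₁ A₂ B₁ (S' := B₂) (T := t₂'.ResidueField)
      (T' := t₂'.Fiber B₂)).mpr inferInstance
  have hp2 : Algebra.IsPushout t₁'.ResidueField t₂'.ResidueField (t₁'.Fiber B₁) (t₂'.Fiber B₂) :=
    (Algebra.IsPushout.comp_iff A₁ t₁'.ResidueField B₁ (S' := t₁'.Fiber B₁)
      (T := t₂'.ResidueField) (T' := t₂'.Fiber B₂)).mp hp1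
  have hbcF : IsBaseChange (t₁'.Fiber B₁)
      (IsScalarTower.toAlgHom t₁'.ResidueField t₂'.ResidueField (t₂'.Fiber B₂)).toLinearMap :=
    hp2.symm.out
  haveI : Module.Flat (t₁'.Fiber B₁) (t₂'.Fiber B₂) :=
    Module.Flat.isBaseChange t₁'.ResidueField (t₁'.Fiber B₁) t₂'.ResidueField (t₂'.Fiber B₂) hbcF
  haveI : Module.FaithfullyFlat (t₁'.Fiber B₁) (t₂'.Fiber B₂) :=
    Module.FaithfullyFlat.of_linearEquiv _ _ hbcF.equiv.symm
  -- noetherianity
  haveI : Algebra.FiniteType A₂ B₂ :=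
    Algebra.FiniteType.equiv inferInstance (Algebra.IsPushout.equiv A₁ A₂ B₁ B₂)
  haveI : IsNoetherianRing (t₁'.Fiber B₁) :=
    Algebra.FiniteType.isNoetherianRing t₁'.ResidueField _
  haveI : IsNoetherianRing (t₂'.Fiber B₂) :=
    Algebra.FiniteType.isNoetherianRing t₂'.ResidueField _
  -- module structures on the second fibre module
  haveI : IsScalarTower B₂ (t₂'.Fiber B₂) (FlatCA.fiberMod t₂' B₂ N₂) :=
    inferInstanceAs (IsScalarTower B₂ (t₂'.Fiber B₂) ((t₂'.Fiber B₂) ⊗[B₂] N₂))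
  haveI : IsScalarTower B₁ (t₁'.Fiber B₁) (FlatCA.fiberMod t₁' B₁ N₁) :=
    inferInstanceAs (IsScalarTower B₁ (t₁'.Fiber B₁) ((t₁'.Fiber B₁) ⊗[B₁] N₁))
  letI modF₁M₂ : Module (t₁'.Fiber B₁) (FlatCA.fiberMod t₂' B₂ N₂) :=
    Module.compHom _ (algebraMap (t₁'.Fiber B₁) (t₂'.Fiber B₂))
  haveI : IsScalarTower (t₁'.Fiber B₁) (t₂'.Fiber B₂) (FlatCA.fiberMod t₂' B₂ N₂) :=
    IsScalarTower.of_algebraMap_smul fun _ _ => rfl
  letI modB₁M₂ : Module B₁ (FlatCA.fiberMod t₂' B₂ N₂) := Module.compHom _ (algebraMap B₁ B₂)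
  haveI : IsScalarTower B₁ B₂ (FlatCA.fiberMod t₂' B₂ N₂) :=
    IsScalarTower.of_algebraMap_smul fun _ _ => rfl
  haveI : IsScalarTower B₁ (t₂'.Fiber B₂) (FlatCA.fiberMod t₂' B₂ N₂) :=
    IsScalarTower.of_algebraMap_smul fun b x => by
      rw [IsScalarTower.algebraMap_apply B₁ B₂ (t₂'.Fiber B₂), algebraMap_smul, algebraMap_smul]
  haveI : IsScalarTower B₁ (t₁'.Fiber B₁) (FlatCA.fiberMod t₂' B₂ N₂) :=
    IsScalarTower.of_algebraMap_smul fun b x => by
      rw [← algebraMap_smul (t₂'.Fiber B₂) (algebraMap B₁ (t₁'.Fiber B₁) b) x,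
        ← IsScalarTower.algebraMap_apply B₁ (t₁'.Fiber B₁) (t₂'.Fiber B₂), algebraMap_smul]
  -- the map of fibre modules
  have hmk₁ : IsBaseChange (t₁'.Fiber B₁) (FlatCA.toFiberMod t₁' B₁ N₁) :=
    TensorProduct.isBaseChange B₁ N₁ (t₁'.Fiber B₁)
  have hmk₂ : IsBaseChange (t₂'.Fiber B₂) (FlatCA.toFiberMod t₂' B₂ N₂) :=
    TensorProduct.isBaseChange B₂ N₂ (t₂'.Fiber B₂)
  have hcomp : IsBaseChange (t₂'.Fiber B₂)
      (((FlatCA.toFiberMod t₂' B₂ N₂).restrictScalars B₁).comp f) := IsBaseChange.comp hf hmk₂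
  let ψ : FlatCA.fiberMod t₁' B₁ N₁ →ₗ[t₁'.Fiber B₁] FlatCA.fiberMod t₂' B₂ N₂ :=
    hmk₁.lift (((FlatCA.toFiberMod t₂' B₂ N₂).restrictScalars B₁).comp f)
  have hψ : IsBaseChange (t₂'.Fiber B₂) ψ := by
    refine IsBaseChange.of_comp hmk₁ ?_
    have : (ψ.restrictScalars B₁).comp (FlatCA.toFiberMod t₁' B₁ N₁) =
        ((FlatCA.toFiberMod t₂' B₂ N₂).restrictScalars B₁).comp f := hmk₁.lift_comp _
    rw [this]
    exact hcomp
  -- lift the associated prime
  obtain ⟨h𝔓p, x, hx⟩ := isAssociatedPrime_iff.mp h2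
  haveI := h𝔓p
  have hx' : ∀ r, r ∈ FlatCA.fiberIdeal t₁' P ↔ r • x = 0 := by
    intro r
    rw [hx, Submodule.mem_colon_singleton, Submodule.mem_bot]
  have hne : (FlatCA.fiberIdeal t₁' P).map (algebraMap (t₁'.Fiber B₁) (t₂'.Fiber B₂)) ≠ ⊤ := by
    intro htop
    have := Ideal.comap_map_eq_self_of_faithfullyFlat (B := t₂'.Fiber B₂) (FlatCA.fiberIdeal t₁' P)
    rw [htop, Ideal.comap_top] at this
    exact h𝔓p.ne_top this.symm
  obtain ⟨Q, hQass, hQc⟩ := exists_assoc_over ψ hψ (FlatCA.fiberIdeal t₁' P) x hx' hne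
  haveI hQp : Q.IsPrime := hQass.isPrime
  refine ⟨Q.comap (Algebra.TensorProduct.includeRight (R := A₂) (A := t₂'.ResidueField)
      (B := B₂)).toRingHom, Ideal.comap_isPrime _ _, ?_, ?_, ?_⟩
  · exact liesOver_comap_includeRight t₂' B₂ Q
  · rw [fiberIdeal_comap_includeRight]
    exact hQass
  · intro P' hP' hle hP't
    refine h3 (P'.comap (algebraMap B₁ B₂)) ?_ ⟨?_⟩
    · intro b hb
      apply Ideal.comap_mono hle
      rw [Ideal.mem_comap, Ideal.mem_comap]
      have h1' : algebraMap B₁ (t₁'.Fiber B₁) b ∈ FlatCA.fiberIdeal t₁' P :=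
        Ideal.mem_map_of_mem _ hb
      rw [← hQc, Ideal.mem_comap,
        ← IsScalarTower.algebraMap_apply B₁ (t₁'.Fiber B₁) (t₂'.Fiber B₂),
        IsScalarTower.algebraMap_apply B₁ B₂ (t₂'.Fiber B₂)] at h1'
      exact h1'
    · have e1 : (P'.comap (algebraMap B₁ B₂)).under A₁ = (P'.under A₂).under A₁ := by
        ext a
        simp only [Ideal.under, Ideal.mem_comap, ← IsScalarTower.algebraMap_apply]
      rw [e1, ← hP't.over]
      exact Ideal.LiesOver.over

end PB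

section Main

attribute [local instance] Algebra.TensorProduct.rightAlgebra

open PureClosedImm

variable {A B : Type u} [CommRing A] [CommRing B] [Algebra A B] [Algebra.FiniteType A B]
  (N : Type u) [AddCommGroup N] [Module B N] (p : Ideal A) [p.IsPrime]
  (A' B' N' : Type u) [CommRing A'] [CommRing B'] [Algebra A A'] [Algebra B B'] [Algebra A' B']
  [Algebra A B'] [IsScalarTower A B B'] [IsScalarTower A A' B']
  [AddCommGroup N'] [Module B' N'] [Module B N'] [IsScalarTower B B' N']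
  (f : N →ₗ[B] N')
  (p' : Ideal A') [p'.IsPrime]
  -- an impurity of `N`
  (A₁ B₁ N₁ : Type u) [CommRing A₁] [CommRing B₁] [Algebra A A₁] [Algebra B B₁]
  [Algebra A₁ B₁] [Algebra A B₁] [IsScalarTower A B B₁] [IsScalarTower A A₁ B₁]
  [AddCommGroup N₁] [Module B₁ N₁] [Module B N₁] [IsScalarTower B B₁ N₁] [Module A₁ N₁]
  [IsScalarTower A₁ B₁ N₁] (f₁ : N →ₗ[B] N₁) (t' t : Ideal A₁) [t'.IsPrime] [t.IsPrime]
  (P : Ideal B₁) [P.IsPrime]
  -- the candidate base change of `N'`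
  (A₂ B₂ N₂ : Type u) [CommRing A₂] [CommRing B₂] [Algebra A' A₂] [Algebra B' B₂]
  [Algebra A₂ B₂] [Algebra A' B₂] [IsScalarTower A' B' B₂] [IsScalarTower A' A₂ B₂]
  [AddCommGroup N₂] [Module B₂ N₂] [Module B' N₂] [IsScalarTower B' B₂ N₂] [Module A₂ N₂]
  [IsScalarTower A₂ B₂ N₂] (f₂ : N' →ₗ[B'] N₂) (s' s : Ideal A₂) [s'.IsPrime] [s.IsPrime]
  -- compatibility of the two bases
  [Algebra A₁ A₂] [Algebra A A₂] [IsScalarTower A A' A₂] [IsScalarTower A A₁ A₂]

include f in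
theorem exists_impurity_pullback (hpo : Algebra.IsPushout A B A' B') (hf : IsBaseChange B' f)
    (hpo₂ : Algebra.IsPushout A' B' A₂ B₂) (hf₂ : IsBaseChange B₂ f₂) (hle : s' ≤ s)
    [s'.LiesOver t'] [s.LiesOver t] [hsp : s.LiesOver p']
    (himp : FlatCA.IsImpurity A B N p A₁ B₁ N₁ f₁ t' t P) :
    ∃ (P₂ : Ideal B₂) (_ : P₂.IsPrime), FlatCA.IsImpurity A' B' N' p' A₂ B₂ N₂ f₂ s' s P₂ := by
  obtain ⟨hpo₁, hf₁, htt, htp, hPt, hass, hcl⟩ := himp
  -- algebra structures on `B₂`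
  letI algAB₂ : Algebra A B₂ := ((algebraMap A' B₂).comp (algebraMap A A')).toAlgebra
  haveI : IsScalarTower A A' B₂ := IsScalarTower.of_algebraMap_eq fun _ => rfl
  haveI : IsScalarTower A A₂ B₂ := IsScalarTower.of_algebraMap_eq fun a => by
    rw [IsScalarTower.algebraMap_apply A A' B₂, IsScalarTower.algebraMap_apply A' A₂ B₂,
      ← IsScalarTower.algebraMap_apply A A' A₂]
  haveI : IsScalarTower A B' B₂ := IsScalarTower.of_algebraMap_eq fun a => by
    rw [IsScalarTower.algebraMap_apply A A' B₂, IsScalarTower.algebraMap_apply A' B' B₂,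
      ← IsScalarTower.algebraMap_apply A A' B']
  letI algBB₂ : Algebra B B₂ := ((algebraMap B' B₂).comp (algebraMap B B')).toAlgebra
  haveI : IsScalarTower B B' B₂ := IsScalarTower.of_algebraMap_eq fun _ => rfl
  haveI : IsScalarTower A B B₂ := IsScalarTower.of_algebraMap_eq fun a => by
    rw [IsScalarTower.algebraMap_apply A B' B₂, IsScalarTower.algebraMap_apply A B B',
      ← IsScalarTower.algebraMap_apply B B' B₂]
  letI algA₁B₂ : Algebra A₁ B₂ := ((algebraMap A₂ B₂).comp (algebraMap A₁ A₂)).toAlgebra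
  haveI : IsScalarTower A₁ A₂ B₂ := IsScalarTower.of_algebraMap_eq fun _ => rfl
  haveI : IsScalarTower A A₁ B₂ := IsScalarTower.of_algebraMap_eq fun a => by
    rw [IsScalarTower.algebraMap_apply A A₂ B₂, IsScalarTower.algebraMap_apply A A₁ A₂,
      ← IsScalarTower.algebraMap_apply A₁ A₂ B₂]
  haveI := hpo₁
  let π : B₁ →ₐ[A] B₂ :=
    Algebra.pushoutDesc B₁ (IsScalarTower.toAlgHom A B B₂) (IsScalarTower.toAlgHom A A₁ B₂)
      (fun _ _ => mul_comm _ _)
  letI algB₁B₂ : Algebra B₁ B₂ := π.toRingHom.toAlgebra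
  have hπ_def : ∀ x, algebraMap B₁ B₂ x = π x := fun _ => rfl
  have hπl : ∀ b : B, π (algebraMap B B₁ b) = algebraMap B B₂ b := fun b => by
    simp only [π, Algebra.pushoutDesc_left]
    rfl
  have hπr : ∀ a : A₁, π (algebraMap A₁ B₁ a) = algebraMap A₁ B₂ a := fun a => by
    simp only [π, Algebra.pushoutDesc_right]
    rfl
  haveI : IsScalarTower B B₁ B₂ := IsScalarTower.of_algebraMap_eq fun b => by
    rw [hπ_def, hπl]
  haveI : IsScalarTower A₁ B₁ B₂ := IsScalarTower.of_algebraMap_eq fun a => by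
    rw [hπ_def, hπr]
  haveI : IsScalarTower A B₁ B₂ := IsScalarTower.of_algebraMap_eq fun a => (π.commutes a).symm
  -- the pushouts
  haveI hpoS : Algebra.IsPushout A A' B B' := hpo.symm
  haveI hpo₂S : Algebra.IsPushout A' A₂ B' B₂ := hpo₂.symm
  have hpA : Algebra.IsPushout A A₂ B B₂ :=
    (Algebra.IsPushout.comp_iff A A' B (S' := B') (T := A₂) (T' := B₂)).mpr inferInstance
  haveI hpo₁S : Algebra.IsPushout A A₁ B B₁ := hpo₁.symm
  have hpB : Algebra.IsPushout A₁ A₂ B₁ B₂ :=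
    (Algebra.IsPushout.comp_iff A A₁ B (S' := B₁) (T := A₂) (T' := B₂)).mp hpA
  have hpo₁₂ : Algebra.IsPushout A₁ B₁ A₂ B₂ := hpB.symm
  -- the modules
  letI modBN₂ : Module B N₂ := Module.compHom N₂ (algebraMap B B')
  haveI : IsScalarTower B B' N₂ := IsScalarTower.of_algebraMap_smul fun _ _ => rfl
  haveI : IsScalarTower B B₂ N₂ := IsScalarTower.of_algebraMap_smul fun b x => by
    rw [IsScalarTower.algebraMap_apply B B' B₂, algebraMap_smul, algebraMap_smul]
  letI modB₁N₂ : Module B₁ N₂ := Module.compHom N₂ (algebraMap B₁ B₂)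
  haveI : IsScalarTower B₁ B₂ N₂ := IsScalarTower.of_algebraMap_smul fun _ _ => rfl
  haveI : IsScalarTower B B₁ N₂ := IsScalarTower.of_algebraMap_smul fun b x => by
    rw [← algebraMap_smul B₂ (algebraMap B B₁ b) x, ← IsScalarTower.algebraMap_apply B B₁ B₂,
      algebraMap_smul]
  have hcomp : IsBaseChange B₂ ((f₂.restrictScalars B).comp f) := IsBaseChange.comp hf hf₂
  let f₁₂ : N₁ →ₗ[B₁] N₂ := hf₁.lift ((f₂.restrictScalars B).comp f)
  have hf₁₂ : IsBaseChange B₂ f₁₂ := by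
    refine IsBaseChange.of_comp hf₁ ?_
    have : (f₁₂.restrictScalars B).comp f₁ = (f₂.restrictScalars B).comp f := hf₁.lift_comp _
    rw [this]
    exact hcomp
  haveI : Algebra.FiniteType A₁ B₁ :=
    Algebra.FiniteType.equiv inferInstance (Algebra.IsPushout.equiv A A₁ B B₁)
  obtain ⟨P₂, hP₂, hcond⟩ := exists_impCond_pullback B₁ B₂ hpo₁₂ N₁ N₂ f₁₂ hf₁₂ t' t s' s P
    ⟨hPt, hass, hcl⟩
  exact ⟨P₂, hP₂, hpo₂, hf₂, hle, hsp, hcond.1, hcond.2.1, hcond.2.2⟩

end Main

section Points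

attribute [local instance] Algebra.TensorProduct.rightAlgebra

variable {A : Type u} [CommRing A] (A' A₁ : Type u) [CommRing A'] [CommRing A₁] [Algebra A A']
  [Algebra A A₁] (p' : Ideal A') [p'.IsPrime] [Module.Flat A (Localization.AtPrime p')]
  (t' t : Ideal A₁) [t'.IsPrime] [t.IsPrime]
  {K : Type*} [Field K] [Algebra A K]

/-- The map `A' ⊗ A₁ → K` induced by a point of `A₁` and a point of `κ(p')`. -/
noncomputable def pointMap (g₁ : A₁ →ₐ[A] K) (g' : p'.ResidueField →ₐ[A] K) :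
    A' ⊗[A] A₁ →ₐ[A] K :=
  Algebra.TensorProduct.productMap (g'.comp (IsScalarTower.toAlgHom A A' p'.ResidueField)) g₁

theorem exists_primes_tensor (hle : t' ≤ t) (g₁ : A₁ →ₐ[A] K) (hg₁ : RingHom.ker g₁ = t)
    (g' : p'.ResidueField →ₐ[A] K) :
    ∃ (s' s : Ideal (A' ⊗[A] A₁)) (_ : s'.IsPrime) (_ : s.IsPrime), s' ≤ s ∧ s'.LiesOver t' ∧
      s.LiesOver t ∧ s.LiesOver p' ∧ s = RingHom.ker (pointMap A' A₁ p' g₁ g') := by
  let g₃ : Localization.AtPrime p' →ₐ[A] K :=
    g'.comp (IsScalarTower.toAlgHom A (Localization.AtPrime p') p'.ResidueField)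
  let G₃ : A₁ ⊗[A] Localization.AtPrime p' →ₐ[A] K := Algebra.TensorProduct.productMap g₁ g₃
  let 𝔯 : Ideal (A₁ ⊗[A] Localization.AtPrime p') := RingHom.ker G₃
  haveI h𝔯 : 𝔯.IsPrime := RingHom.ker_isPrime G₃.toRingHom
  haveI h𝔯t : 𝔯.LiesOver t := ⟨by
    rw [← hg₁]
    ext a
    rw [Ideal.under, Ideal.mem_comap, RingHom.mem_ker, RingHom.mem_ker]
    change g₁ a = 0 ↔ G₃ (a ⊗ₜ 1) = 0
    simp [G₃]⟩
  obtain ⟨𝔯', h𝔯'le, h𝔯'p, h𝔯't⟩ := Ideal.exists_ideal_le_liesOver_of_le (p := t') (q := t) 𝔯 hle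
  let lam : A' ⊗[A] A₁ →ₐ[A] A₁ ⊗[A] Localization.AtPrime p' :=
    Algebra.TensorProduct.productMap
      ((Algebra.TensorProduct.includeRight (R := A) (A := A₁)
        (B := Localization.AtPrime p')).comp (IsScalarTower.toAlgHom A A' (Localization.AtPrime p')))
      (Algebra.TensorProduct.includeLeft (R := A) (S := A) (A := A₁)
        (B := Localization.AtPrime p'))
  have hlamr : ∀ a₁ : A₁, lam (algebraMap A₁ (A' ⊗[A] A₁) a₁) =
      algebraMap A₁ (A₁ ⊗[A] Localization.AtPrime p') a₁ := by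
    intro a₁
    rw [Algebra.TensorProduct.right_algebraMap_apply]
    simp [lam]
  have hcomp : G₃.comp lam = pointMap A' A₁ p' g₁ g' := by
    apply Algebra.TensorProduct.ext'
    intro a' a₁
    have e : IsLocalRing.residue (Localization.AtPrime p')
        (algebraMap A' (Localization.AtPrime p') a') = algebraMap A' p'.ResidueField a' := by
      rw [IsScalarTower.algebraMap_apply A' (Localization.AtPrime p') p'.ResidueField]
      rfl
    simp [G₃, lam, pointMap, g₃, mul_comm, e]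
  have hunder : ∀ I : Ideal (A₁ ⊗[A] Localization.AtPrime p'),
      (I.comap lam.toRingHom).under A₁ = I.under A₁ := by
    intro I
    ext a
    simp only [Ideal.under, Ideal.mem_comap]
    change lam (algebraMap A₁ (A' ⊗[A] A₁) a) ∈ I ↔ _
    rw [hlamr]
  have hs : 𝔯.comap lam.toRingHom = RingHom.ker (pointMap A' A₁ p' g₁ g') := by
    rw [← hcomp]
    ext x
    simp only [Ideal.mem_comap, RingHom.mem_ker]
    rfl
  refine ⟨𝔯'.comap lam.toRingHom, 𝔯.comap lam.toRingHom, Ideal.comap_isPrime _ _,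
    Ideal.comap_isPrime _ _, Ideal.comap_mono h𝔯'le, ⟨?_⟩, ⟨?_⟩, ⟨?_⟩, hs⟩
  · rw [hunder]; exact h𝔯't.over
  · rw [hunder]; exact h𝔯t.over
  · rw [hs]
    ext a'
    rw [Ideal.under, Ideal.mem_comap, RingHom.mem_ker]
    change _ ↔ pointMap A' A₁ p' g₁ g' (a' ⊗ₜ 1) = 0
    simp [pointMap]

end Points

section ET

variable {R' S : Type*} [CommRing R'] [CommRing S] [Algebra R' S] (q : Ideal R') [q.IsPrime]
  (s : Ideal S) [s.IsPrime]

/-- If a prime `s` over `q` is the kernel of a map to `κ(q)` compatible with the structure maps, then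
the residue field extension is trivial. -/
theorem residueField_map_bijective_of_ker (hsq : q = s.comap (algebraMap R' S))
    (G : S →+* q.ResidueField) (hG : ∀ r, G (algebraMap R' S r) = algebraMap R' q.ResidueField r)
    (hs : s = RingHom.ker G) :
    Function.Bijective (Ideal.ResidueField.map q s (algebraMap R' S) hsq) := by
  have hunit : s.primeCompl ≤ (IsUnit.submonoid q.ResidueField).comap G := by
    intro x hx
    rw [Submonoid.mem_comap, IsUnit.mem_submonoid_iff, isUnit_iff_ne_zero]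
    intro h0
    apply hx
    change x ∈ s
    rw [hs, RingHom.mem_ker, h0]
  let g := Ideal.ResidueField.lift s G hs.le hunit
  have hcomp : g.comp (Ideal.ResidueField.map q s (algebraMap R' S) hsq) = RingHom.id _ := by
    apply Ideal.ResidueField.ringHom_ext
    ext r
    simp [g, hG]
  refine ⟨RingHom.injective _, fun y => ⟨g y, ?_⟩⟩
  apply g.injective
  exact congrArg (fun φ : q.ResidueField →+* q.ResidueField => φ (g y)) hcomp

end ET

section Fin

attribute [local instance] Algebra.TensorProduct.rightAlgebra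

theorem exists_impurity_of_point {A B : Type u} [CommRing A] [CommRing B] [Algebra A B]
    [Algebra.FiniteType A B] (N : Type u) [AddCommGroup N] [Module B N] (p : Ideal A) [p.IsPrime]
    (A' B' N' : Type u) [CommRing A'] [CommRing B'] [Algebra A A'] [Algebra B B'] [Algebra A' B']
    [Algebra A B'] [IsScalarTower A B B'] [IsScalarTower A A' B']
    (hpo : Algebra.IsPushout A B A' B')
    [AddCommGroup N'] [Module B' N'] [Module B N'] [IsScalarTower B B' N'] (f : N →ₗ[B] N')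
    (hf : IsBaseChange B' f)
    (p' : Ideal A') [p'.IsPrime] [Module.Flat A (Localization.AtPrime p')]
    (A₁ B₁ N₁ : Type u) [CommRing A₁] [CommRing B₁] [Algebra A A₁] [Algebra B B₁]
    [Algebra A₁ B₁] [Algebra A B₁] [IsScalarTower A B B₁] [IsScalarTower A A₁ B₁]
    [AddCommGroup N₁] [Module B₁ N₁] [Module B N₁] [IsScalarTower B B₁ N₁] [Module A₁ N₁]
    [IsScalarTower A₁ B₁ N₁] (f₁ : N →ₗ[B] N₁) (t' t : Ideal A₁) [t'.IsPrime] [t.IsPrime]
    (P : Ideal B₁) [P.IsPrime] (himp : FlatCA.IsImpurity A B N p A₁ B₁ N₁ f₁ t' t P)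
    {K : Type*} [Field K] [Algebra A K] (g₁ : A₁ →ₐ[A] K) (hg₁ : RingHom.ker g₁ = t)
    (g' : p'.ResidueField →ₐ[A] K) :
    ∃ (s' s : Ideal (A' ⊗[A] A₁)) (_ : s'.IsPrime) (_ : s.IsPrime)
      (P₂ : Ideal ((A' ⊗[A] A₁) ⊗[A'] B')) (_ : P₂.IsPrime),
      FlatCA.IsImpurity A' B' N' p' (A' ⊗[A] A₁) ((A' ⊗[A] A₁) ⊗[A'] B')
        (((A' ⊗[A] A₁) ⊗[A'] B') ⊗[B'] N')
        (TensorProduct.mk B' ((A' ⊗[A] A₁) ⊗[A'] B') N' 1) s' s P₂ ∧
      s.LiesOver p' ∧ s = RingHom.ker (pointMap A' A₁ p' g₁ g') := by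
  obtain ⟨s', s, hs'p, hsp, hle, hs't', hst, hsp', hs⟩ :=
    exists_primes_tensor A' A₁ p' t' t himp.2.2.1 g₁ hg₁ g'
  have hpo₂ : Algebra.IsPushout A' B' (A' ⊗[A] A₁) ((A' ⊗[A] A₁) ⊗[A'] B') := inferInstance
  have hf₂ := (TensorProduct.isBaseChange B' N' ((A' ⊗[A] A₁) ⊗[A'] B'))
  have := exists_impurity_pullback N p A' B' N' f p' A₁ B₁ N₁ f₁ t' t P
    (A' ⊗[A] A₁) ((A' ⊗[A] A₁) ⊗[A'] B') (((A' ⊗[A] A₁) ⊗[A'] B') ⊗[B'] N')
    (TensorProduct.mk B' ((A' ⊗[A] A₁) ⊗[A'] B') N' 1) s' s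
  have h2 := this hpo hf
  have h3 := h2 hpo₂
  have h4 := h3 hf₂
  have h5 := h4 hle
  obtain ⟨P₂, hP₂, h⟩ := h5 himp
  exact ⟨s', s, hs'p, hsp, P₂, hP₂, h, hsp', hs⟩

end Fin

section CF

/-- A common field extension of the residue fields of two primes over the same prime. -/
theorem exists_compositum {A : Type u} [CommRing A] (A' A₁ : Type u) [CommRing A'] [CommRing A₁]
    [Algebra A A'] [Algebra A A₁] (p : Ideal A) [p.IsPrime]
    (p' : Ideal A') [p'.IsPrime] [hp' : p'.LiesOver p] (t : Ideal A₁) [t.IsPrime]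
    [ht : t.LiesOver p] :
    ∃ (K : Type u) (_ : Field K) (_ : Algebra A K) (g₁ : A₁ →ₐ[A] K)
      (_ : p'.ResidueField →ₐ[A] K), RingHom.ker g₁ = t := by
  let m₁ : p.ResidueField →ₐ[A] t.ResidueField :=
    Ideal.ResidueField.mapₐ p t (Algebra.ofId A A₁) ht.over
  let m' : p.ResidueField →ₐ[A] p'.ResidueField :=
    Ideal.ResidueField.mapₐ p p' (Algebra.ofId A A') hp'.over
  letI alg₁ : Algebra p.ResidueField t.ResidueField := m₁.toRingHom.toAlgebra
  letI alg' : Algebra p.ResidueField p'.ResidueField := m'.toRingHom.toAlgebra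
  haveI : Nontrivial (t.ResidueField ⊗[p.ResidueField] p'.ResidueField) :=
    Algebra.TensorProduct.nontrivial_of_algebraMap_injective_of_flat_left p.ResidueField
      t.ResidueField p'.ResidueField (algebraMap p.ResidueField p'.ResidueField).injective
  obtain ⟨𝔪, h𝔪⟩ := Ideal.exists_maximal (t.ResidueField ⊗[p.ResidueField] p'.ResidueField)
  letI fK : Field ((t.ResidueField ⊗[p.ResidueField] p'.ResidueField) ⧸ 𝔪) :=
    Ideal.Quotient.field 𝔪
  let ι₁ : t.ResidueField →+* (t.ResidueField ⊗[p.ResidueField] p'.ResidueField) ⧸ 𝔪 :=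
    (Ideal.Quotient.mk 𝔪).comp Algebra.TensorProduct.includeLeftRingHom
  let φ₁ : A₁ →+* (t.ResidueField ⊗[p.ResidueField] p'.ResidueField) ⧸ 𝔪 :=
    ι₁.comp (algebraMap A₁ t.ResidueField)
  let φ' : p'.ResidueField →+* (t.ResidueField ⊗[p.ResidueField] p'.ResidueField) ⧸ 𝔪 :=
    (Ideal.Quotient.mk 𝔪).comp (Algebra.TensorProduct.includeRight (R := p.ResidueField)
      (A := t.ResidueField) (B := p'.ResidueField)).toRingHom
  letI algK : Algebra A ((t.ResidueField ⊗[p.ResidueField] p'.ResidueField) ⧸ 𝔪) :=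
    (φ₁.comp (algebraMap A A₁)).toAlgebra
  have hcompat : ∀ a : A, φ' (algebraMap A p'.ResidueField a) = φ₁ (algebraMap A A₁ a) := by
    intro a
    have e1 : algebraMap A p'.ResidueField a =
        algebraMap p.ResidueField p'.ResidueField (algebraMap A p.ResidueField a) :=
      (m'.commutes a).symm
    have e2 : algebraMap A₁ t.ResidueField (algebraMap A A₁ a) =
        algebraMap p.ResidueField t.ResidueField (algebraMap A p.ResidueField a) := by
      rw [← IsScalarTower.algebraMap_apply A A₁ t.ResidueField]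
      exact (m₁.commutes a).symm
    change Ideal.Quotient.mk 𝔪 ((1 : t.ResidueField) ⊗ₜ[p.ResidueField]
      (algebraMap A p'.ResidueField a)) = Ideal.Quotient.mk 𝔪
        ((algebraMap A₁ t.ResidueField (algebraMap A A₁ a)) ⊗ₜ[p.ResidueField]
          (1 : p'.ResidueField))
    rw [e1, e2, Algebra.algebraMap_eq_smul_one, Algebra.algebraMap_eq_smul_one (A := t.ResidueField),
      TensorProduct.smul_tmul]
  refine ⟨_, fK, algK, { φ₁ with commutes' := fun _ => rfl },
    { φ' with commutes' := fun a => hcompat a }, ?_⟩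
  ext x
  rw [RingHom.mem_ker]
  change ι₁ (algebraMap A₁ t.ResidueField x) = 0 ↔ _
  rw [map_eq_zero_iff ι₁ ι₁.injective, Ideal.algebraMap_residueField_eq_zero]

end CF

end Groth.Agent.Lib.Helper95.PurePullback
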