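import Mathlib
import Groth.Prelude.Def_FlatCA
import Groth.Agent.Lib.Helper95.PurePullback

/-!
Helper library for S1222, part A: supports and base change; associated primes of quasi-finite
supports.
-/

set_option autoImplicit false
set_option linter.style.haveILetI false
universe u

namespace Groth.Agent.Lib.Helper95.PureFinA

open TensorProduct

section Supp

variable {S S' : Type u} [CommRing S] [CommRing S'] [Algebra S S']
  (N : Type u) [AddCommGroup N] [Module S N] [Module.Finite S N]

/-- The support of a base change of a finite module contains the preimage of the support. -/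
theorem annihilator_baseChange_le (w : Ideal S') [hw : w.IsPrime]
    (h : Module.annihilator S N ≤ w.comap (algebraMap S S')) :
    Module.annihilator S' (S' ⊗[S] N) ≤ w := by
  classical
  let q : Ideal S := w.comap (algebraMap S S')
  haveI hq : q.IsPrime := Ideal.comap_isPrime _ _
  have h1 : (⟨q, hq⟩ : PrimeSpectrum S) ∈ Module.support S N :=
    Module.mem_support_iff_of_finite.mpr h
  rw [Module.mem_support_iff_nontrivial_residueField_tensorProduct] at h1
  change Nontrivial (q.ResidueField ⊗[S] N) at h1
  let K := w.ResidueField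
  let k := q.ResidueField
  let φ : k →+* K := Ideal.ResidueField.map q w (algebraMap S S') rfl
  letI algkK : Algebra k K := φ.toAlgebra
  haveI : IsScalarTower S k K := IsScalarTower.of_algebraMap_eq fun s => by
    change algebraMap S K s = φ (algebraMap S k s)
    rw [Ideal.ResidueField.map_algebraMap, IsScalarTower.algebraMap_apply S S' K]
  haveI : Nontrivial (K ⊗[k] (k ⊗[S] N)) := Module.FaithfullyFlat.lTensor_nontrivial k K _
  have e1 : K ⊗[k] (k ⊗[S] N) ≃ₗ[K] K ⊗[S] N :=
    AlgebraTensorModule.cancelBaseChange S k K K N
  have e2 : K ⊗[S'] (S' ⊗[S] N) ≃ₗ[K] K ⊗[S] N :=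
    AlgebraTensorModule.cancelBaseChange S S' K K N
  haveI : Nontrivial (K ⊗[S] N) := e1.symm.toEquiv.nontrivial
  haveI : Nontrivial (K ⊗[S'] (S' ⊗[S] N)) := e2.toEquiv.nontrivial
  have h2 : (⟨w, hw⟩ : PrimeSpectrum S') ∈ Module.support S' (S' ⊗[S] N) := by
    rw [Module.mem_support_iff_nontrivial_residueField_tensorProduct]
    infer_instance
  exact Module.mem_support_iff_of_finite.mp h2

omit [Module.Finite S N] in
theorem algebraMap_mem_annihilator_baseChange {x : S} (hx : x ∈ Module.annihilator S N) :
    algebraMap S S' x ∈ Module.annihilator S' (S' ⊗[S] N) := by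
  rw [Module.mem_annihilator]
  intro m
  rw [algebraMap_smul]
  induction m using TensorProduct.induction_on with
  | zero => rw [smul_zero]
  | tmul f n =>
    rw [TensorProduct.smul_tmul', TensorProduct.smul_tmul, Module.mem_annihilator.mp hx n,
      TensorProduct.tmul_zero]
  | add a b ha hb => rw [smul_add, ha, hb, add_zero]

end Supp

section Ass

attribute [local instance] Algebra.TensorProduct.rightAlgebra

variable {R S : Type u} [CommRing R] [CommRing S] [Algebra R S] [Algebra.FiniteType R S]
  (N : Type u) [AddCommGroup N] [Module S N] [Module.Finite S N]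

omit [Algebra.FiniteType R S] [Module.Finite S N] in
theorem algebraMap_mem_annihilator_fiberMod (p : Ideal R) [p.IsPrime] {x : S}
    (hx : x ∈ Module.annihilator S N) :
    algebraMap S (p.Fiber S) x ∈ Module.annihilator (p.Fiber S) (FlatCA.fiberMod p S N) := by
  have key : ∀ m : (p.Fiber S) ⊗[S] N, (algebraMap S (p.Fiber S) x) • m = 0 := by
    intro m
    rw [algebraMap_smul]
    induction m using TensorProduct.induction_on with
    | zero => rw [smul_zero]
    | tmul f n =>
      rw [TensorProduct.smul_tmul', TensorProduct.smul_tmul, Module.mem_annihilator.mp hx n,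
        TensorProduct.tmul_zero]
    | add a b ha hb => rw [smul_add, ha, hb, add_zero]
  exact Module.mem_annihilator.mpr key

variable [Algebra.QuasiFinite R (S ⧸ Module.annihilator S N)]

/-- For a module with quasi-finite support, every point of the support is an associated point of
its fibre. -/
theorem fiberIdeal_mem_associatedPrimes (p : Ideal R) [p.IsPrime] (q : Ideal S) [hqp : q.IsPrime]
    [hlo : q.LiesOver p] (hq : Module.annihilator S N ≤ q) :
    FlatCA.fiberIdeal p q ∈ associatedPrimes (p.Fiber S) (FlatCA.fiberMod p S N) := by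
  haveI : IsNoetherianRing (p.Fiber S) :=
    Algebra.FiniteType.isNoetherianRing p.ResidueField (p.Fiber S)
  haveI : Module.Finite (p.Fiber S) (FlatCA.fiberMod p S N) :=
    inferInstanceAs (Module.Finite (p.Fiber S) ((p.Fiber S) ⊗[S] N))
  let e := PrimeSpectrum.primesOverOrderIsoFiber R S p
  let x : p.primesOver S := ⟨q, hqp, hlo⟩
  have hQ : ((e.symm (e x) : p.primesOver S) : Ideal S) = q := by rw [e.symm_apply_apply]
  rw [PrimeSpectrum.coe_primesOverOrderIsoFiber_symm_apply] at hQ
  have hfi : FlatCA.fiberIdeal p q = (e x).asIdeal := by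
    have := PurePullback.fiberIdeal_comap_includeRight p S (e x).asIdeal
    rw [← this]
    congr 1
    exact hQ.symm
  rw [hfi]
  apply Module.associatedPrimes.minimalPrimes_annihilator_subset_associatedPrimes
  refine ⟨⟨(e x).isPrime, ?_⟩, ?_⟩
  · refine annihilator_baseChange_le (S := S) (S' := p.Fiber S) N (e x).asIdeal ?_
    intro y hy
    rw [Ideal.mem_comap]
    have h5 : y ∈ q := hq hy
    rw [← hQ] at h5
    exact Ideal.mem_comap.mp h5
  · rintro Q' ⟨hQ'p, hQ'le⟩ hQ'Q
    haveI := hQ'p
    let incl : S →+* p.Fiber S := (Algebra.TensorProduct.includeRight (R := R)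
      (A := p.ResidueField) (B := S)).toRingHom
    let q' : Ideal S := Q'.comap incl
    haveI hq'p : q'.IsPrime := Ideal.comap_isPrime incl Q'
    haveI hq'lo : q'.LiesOver p := PurePullback.liesOver_comap_includeRight p S Q'
    have hq'q : q' ≤ q := by
      rw [← hQ]
      exact Ideal.comap_mono hQ'Q
    have hann : Module.annihilator S N ≤ q' := by
      intro y hy
      exact Ideal.mem_comap.mpr (hQ'le (algebraMap_mem_annihilator_fiberMod N p hy))
    -- pass to the quotient by the annihilator
    let mk := Ideal.Quotient.mk (Module.annihilator S N)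
    have hsurj : Function.Surjective mk := Ideal.Quotient.mk_surjective
    haveI : (q'.map mk).IsPrime := Ideal.map_isPrime_of_surjective hsurj (by
      rw [Ideal.mk_ker]; exact hann)
    haveI : (q.map mk).IsPrime := Ideal.map_isPrime_of_surjective hsurj (by
      rw [Ideal.mk_ker]; exact hq)
    have hc' : (q'.map mk).comap mk = q' := by
      rw [Ideal.comap_map_of_surjective mk hsurj, ← RingHom.ker_eq_comap_bot, Ideal.mk_ker,
        sup_eq_left.mpr hann]
    have hc : (q.map mk).comap mk = q := by
      rw [Ideal.comap_map_of_surjective mk hsurj, ← RingHom.ker_eq_comap_bot, Ideal.mk_ker,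
        sup_eq_left.mpr hq]
    have hunder : (q'.map mk).under R = (q.map mk).under R := by
      have h1 : (q'.map mk).under R = ((q'.map mk).comap mk).comap (algebraMap R S) := rfl
      have h2 : (q.map mk).under R = ((q.map mk).comap mk).comap (algebraMap R S) := rfl
      rw [h1, h2, hc', hc, ← Ideal.under_def, ← Ideal.under_def, ← hq'lo.over, ← hlo.over]
    have heq := Algebra.QuasiFinite.eq_of_le_of_under_eq (R := R) (q'.map mk) (q.map mk)
      (Ideal.map_mono hq'q) hunder
    have hqq : q' = q := by rw [← hc', ← hc, heq]
    have h3 := PurePullback.fiberIdeal_comap_includeRight p S Q'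
    have h4 : FlatCA.fiberIdeal p q' = Q' := h3
    rw [← hfi, ← hqq, h4]

end Ass

section QF

attribute [local instance] Algebra.TensorProduct.rightAlgebra

variable {A B : Type u} [CommRing A] [CommRing B] [Algebra A B] [Algebra.FiniteType A B]
  (N : Type u) [AddCommGroup N] [Module B N] [Module.Finite B N]

/-- If all fibre modules have finite support then the scheme-theoretic support is quasi-finite. -/
theorem quasiFinite_quotient_annihilator
    (hfin : ∀ (p : Ideal A) [p.IsPrime],
      (Module.support (p.Fiber B) (FlatCA.fiberMod p B N)).Finite) :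
    Algebra.QuasiFinite A (B ⧸ Module.annihilator B N) := by
  rw [Algebra.QuasiFinite.iff_finite_comap_preimage_singleton]
  rintro ⟨p, hp⟩
  haveI := hp
  haveI : Module.Finite (p.Fiber B) (FlatCA.fiberMod p B N) :=
    inferInstanceAs (Module.Finite (p.Fiber B) ((p.Fiber B) ⊗[B] N))
  let mk := Ideal.Quotient.mk (Module.annihilator B N)
  have hsurj : Function.Surjective mk := Ideal.Quotient.mk_surjective
  let e := PrimeSpectrum.primesOverOrderIsoFiber A B p
  let T : Set (PrimeSpectrum (B ⧸ Module.annihilator B N)) :=
    PrimeSpectrum.comap (algebraMap A (B ⧸ Module.annihilator B N)) ⁻¹' {⟨p, hp⟩}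
  have hlo : ∀ c : T, (c.1.asIdeal.comap mk).LiesOver p := by
    intro c
    have h1 : PrimeSpectrum.comap (algebraMap A (B ⧸ Module.annihilator B N)) c.1 = ⟨p, hp⟩ := c.2
    have h2 : (PrimeSpectrum.comap (algebraMap A (B ⧸ Module.annihilator B N)) c.1).asIdeal = p :=
      congrArg PrimeSpectrum.asIdeal h1
    refine ⟨?_⟩
    rw [← h2]
    rfl
  let q : T → p.primesOver B := fun c => ⟨c.1.asIdeal.comap mk, Ideal.comap_isPrime _ _, hlo c⟩
  have hfinS := hfin p
  haveI : Finite (Module.support (p.Fiber B) (FlatCA.fiberMod p B N)) := hfinS.to_subtype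
  let g : T → Module.support (p.Fiber B) (FlatCA.fiberMod p B N) := fun c => ⟨e (q c), by
    rw [Module.mem_support_iff_of_finite]
    refine annihilator_baseChange_le (S := B) (S' := p.Fiber B) N (e (q c)).asIdeal ?_
    have hQ : ((e.symm (e (q c)) : p.primesOver B) : Ideal B) = (q c : Ideal B) := by
      rw [e.symm_apply_apply]
    rw [PrimeSpectrum.coe_primesOverOrderIsoFiber_symm_apply] at hQ
    intro y hy
    have h5 : y ∈ (q c : Ideal B) := by
      change mk y ∈ c.1.asIdeal
      rw [Ideal.Quotient.eq_zero_iff_mem.mpr hy]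
      exact Ideal.zero_mem _
    rw [← hQ] at h5
    exact Ideal.mem_comap.mp h5⟩
  have hg : Function.Injective g := by
    intro c₁ c₂ h
    have h1 : e (q c₁) = e (q c₂) := congrArg Subtype.val h
    have h2 : q c₁ = q c₂ := e.injective h1
    have h3 : c₁.1.asIdeal.comap mk = c₂.1.asIdeal.comap mk := congrArg Subtype.val h2
    have h4 : c₁.1.asIdeal = c₂.1.asIdeal := Ideal.comap_injective_of_surjective mk hsurj h3
    exact Subtype.ext (PrimeSpectrum.ext h4)
  haveI : Finite T := Finite.of_injective g hg
  exact Set.toFinite T

end QF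

end Groth.Agent.Lib.Helper95.PureFinA
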