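import Mathlib
import Groth.Agent.Lib.Helper11.IntegralDim
import Groth.Agent.Lib.Helper95.PureFinA

/-!
Helper library for S12231 (helper95), part A: Krull dimension of a finite type algebra over a
field is invariant under extension of the base field; support dimension version.
-/

set_option autoImplicit false
set_option linter.style.haveILetI false
universe u

namespace Groth.Agent.Lib.Helper95.DevDim

open TensorProduct Groth.Agent.Lib.Helper11.IntegralDim

section A

variable (k k' : Type u) [Field k] [Field k'] [Algebra k k']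

theorem ringKrullDim_mvPolynomial_tensor (s : ℕ) :
    ringKrullDim (MvPolynomial (Fin s) k ⊗[k] k') = s := by
  have e : (MvPolynomial (Fin s) k ⊗[k] k') ≃+* MvPolynomial (Fin s) k' :=
    (Algebra.TensorProduct.comm k (MvPolynomial (Fin s) k) k').toRingEquiv.trans
      (MvPolynomial.algebraTensorAlgEquiv k k' (σ := Fin s)).toRingEquiv
  rw [ringKrullDim_eq_of_ringEquiv e, MvPolynomial.ringKrullDim_of_isNoetherianRing,
    ringKrullDim_eq_zero_of_field]
  simp

theorem ringKrullDim_tensor_field (A : Type u) [CommRing A] [Algebra k A]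
    [Algebra.FiniteType k A] :
    ringKrullDim (A ⊗[k] k') = ringKrullDim A := by
  rcases subsingleton_or_nontrivial A with h | h
  · haveI : Subsingleton (A ⊗[k] k') := by
      refine ⟨fun x y => ?_⟩
      have h0 : ∀ z : A ⊗[k] k', z = 0 := by
        intro z
        induction z using TensorProduct.induction_on with
        | zero => rfl
        | tmul a b => rw [Subsingleton.elim a 0, TensorProduct.zero_tmul]
        | add a b ha hb => rw [ha, hb, add_zero]
      rw [h0 x, h0 y]
    rw [ringKrullDim_eq_bot_of_subsingleton, ringKrullDim_eq_bot_of_subsingleton]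
  obtain ⟨s, g, hinj, hfin⟩ := exists_finite_inj_algHom_of_fg k A
  letI algPA : Algebra (MvPolynomial (Fin s) k) A := g.toRingHom.toAlgebra
  haveI : IsScalarTower k (MvPolynomial (Fin s) k) A :=
    IsScalarTower.of_algebraMap_eq (fun x => (g.commutes x).symm)
  haveI : Module.Finite (MvPolynomial (Fin s) k) A := hfin
  have h1 : ringKrullDim A = s := by
    rw [ringKrullDim_eq_of_isIntegral_of_injective (R := MvPolynomial (Fin s) k) (S := A) hinj,
      MvPolynomial.ringKrullDim_of_isNoetherianRing, ringKrullDim_eq_zero_of_field]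
    simp
  let h : MvPolynomial (Fin s) k ⊗[k] k' →ₐ[k] A ⊗[k] k' :=
    Algebra.TensorProduct.map (IsScalarTower.toAlgHom k (MvPolynomial (Fin s) k) A)
      (AlgHom.id k k')
  letI algT : Algebra (MvPolynomial (Fin s) k ⊗[k] k') (A ⊗[k] k') := h.toRingHom.toAlgebra
  haveI : IsScalarTower (MvPolynomial (Fin s) k) (MvPolynomial (Fin s) k ⊗[k] k') (A ⊗[k] k') :=
    IsScalarTower.of_algebraMap_eq (fun x => by
      change _ = h (x ⊗ₜ 1)
      simp [h, Algebra.TensorProduct.algebraMap_apply])
  have hpo : Algebra.IsPushout (MvPolynomial (Fin s) k) A (MvPolynomial (Fin s) k ⊗[k] k')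
      (A ⊗[k] k') :=
    Algebra.IsPushout.tensorProduct_tensorProduct k k' (MvPolynomial (Fin s) k) A (by
      ext x
      change h (1 ⊗ₜ x) = 1 ⊗ₜ x
      simp [h])
  have hfin' : (algebraMap (MvPolynomial (Fin s) k ⊗[k] k') (A ⊗[k] k')).Finite :=
    RingHom.finite_isStableUnderBaseChange (MvPolynomial (Fin s) k) A
      (MvPolynomial (Fin s) k ⊗[k] k') (A ⊗[k] k') (RingHom.finite_algebraMap.mpr inferInstance)
  haveI : Module.Finite (MvPolynomial (Fin s) k ⊗[k] k') (A ⊗[k] k') :=
    RingHom.finite_algebraMap.mp hfin'
  have hinj' : Function.Injective (algebraMap (MvPolynomial (Fin s) k ⊗[k] k') (A ⊗[k] k')) := by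
    have := Module.Flat.rTensor_preserves_injective_linearMap (R := k) (M := k')
      (IsScalarTower.toAlgHom k (MvPolynomial (Fin s) k) A).toLinearMap hinj
    intro x y hxy
    apply this
    exact hxy
  rw [ringKrullDim_eq_of_isIntegral_of_injective hinj', ringKrullDim_mvPolynomial_tensor, h1]

end A

section B

variable {k k' : Type u} [Field k] [Field k'] [Algebra k k']

theorem ringKrullDim_eq_of_isPushout (A A' : Type u) [CommRing A] [CommRing A'] [Algebra k A]
    [Algebra k' A'] [Algebra k A'] [Algebra A A'] [IsScalarTower k k' A'] [IsScalarTower k A A']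
    [Algebra.FiniteType k A] (h : Algebra.IsPushout k A k' A') :
    ringKrullDim A' = ringKrullDim A := by
  rw [← ringKrullDim_tensor_field k k' A]
  exact (ringKrullDim_eq_of_ringEquiv (Algebra.IsPushout.equiv k A k' A').toRingEquiv).symm

theorem zeroLocus_annihilator_baseChange {T T' : Type u} [CommRing T] [CommRing T'] [Algebra T T']
    (M M' : Type u) [AddCommGroup M] [Module T M] [Module.Finite T M] [AddCommGroup M']
    [Module T' M'] [Module T M'] [IsScalarTower T T' M'] (f : M →ₗ[T] M')
    (hf : IsBaseChange T' f) :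
    PrimeSpectrum.zeroLocus (Module.annihilator T' M' : Set T') =
      PrimeSpectrum.zeroLocus ((Module.annihilator T M).map (algebraMap T T') : Set T') := by
  have hann : Module.annihilator T' M' = Module.annihilator T' (T' ⊗[T] M) :=
    (hf.equiv.annihilator_eq).symm
  rw [hann]
  ext w
  simp only [PrimeSpectrum.mem_zeroLocus, SetLike.coe_subset_coe]
  constructor
  · intro h1
    rw [Ideal.map_le_iff_le_comap]
    intro x hx
    exact h1 (PureFinA.algebraMap_mem_annihilator_baseChange M hx)
  · intro h1
    rw [Ideal.map_le_iff_le_comap] at h1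
    exact PureFinA.annihilator_baseChange_le M w.asIdeal h1

theorem isScalarTower_quot (R : Type u) [CommRing R] {T T' : Type u} [CommRing T] [CommRing T']
    [Algebra R T] [Algebra R T'] [Algebra T T'] [IsScalarTower R T T'] (I : Ideal T) :
    IsScalarTower R (T ⧸ I) (T' ⧸ I.map (algebraMap T T')) :=
  IsScalarTower.of_algebraMap_eq (fun x => by
    rw [IsScalarTower.algebraMap_apply R T' (T' ⧸ I.map (algebraMap T T')),
      IsScalarTower.algebraMap_apply R T T', IsScalarTower.algebraMap_apply R T (T ⧸ I)]
    rfl)

attribute [local instance] isScalarTower_quot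

section Q
attribute [local instance] Algebra.TensorProduct.rightAlgebra

theorem isPushout_quotient {T T' : Type u} [CommRing T] [CommRing T'] [Algebra k T]
    [Algebra k' T'] [Algebra k T'] [Algebra T T'] [IsScalarTower k k' T'] [IsScalarTower k T T']
    (h : Algebra.IsPushout k T k' T') (I : Ideal T) :
    Algebra.IsPushout k (T ⧸ I) k' (T' ⧸ I.map (algebraMap T T')) := by
  haveI := h
  rw [Algebra.IsPushout.comp_iff k T k' T' (T := T ⧸ I) (T' := T' ⧸ I.map (algebraMap T T'))]
  have h1 : Algebra.IsPushout T T' (T ⧸ I) (T' ⧸ I.map (algebraMap T T')) :=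
    Algebra.IsPushout.of_equiv (R := T) (R' := T') (S := T ⧸ I) (S' := T' ⊗[T] (T ⧸ I))
      (Algebra.TensorProduct.quotIdealMapEquivTensorQuot T' I).symm (by
        ext x
        simp only [RingHom.coe_comp, Function.comp_apply]
        change (Algebra.TensorProduct.quotIdealMapEquivTensorQuot T' I).symm _ = _
        rw [AlgEquiv.symm_apply_eq]
        change (1 : T') ⊗ₜ[T] (Ideal.Quotient.mk I x) = _
        have : algebraMap (T ⧸ I) (T' ⧸ I.map (algebraMap T T')) (Ideal.Quotient.mk I x) =
            Ideal.Quotient.mk _ (algebraMap T T' x) := rfl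
        rw [this, Algebra.TensorProduct.quotIdealMapEquivTensorQuot_mk]
        rw [← Ideal.Quotient.algebraMap_eq, Algebra.algebraMap_eq_smul_one (A := T ⧸ I),
          TensorProduct.tmul_smul, TensorProduct.smul_tmul', Algebra.smul_def, mul_one])
  exact h1.symm

end Q

theorem supportDim_eq_of_isPushout (T T' : Type u) [CommRing T] [CommRing T'] [Algebra k T]
    [Algebra k' T'] [Algebra k T'] [Algebra T T'] [IsScalarTower k k' T'] [IsScalarTower k T T']
    [Algebra.FiniteType k T] (h : Algebra.IsPushout k T k' T')
    (M M' : Type u) [AddCommGroup M] [Module T M] [Module.Finite T M] [AddCommGroup M']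
    [Module T' M'] [Module T M'] [IsScalarTower T T' M'] (f : M →ₗ[T] M')
    (hf : IsBaseChange T' f) :
    Module.supportDim T' M' = Module.supportDim T M := by
  haveI : Module.Finite T' M' := Module.Finite.equiv hf.equiv
  rw [Module.supportDim_eq_ringKrullDim_quotient_annihilator T M, Module.supportDim,
    Module.support_eq_zeroLocus, zeroLocus_annihilator_baseChange M M' f hf, ← ringKrullDim_quotient]
  exact ringKrullDim_eq_of_isPushout (k := k) (k' := k') _ _ (isPushout_quotient h _)

end B

end Groth.Agent.Lib.Helper95.DevDim
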