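import Mathlib
import Groth.Prelude.Def_FlatCA
import Groth.Agent.Lib.Helper95.DevDim
import Groth.Agent.Lib.Helper95.PurePullback

/-!
Helper library for S12231 (helper95), part B: the support dimension of the fibre module is
invariant under base change.
-/

set_option autoImplicit false
set_option linter.style.haveILetI false
universe u

namespace Groth.Agent.Lib.Helper95.DevFib

open TensorProduct Groth.Agent.Lib.Helper95 Groth.Agent.Lib.Helper95.PurePullback

section C

attribute [local instance] Algebra.TensorProduct.rightAlgebra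

theorem supportDim_fiberMod_baseChange
    {R : Type u} [CommRing R] (S : Type u) [CommRing S] [Algebra R S] [Algebra.FiniteType R S]
    (N : Type u) [AddCommGroup N] [Module S N] [Module R N] [IsScalarTower R S N]
    [Module.Finite S N] (p : Ideal R) [p.IsPrime]
    (R' : Type u) [CommRing R'] [Algebra R R'] (p' : Ideal R') [p'.IsPrime] [p'.LiesOver p]
    (S' : Type u) [CommRing S'] [Algebra R' S'] [Algebra R S'] [Algebra S S']
    [IsScalarTower R R' S'] [IsScalarTower R S S'] [Algebra.IsPushout R R' S S']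
    (N' : Type u) [AddCommGroup N'] [Module S' N'] [Module R' N'] [IsScalarTower R' S' N']
    [Module S N'] [IsScalarTower S S' N'] (f : N →ₗ[S] N') (hf : IsBaseChange S' f) :
    Module.supportDim (p'.Fiber S') (FlatCA.fiberMod p' S' N') =
      Module.supportDim (p.Fiber S) (FlatCA.fiberMod p S N) := by
  -- residue fields
  letI algkk' : Algebra p.ResidueField p'.ResidueField := (kappaMap p p').toRingHom.toAlgebra
  haveI tRkk' : IsScalarTower R p.ResidueField p'.ResidueField :=
    IsScalarTower.of_algebraMap_eq (fun r => ((kappaMap p p').commutes r).symm)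
  -- fibre rings
  letI algTT' : Algebra (p.Fiber S) (p'.Fiber S') := (theta S S' p p').toRingHom.toAlgebra
  haveI tkTT' : IsScalarTower p.ResidueField (p.Fiber S) (p'.Fiber S') :=
    IsScalarTower.of_algebraMap_eq (R := p.ResidueField) (S := p.Fiber S) (A := p'.Fiber S')
      (fun x => by
      change (algebraMap p'.ResidueField (p'.Fiber S')) (kappaMap p p' x) =
        theta S S' p p' (algebraMap p.ResidueField (p.Fiber S) x)
      rw [Algebra.TensorProduct.algebraMap_apply, Algebra.TensorProduct.algebraMap_apply,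
        theta_tmul, map_one]
      rfl)
  letI algST' : Algebra S (p'.Fiber S') :=
    ((algebraMap S' (p'.Fiber S')).comp (algebraMap S S')).toAlgebra
  haveI tSS'T' : IsScalarTower S S' (p'.Fiber S') :=
    IsScalarTower.of_algebraMap_eq (R := S) (S := S') (A := p'.Fiber S') (fun _ => rfl)
  haveI tSTT' : IsScalarTower S (p.Fiber S) (p'.Fiber S') :=
    IsScalarTower.of_algebraMap_eq (R := S) (S := p.Fiber S) (A := p'.Fiber S') (fun x => by
      change (algebraMap S' (p'.Fiber S')) (algebraMap S S' x) =
        theta S S' p p' (algebraMap S (p.Fiber S) x)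
      change (1 : p'.ResidueField) ⊗ₜ[R'] (algebraMap S S' x) =
        theta S S' p p' ((1 : p.ResidueField) ⊗ₜ[R] x)
      rw [theta_tmul, map_one])
  -- the pushout
  have hpo : Algebra.IsPushout p.ResidueField (p.Fiber S) p'.ResidueField (p'.Fiber S') := by
    apply Algebra.IsPushout.symm
    constructor
    let e1 : p'.ResidueField ⊗[p.ResidueField] (p.ResidueField ⊗[R] S) ≃ₗ[p'.ResidueField]
        p'.ResidueField ⊗[R] S :=
      AlgebraTensorModule.cancelBaseChange R p.ResidueField p'.ResidueField p'.ResidueField S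
    let e2 : p'.ResidueField ⊗[R] S ≃ₗ[p'.ResidueField] p'.ResidueField ⊗[R'] (R' ⊗[R] S) :=
      (AlgebraTensorModule.cancelBaseChange R R' p'.ResidueField p'.ResidueField S).symm
    let e3 : p'.ResidueField ⊗[R'] (R' ⊗[R] S) ≃ₗ[p'.ResidueField] p'.ResidueField ⊗[R'] S' :=
      AlgebraTensorModule.congr (LinearEquiv.refl p'.ResidueField p'.ResidueField)
        (Algebra.IsPushout.equiv R R' S S').toLinearEquiv
    refine IsBaseChange.of_equiv (e1.trans (e2.trans e3)) (fun x => ?_)
    change _ = theta S S' p p' x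
    induction x using TensorProduct.induction_on with
    | zero => simp
    | tmul a s =>
      rw [theta_tmul]
      simp only [LinearEquiv.trans_apply, e1, e2, e3,
        AlgebraTensorModule.cancelBaseChange_tmul, AlgebraTensorModule.cancelBaseChange_symm_tmul,
        AlgebraTensorModule.congr_tmul, LinearEquiv.refl_apply, AlgEquiv.toLinearEquiv_apply]
      rw [Algebra.IsPushout.equiv_tmul, map_one, one_mul, Algebra.smul_def, mul_one]
      rfl
    | add a b ha hb =>
      rw [TensorProduct.tmul_add, map_add, map_add, ha, hb]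
  -- the module
  letI modTM' : Module (p.Fiber S) (FlatCA.fiberMod p' S' N') :=
    Module.compHom (FlatCA.fiberMod p' S' N') (algebraMap (p.Fiber S) (p'.Fiber S'))
  haveI tTT'M' : IsScalarTower (p.Fiber S) (p'.Fiber S') (FlatCA.fiberMod p' S' N') :=
    IsScalarTower.of_algebraMap_smul (fun _ _ => rfl)
  let m1 : (p'.Fiber S') ⊗[p.Fiber S] ((p.Fiber S) ⊗[S] N) ≃ₗ[p'.Fiber S'] (p'.Fiber S') ⊗[S] N :=
    AlgebraTensorModule.cancelBaseChange S (p.Fiber S) (p'.Fiber S') (p'.Fiber S') N
  let m2 : (p'.Fiber S') ⊗[S] N ≃ₗ[p'.Fiber S'] (p'.Fiber S') ⊗[S'] (S' ⊗[S] N) :=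
    (AlgebraTensorModule.cancelBaseChange S S' (p'.Fiber S') (p'.Fiber S') N).symm
  let m3 : (p'.Fiber S') ⊗[S'] (S' ⊗[S] N) ≃ₗ[p'.Fiber S'] (p'.Fiber S') ⊗[S'] N' :=
    AlgebraTensorModule.congr (LinearEquiv.refl (p'.Fiber S') (p'.Fiber S')) hf.equiv
  let eM : (p'.Fiber S') ⊗[p.Fiber S] (FlatCA.fiberMod p S N) ≃ₗ[p'.Fiber S']
      FlatCA.fiberMod p' S' N' := m1.trans (m2.trans m3)
  let fM : FlatCA.fiberMod p S N →ₗ[p.Fiber S] FlatCA.fiberMod p' S' N' :=
    (eM.toLinearMap.restrictScalars (p.Fiber S)).comp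
      (TensorProduct.mk (p.Fiber S) (p'.Fiber S') (FlatCA.fiberMod p S N) 1)
  have hfM : IsBaseChange (p'.Fiber S') fM := IsBaseChange.of_equiv eM (fun _ => rfl)
  haveI : Module.Finite (p.Fiber S) (FlatCA.fiberMod p S N) :=
    inferInstanceAs (Module.Finite (p.Fiber S) ((p.Fiber S) ⊗[S] N))
  exact DevDim.supportDim_eq_of_isPushout (k := p.ResidueField) (k' := p'.ResidueField)
    (p.Fiber S) (p'.Fiber S') hpo (FlatCA.fiberMod p S N) (FlatCA.fiberMod p' S' N') fM hfM

end C

end Groth.Agent.Lib.Helper95.DevFib
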