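import Mathlib
import Groth.Prelude.Def_FlatCA
import Groth.Agent.Lib.Helper95.DevFib

/-!
Helper library for S12231 (helper95), part C: base change of a one-step dévissage.
-/

set_option autoImplicit false
set_option linter.style.haveILetI false
universe u

namespace Groth.Agent.Lib.Helper95.DevStep

open TensorProduct CategoryTheory AlgebraicGeometry

section D

variable (R D R' D' : Type u) [CommRing R] [CommRing D] [CommRing R'] [CommRing D']
  [Algebra R D] [Algebra R R'] [Algebra R' D'] [Algebra D D'] [Algebra R D']
  [IsScalarTower R R' D'] [IsScalarTower R D D'] [Algebra.IsPushout R R' D D']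

theorem isPullback_Spec :
    IsPullback (Spec.map (CommRingCat.ofHom (algebraMap D D')))
      (Spec.map (CommRingCat.ofHom (algebraMap R' D')))
      (Spec.map (CommRingCat.ofHom (algebraMap R D)))
      (Spec.map (CommRingCat.ofHom (algebraMap R R'))) :=
  (isPullback_SpecMap_of_isPushout _ _ _ _ (CommRingCat.isPushout_of_isPushout R R' D D')).flip

theorem smoothRelDim_baseChange (n : ℕ) (h : FlatCA.SmoothRelDim n R D) :
    FlatCA.SmoothRelDim n R' D' :=
  (smoothOfRelativeDimension_isStableUnderBaseChange (n := n)).of_isPullback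
    (isPullback_Spec R D R' D') h

theorem geomIrredFibres_baseChange (h : FlatCA.GeomIrredFibres R D) :
    FlatCA.GeomIrredFibres R' D' :=
  MorphismProperty.of_isPullback (P := @GeometricallyIrreducible) (isPullback_Spec R D R' D') h

end D

section E

/-- From pushouts over `R` to a pushout over the intermediate ring. -/
theorem isPushout_mid (R R' S S' C C' : Type u) [CommRing R] [CommRing R'] [CommRing S]
    [CommRing S'] [CommRing C] [CommRing C'] [Algebra R R'] [Algebra R S] [Algebra R C]
    [Algebra S C] [IsScalarTower R S C]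
    [Algebra R' S'] [Algebra R S'] [Algebra S S'] [IsScalarTower R R' S'] [IsScalarTower R S S']
    [Algebra.IsPushout R R' S S']
    [Algebra R' C'] [Algebra R C'] [Algebra C C'] [IsScalarTower R R' C'] [IsScalarTower R C C']
    [Algebra.IsPushout R R' C C']
    [Algebra S' C'] [IsScalarTower R' S' C'] [Algebra S C'] [IsScalarTower S S' C']
    [IsScalarTower S C C'] : Algebra.IsPushout S C S' C' := by
  haveI : IsScalarTower R S' C' := IsScalarTower.of_algebraMap_eq (fun r => by
    rw [IsScalarTower.algebraMap_apply R R' C', IsScalarTower.algebraMap_apply R' S' C',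
      ← IsScalarTower.algebraMap_apply R R' S'])
  haveI h1 : Algebra.IsPushout R S R' S' := Algebra.IsPushout.symm inferInstance
  have h2 : Algebra.IsPushout R C R' C' := Algebra.IsPushout.symm inferInstance
  exact (Algebra.IsPushout.comp_iff R S R' S' (T := C) (T' := C')).mp h2

theorem isOneStepDevissage_baseChange
    (R S : Type u) [CommRing R] [CommRing S] [Algebra R S] [Algebra.FiniteType R S]
    (N : Type u) [AddCommGroup N] [Module S N] [Module R N] [IsScalarTower R S N] [Module.Finite S N]
    (p : Ideal R) [p.IsPrime]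
    (C D G : Type u) [CommRing C] [CommRing D] [Algebra S C] [Algebra R C] [IsScalarTower R S C]
    [Algebra R D] [Algebra D C] [IsScalarTower R D C] [AddCommGroup G] [Module C G] [Module S G]
    [IsScalarTower S C G] (n : ℕ)
    (h : FlatCA.IsOneStepDevissage R S N p C D G n)
    (R' : Type u) [CommRing R'] [Algebra R R'] (p' : Ideal R') [p'.IsPrime] [p'.LiesOver p]
    (S' C' D' : Type u) [CommRing S'] [CommRing C'] [CommRing D']
    [Algebra R' S'] [Algebra R S'] [Algebra S S'] [IsScalarTower R R' S'] [IsScalarTower R S S']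
    [Algebra.IsPushout R R' S S']
    [Algebra R' C'] [Algebra R C'] [Algebra C C'] [IsScalarTower R R' C'] [IsScalarTower R C C']
    [Algebra.IsPushout R R' C C']
    [Algebra R' D'] [Algebra R D'] [Algebra D D'] [IsScalarTower R R' D'] [IsScalarTower R D D']
    [Algebra.IsPushout R R' D D']
    [Algebra S' C'] [IsScalarTower R' S' C'] [Algebra S C'] [IsScalarTower S S' C'] [IsScalarTower S C C']
    [Algebra D' C'] [IsScalarTower R' D' C'] [Algebra D C'] [IsScalarTower D D' C'] [IsScalarTower D C C']
    (N' : Type u) [AddCommGroup N'] [Module S' N'] [Module R' N'] [IsScalarTower R' S' N']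
    [Module S N'] [IsScalarTower S S' N'] (f : N →ₗ[S] N') (hf : IsBaseChange S' f)
    (G' : Type u) [AddCommGroup G'] [Module C' G'] [Module S' G'] [IsScalarTower S' C' G']
    [Module C G'] [IsScalarTower C C' G'] (g : G →ₗ[C] G') (hg : IsBaseChange C' g) :
    FlatCA.IsOneStepDevissage R' S' N' p' C' D' G' n := by
  obtain ⟨⟨e0⟩, hsurj, hfp, hfinDC, hfinG, hsm, hirr, hdim⟩ := h
  have hSC : Algebra.IsPushout S C S' C' := isPushout_mid R R' S S' C C'
  have hDC : Algebra.IsPushout D C D' C' := isPushout_mid R R' D D' C C'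
  refine ⟨?_, ?_, ?_, ?_, ?_, ?_, ?_, ?_⟩
  · haveI : Algebra.IsPushout S S' C C' := hSC.symm
    let e1 : N' ≃ₗ[S'] S' ⊗[S] N := hf.equiv.symm
    let e2 : S' ⊗[S] N ≃ₗ[S'] S' ⊗[S] G :=
      AlgebraTensorModule.congr (LinearEquiv.refl S' S') e0
    let e3 : S' ⊗[S] G ≃ₗ[S'] C' ⊗[C] G := (Algebra.IsPushout.cancelBaseChange S S' C C' G).symm
    let e4 : C' ⊗[C] G ≃ₗ[S'] G' := hg.equiv.restrictScalars S'
    exact ⟨e1.trans (e2.trans (e3.trans e4))⟩
  · haveI := hSC
    exact RingHom.surjective_isStableUnderBaseChange S C S' C' hsurj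
  · haveI := hSC
    exact RingHom.finitePresentation_algebraMap.mp
      (RingHom.finitePresentation_isStableUnderBaseChange S C S' C'
        (RingHom.finitePresentation_algebraMap.mpr hfp))
  · haveI := hDC
    exact RingHom.finite_algebraMap.mp
      (RingHom.finite_isStableUnderBaseChange D C D' C' (RingHom.finite_algebraMap.mpr hfinDC))
  · haveI := hfinG
    exact Module.Finite.equiv hg.equiv
  · exact smoothRelDim_baseChange R D R' D' n hsm
  · exact geomIrredFibres_baseChange R D R' D' hirr
  · rw [DevFib.supportDim_fiberMod_baseChange S N p R' p' S' N' f hf]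
    exact hdim

end E

end Groth.Agent.Lib.Helper95.DevStep
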