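import Mathlib
import Groth.Prelude.Def_FlatCA
import Groth.Prelude.Def_Flat
import Groth.Agent.Lib.Helper95.DevStep

/-!
Helper library for S12239 (helper95): base change of a one-step dévissage at a point along a base
change with trivial residue field extension.
-/

set_option autoImplicit false
set_option linter.style.haveILetI false
set_option linter.unusedSectionVars false
universe u

namespace Groth.Agent.Lib.Helper95.DevPoint

open TensorProduct Groth.Agent.Lib.Helper95 Groth.Agent.Lib.Helper95.PurePullback

section Setup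

attribute [local instance] Algebra.TensorProduct.rightAlgebra

variable {R : Type u} [CommRing R] (S : Type u) [CommRing S] [Algebra R S]
  (p : Ideal R) [p.IsPrime]
  {R' : Type u} [CommRing R'] [Algebra R R'] (p' : Ideal R') [p'.IsPrime] [p'.LiesOver p]
  (S' : Type u) [CommRing S'] [Algebra R' S'] [Algebra R S'] [Algebra S S']
  [IsScalarTower R R' S'] [IsScalarTower R S S']

theorem theta_bijective [Algebra.IsPushout R R' S S']
    (hκ : Function.Bijective (kappaMap p p')) : Function.Bijective (theta S S' p p') := by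
  letI algkk' : Algebra p.ResidueField p'.ResidueField := (kappaMap p p').toRingHom.toAlgebra
  haveI tRkk' : IsScalarTower R p.ResidueField p'.ResidueField :=
    IsScalarTower.of_algebraMap_eq (fun r => ((kappaMap p p').commutes r).symm)
  letI algTT' : Algebra (p.Fiber S) (p'.Fiber S') := (theta S S' p p').toRingHom.toAlgebra
  haveI tkTT' : IsScalarTower p.ResidueField (p.Fiber S) (p'.Fiber S') :=
    IsScalarTower.of_algebraMap_eq (R := p.ResidueField) (S := p.Fiber S) (A := p'.Fiber S')
      (fun x => by
      change (algebraMap p'.ResidueField (p'.Fiber S')) (kappaMap p p' x) =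
        theta S S' p p' (algebraMap p.ResidueField (p.Fiber S) x)
      rw [Algebra.TensorProduct.algebraMap_apply, Algebra.TensorProduct.algebraMap_apply,
        theta_tmul, map_one]
      rfl)
  have hpo : Algebra.IsPushout p.ResidueField p'.ResidueField (p.Fiber S) (p'.Fiber S') := by
    constructor
    let e1 : p'.ResidueField ⊗[p.ResidueField] (p.ResidueField ⊗[R] S) ≃ₗ[p'.ResidueField]
        p'.ResidueField ⊗[R] S :=
      AlgebraTensorModule.cancelBaseChange R p.ResidueField p'.ResidueField p'.ResidueField S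
    let e2 : p'.ResidueField ⊗[R] S ≃ₗ[p'.ResidueField] p'.ResidueField ⊗[R'] (R' ⊗[R] S) :=
      (AlgebraTensorModule.cancelBaseChange R R' p'.ResidueField p'.ResidueField S).symm
    let e3 : p'.ResidueField ⊗[R'] (R' ⊗[R] S) ≃ₗ[p'.ResidueField] p'.ResidueField ⊗[R'] S' :=
      AlgebraTensorModule.congr (LinearEquiv.refl p'.ResidueField p'.ResidueField)
        (Algebra.IsPushout.equiv R R' S S').toLinearEquiv
    refine IsBaseChange.of_equiv (e1.trans (e2.trans e3)) (fun x => ?_)
    change _ = theta S S' p p' x
    induction x using TensorProduct.induction_on with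
    | zero => simp
    | tmul a s =>
      rw [theta_tmul]
      simp only [LinearEquiv.trans_apply, e1, e2, e3,
        AlgebraTensorModule.cancelBaseChange_tmul, AlgebraTensorModule.cancelBaseChange_symm_tmul,
        AlgebraTensorModule.congr_tmul, LinearEquiv.refl_apply, AlgEquiv.toLinearEquiv_apply]
      rw [Algebra.IsPushout.equiv_tmul, map_one, one_mul, Algebra.smul_def, mul_one]
      rfl
    | add a b ha hb =>
      rw [TensorProduct.tmul_add, map_add, map_add, ha, hb]
  haveI := hpo
  exact RingHom.Bijective.isStableUnderBaseChange p.ResidueField p'.ResidueField (p.Fiber S)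
    (p'.Fiber S') hκ

theorem theta_comp_includeRight :
    (theta S S' p p').toRingHom.comp
      (Algebra.TensorProduct.includeRight (R := R) (A := p.ResidueField) (B := S)).toRingHom =
    (Algebra.TensorProduct.includeRight (R := R') (A := p'.ResidueField) (B := S')).toRingHom.comp
      (algebraMap S S') := by
  ext s
  change theta S S' p p' ((1 : p.ResidueField) ⊗ₜ[R] s) = (1 : p'.ResidueField) ⊗ₜ[R'] _
  rw [theta_tmul, map_one]

/-- Over a point with trivial residue field extension, a prime of the base change is determined by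
its contraction. -/
theorem prime_unique [Algebra.IsPushout R R' S S']
    (hκ : Function.Bijective (kappaMap p p')) (q : Ideal S)
    (q₁ q₂ : Ideal S') [hq₁ : q₁.IsPrime] [hq₂ : q₂.IsPrime] [h1 : q₁.LiesOver q]
    [h2 : q₂.LiesOver q] [h1' : q₁.LiesOver p'] [h2' : q₂.LiesOver p'] : q₁ = q₂ := by
  have key : ∀ (q₀ : Ideal S') [q₀.IsPrime] [q₀.LiesOver q] [q₀.LiesOver p'],
      ∃ Q : Ideal (p'.Fiber S'), Q.IsPrime ∧ Q.comap
        (Algebra.TensorProduct.includeRight (R := R') (A := p'.ResidueField) (B := S')).toRingHom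
          = q₀ ∧ Q.comap (theta S S' p p').toRingHom = FlatCA.fiberIdeal p q := by
    intro q₀ hq₀ hq₀q hq₀p
    let Q := PrimeSpectrum.primesOverOrderIsoFiber R' S' p' ⟨q₀, hq₀, hq₀p⟩
    have hQ : Q.asIdeal.comap
        (Algebra.TensorProduct.includeRight (R := R') (A := p'.ResidueField) (B := S')).toRingHom
          = q₀ := by
      have := congrArg Subtype.val
        ((PrimeSpectrum.primesOverOrderIsoFiber R' S' p').symm_apply_apply ⟨q₀, hq₀, hq₀p⟩)
      rwa [PrimeSpectrum.coe_primesOverOrderIsoFiber_symm_apply] at this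
    refine ⟨Q.asIdeal, Q.2, hQ, ?_⟩
    haveI : (Q.asIdeal.comap (theta S S' p p').toRingHom).IsPrime := Ideal.comap_isPrime _ _
    rw [← fiberIdeal_comap_includeRight p S (Q.asIdeal.comap (theta S S' p p').toRingHom)]
    congr 1
    rw [Ideal.comap_comap, theta_comp_includeRight, ← Ideal.comap_comap, hQ]
    exact (hq₀q.over).symm
  obtain ⟨Q₁, hQ₁, hc₁, ht₁⟩ := key q₁
  obtain ⟨Q₂, hQ₂, hc₂, ht₂⟩ := key q₂
  have hQ : Q₁ = Q₂ :=
    Ideal.comap_injective_of_surjective (theta S S' p p').toRingHom
      (theta_bijective S p p' S' hκ).2 (ht₁.trans ht₂.symm)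
  rw [← hc₁, ← hc₂, hQ]

theorem comap_fiberIdeal (q : Ideal S) [hq : q.IsPrime] [hqp : q.LiesOver p] :
    (FlatCA.fiberIdeal p q).comap
      (Algebra.TensorProduct.includeRight (R := R) (A := p.ResidueField) (B := S)).toRingHom = q := by
  let Q := PrimeSpectrum.primesOverOrderIsoFiber R S p ⟨q, hq, hqp⟩
  have hQ : Q.asIdeal.comap
      (Algebra.TensorProduct.includeRight (R := R) (A := p.ResidueField) (B := S)).toRingHom
        = q := by
    have := congrArg Subtype.val
      ((PrimeSpectrum.primesOverOrderIsoFiber R S p).symm_apply_apply ⟨q, hq, hqp⟩)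
    rwa [PrimeSpectrum.coe_primesOverOrderIsoFiber_symm_apply] at this
  have h2 : FlatCA.fiberIdeal p q = Q.asIdeal := by
    rw [← fiberIdeal_comap_includeRight p S Q.asIdeal, hQ]
  rw [h2, hQ]

end Setup

section Supp

/-- (copied from helper73's `LocalDimHomeo`) -/
theorem localDim_le_of_isHomeomorph {A B : Type*} [TopologicalSpace A] [TopologicalSpace B]
    (φ : A → B) (hφ : IsHomeomorph φ) (a : A) :
    FlatMor.localDim A a ≤ FlatMor.localDim B (φ a) := by
  unfold FlatMor.localDim
  refine le_iInf fun ⟨V, hV⟩ => ?_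
  refine (iInf_le _ ⟨⟨φ ⁻¹' V, V.2.preimage hφ.continuous⟩, hV⟩).trans ?_
  have hind : Topology.IsInducing (fun p : ↥(φ ⁻¹' (V : Set B)) => (⟨φ p.1, p.2⟩ : ↥(V : Set B))) :=
    (hφ.isInducing.comp Topology.IsInducing.subtypeVal).codRestrict _
  exact hind.topologicalKrullDim_le

/-- (copied from helper73's `LocalDimHomeo`) -/
theorem localDim_eq_of_isHomeomorph {A B : Type*} [TopologicalSpace A] [TopologicalSpace B]
    (φ : A → B) (hφ : IsHomeomorph φ) (a : A) :
    FlatMor.localDim A a = FlatMor.localDim B (φ a) := by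
  refine le_antisymm (localDim_le_of_isHomeomorph φ hφ a) ?_
  have h := localDim_le_of_isHomeomorph (hφ.homeomorph φ).symm
    (hφ.homeomorph φ).symm.isHomeomorph (φ a)
  have h2 : (hφ.homeomorph φ).symm (φ a) = a := (hφ.homeomorph φ).symm_apply_apply a
  rwa [h2] at h

theorem mem_support_baseChange_iff {S A : Type u} [CommRing S] [CommRing A] [Algebra S A]
    (N : Type u) [AddCommGroup N] [Module S N] [Module.Finite S N] (P : PrimeSpectrum A) :
    P ∈ Module.support A (A ⊗[S] N) ↔
      PrimeSpectrum.comap (algebraMap S A) P ∈ Module.support S N := by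
  rw [Module.mem_support_iff_of_finite, Module.mem_support_iff_of_finite]
  constructor
  · intro h x hx
    exact h (PureFinA.algebraMap_mem_annihilator_baseChange N hx)
  · intro h
    exact PureFinA.annihilator_baseChange_le N P.asIdeal h

theorem mem_support_isBaseChange_iff {S S' : Type u} [CommRing S] [CommRing S'] [Algebra S S']
    (N : Type u) [AddCommGroup N] [Module S N] [Module.Finite S N]
    (N' : Type u) [AddCommGroup N'] [Module S' N'] [Module S N'] [IsScalarTower S S' N']
    (f : N →ₗ[S] N') (hf : IsBaseChange S' f) (P : PrimeSpectrum S') :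
    P ∈ Module.support S' N' ↔
      PrimeSpectrum.comap (algebraMap S S') P ∈ Module.support S N := by
  rw [← hf.equiv.support_eq]
  exact mem_support_baseChange_iff N P

attribute [local instance] Algebra.TensorProduct.rightAlgebra

variable {R : Type u} [CommRing R] (S : Type u) [CommRing S] [Algebra R S]
  (p : Ideal R) [p.IsPrime]
  {R' : Type u} [CommRing R'] [Algebra R R'] (p' : Ideal R') [p'.IsPrime] [p'.LiesOver p]
  (S' : Type u) [CommRing S'] [Algebra R' S'] [Algebra R S'] [Algebra S S']
  [IsScalarTower R R' S'] [IsScalarTower R S S']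
  (N : Type u) [AddCommGroup N] [Module S N] [Module R N] [IsScalarTower R S N]
  [Module.Finite S N]
  (N' : Type u) [AddCommGroup N'] [Module S' N'] [Module R' N'] [IsScalarTower R' S' N']
  [Module S N'] [IsScalarTower S S' N'] (f : N →ₗ[S] N') (hf : IsBaseChange S' f)

include hf in
theorem mem_support_fiberMod_iff (Q' : PrimeSpectrum (p'.Fiber S')) :
    Q' ∈ Module.support (p'.Fiber S') (FlatCA.fiberMod p' S' N') ↔
      PrimeSpectrum.comap (theta S S' p p').toRingHom Q' ∈
        Module.support (p.Fiber S) (FlatCA.fiberMod p S N) := by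
  haveI : Module.Finite S' N' := Module.Finite.equiv hf.equiv
  change Q' ∈ Module.support (p'.Fiber S') ((p'.Fiber S') ⊗[S'] N') ↔
    PrimeSpectrum.comap (theta S S' p p').toRingHom Q' ∈
      Module.support (p.Fiber S) ((p.Fiber S) ⊗[S] N)
  rw [mem_support_baseChange_iff N' Q', mem_support_baseChange_iff N,
    mem_support_isBaseChange_iff N N' f hf]
  have e : PrimeSpectrum.comap (algebraMap S S')
      (PrimeSpectrum.comap (algebraMap S' (p'.Fiber S')) Q') =
      PrimeSpectrum.comap (algebraMap S (p.Fiber S))
        (PrimeSpectrum.comap (theta S S' p p').toRingHom Q') := by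
    rw [← PrimeSpectrum.comap_comp_apply, ← PrimeSpectrum.comap_comp_apply]
    congr 1
    exact (theta_comp_includeRight S p p' S').symm
  rw [e]

include hf in
theorem exists_point_baseChange [Algebra.IsPushout R R' S S']
    (hκ : Function.Bijective (kappaMap p p'))
    (q : Ideal S) [q.IsPrime] [q.LiesOver p] (q' : Ideal S') [q'.IsPrime] [q'.LiesOver q]
    [q'.LiesOver p'] (n : ℕ)
    (h1 : ∃ (ξ : PrimeSpectrum (p.Fiber S))
      (hξ : ξ ∈ Module.support (p.Fiber S) (FlatCA.fiberMod p S N)),
      ξ.asIdeal = FlatCA.fiberIdeal p q ∧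
      FlatMor.localDim (Module.support (p.Fiber S) (FlatCA.fiberMod p S N)) ⟨ξ, hξ⟩ = n) :
    ∃ (ξ' : PrimeSpectrum (p'.Fiber S'))
      (hξ' : ξ' ∈ Module.support (p'.Fiber S') (FlatCA.fiberMod p' S' N')),
      ξ'.asIdeal = FlatCA.fiberIdeal p' q' ∧
      FlatMor.localDim (Module.support (p'.Fiber S') (FlatCA.fiberMod p' S' N')) ⟨ξ', hξ'⟩ = n := by
  obtain ⟨ξ, hξ, hξq, hdim⟩ := h1
  have hbij := theta_bijective S p p' S' hκ
  have hH := PrimeSpectrum.isHomeomorph_comap_of_bijective (f := (theta S S' p p').toRingHom) hbij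
  let H : PrimeSpectrum (p'.Fiber S') ≃ₜ PrimeSpectrum (p.Fiber S) :=
    hH.homeomorph (PrimeSpectrum.comap (theta S S' p p').toRingHom)
  let ξ' : PrimeSpectrum (p'.Fiber S') := H.symm ξ
  have hHξ : PrimeSpectrum.comap (theta S S' p p').toRingHom ξ' = ξ := H.apply_symm_apply ξ
  have hξ' : ξ' ∈ Module.support (p'.Fiber S') (FlatCA.fiberMod p' S' N') := by
    rw [mem_support_fiberMod_iff S p p' S' N N' f hf, hHξ]
    exact hξ
  refine ⟨ξ', hξ', ?_, ?_⟩
  · -- the ideal
    have hcomap : ξ'.asIdeal.comap (theta S S' p p').toRingHom = ξ.asIdeal :=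
      congrArg PrimeSpectrum.asIdeal hHξ
    haveI hq₀p : (ξ'.asIdeal.comap (Algebra.TensorProduct.includeRight (R := R')
        (A := p'.ResidueField) (B := S')).toRingHom).LiesOver p' :=
      liesOver_comap_includeRight p' S' ξ'.asIdeal
    haveI hq₀q : (ξ'.asIdeal.comap (Algebra.TensorProduct.includeRight (R := R')
        (A := p'.ResidueField) (B := S')).toRingHom).LiesOver q := by
      constructor
      change q = Ideal.comap (algebraMap S S') _
      rw [Ideal.comap_comap, ← theta_comp_includeRight S p p' S', ← Ideal.comap_comap, hcomap,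
        hξq, comap_fiberIdeal S p q]
    haveI : (ξ'.asIdeal.comap (Algebra.TensorProduct.includeRight (R := R')
        (A := p'.ResidueField) (B := S')).toRingHom).IsPrime := Ideal.comap_isPrime _ _
    have hq₀ : ξ'.asIdeal.comap (Algebra.TensorProduct.includeRight (R := R')
        (A := p'.ResidueField) (B := S')).toRingHom = q' :=
      prime_unique S p p' S' hκ q _ q'
    rw [← hq₀, fiberIdeal_comap_includeRight p' S' ξ'.asIdeal]
  · let Hs : Module.support (p'.Fiber S') (FlatCA.fiberMod p' S' N') ≃ₜ
        Module.support (p.Fiber S) (FlatCA.fiberMod p S N) :=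
      H.subtype (fun Q' => mem_support_fiberMod_iff S p p' S' N N' f hf Q')
    rw [localDim_eq_of_isHomeomorph Hs Hs.isHomeomorph ⟨ξ', hξ'⟩]
    have : Hs ⟨ξ', hξ'⟩ = ⟨ξ, hξ⟩ := Subtype.ext hHξ
    rw [this]
    exact hdim

end Supp

section Fields

variable {K K' L : Type*} [Field K] [Field K'] [Field L] [Algebra K K'] [Algebra K L]
  [Algebra K' L] [IsScalarTower K K' L]

theorem algebraicIndependent_iff_of_bijective (hb : Function.Bijective (algebraMap K K'))
    {ι : Type*} (z : ι → L) : AlgebraicIndependent K' z ↔ AlgebraicIndependent K z := by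
  have h : (algebraMap K' L).comp ((RingEquiv.ofBijective (algebraMap K K') hb : K ≃+* K') :
      K →+* K') = (RingHom.id L).comp (algebraMap K L) := by
    ext c
    simp [← IsScalarTower.algebraMap_apply]
  have := algebraicIndependent_ringHom_iff_of_comp_eq (x := z)
    (RingEquiv.ofBijective (algebraMap K K') hb) (RingHom.id L) Function.injective_id h
  simpa using this

theorem isTranscendenceBasis_of_bijective (hb : Function.Bijective (algebraMap K K'))
    {ι : Type*} (z : ι → L) (hz : IsTranscendenceBasis K z) : IsTranscendenceBasis K' z := by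
  refine ⟨(algebraicIndependent_iff_of_bijective hb z).mpr hz.1, fun s hs hsub => ?_⟩
  exact hz.2 s ((algebraicIndependent_iff_of_bijective hb _).mp hs) hsub

theorem adjoin_eq_top_of_tower (s : Set L) (h : IntermediateField.adjoin K s = ⊤) :
    IntermediateField.adjoin K' s = ⊤ := by
  rw [eq_top_iff]
  intro l _
  have h1 : l ∈ IntermediateField.adjoin K s := by rw [h]; trivial
  have h2 : IntermediateField.adjoin K s ≤ (IntermediateField.adjoin K' s).restrictScalars K :=
    IntermediateField.adjoin_le_iff.mpr (IntermediateField.subset_adjoin K' s)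
  exact (IntermediateField.mem_restrictScalars K).mp (h2 h1)

end Fields

section PT

variable {R : Type u} [CommRing R] (D : Type u) [CommRing D] [Algebra R D]
  (p : Ideal R) [p.IsPrime]
  {R' : Type u} [CommRing R'] [Algebra R R'] (p' : Ideal R') [p'.IsPrime] [hp' : p'.LiesOver p]
  (D' : Type u) [CommRing D'] [Algebra R' D'] [Algebra R D'] [Algebra D D']
  [IsScalarTower R R' D'] [IsScalarTower R D D']
  (y : Ideal D) [y.IsPrime] [hy : y.LiesOver p] (y' : Ideal D') [y'.IsPrime]
  [hy'y : y'.LiesOver y] [hy'p' : y'.LiesOver p']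

theorem mapₐ_ofId_algebraMap {A B : Type u} [CommRing A] [CommRing B] [Algebra A B]
    (I : Ideal A) [I.IsPrime] (J : Ideal B) [J.IsPrime] [h : J.LiesOver I] (a : A) :
    (Ideal.ResidueField.mapₐ I J (Algebra.ofId A B) h.over) (algebraMap A I.ResidueField a) =
      algebraMap B J.ResidueField (algebraMap A B a) :=
  Ideal.ResidueField.map_algebraMap I J (Algebra.ofId A B).toRingHom h.over a

theorem residue_compat :
    (Ideal.ResidueField.mapₐ p' y' (Algebra.ofId R' D') hy'p'.over).toRingHom.comp
      (kappaMap p p').toRingHom =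
    (Ideal.ResidueField.mapₐ y y' (Algebra.ofId D D') hy'y.over).toRingHom.comp
      (Ideal.ResidueField.mapₐ p y (Algebra.ofId R D) hy.over).toRingHom := by
  apply Ideal.ResidueField.ringHom_ext
  ext r
  change (Ideal.ResidueField.mapₐ p' y' (Algebra.ofId R' D') hy'p'.over)
      ((Ideal.ResidueField.mapₐ p p' (Algebra.ofId R R') hp'.over)
        (algebraMap R p.ResidueField r)) =
    (Ideal.ResidueField.mapₐ y y' (Algebra.ofId D D') hy'y.over)
      ((Ideal.ResidueField.mapₐ p y (Algebra.ofId R D) hy.over) (algebraMap R p.ResidueField r))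
  rw [mapₐ_ofId_algebraMap, mapₐ_ofId_algebraMap, mapₐ_ofId_algebraMap, mapₐ_ofId_algebraMap,
    ← IsScalarTower.algebraMap_apply R R' D', ← IsScalarTower.algebraMap_apply R D D']

theorem residue_map_bijective [Algebra.IsPushout R R' D D']
    (hσ : Function.Surjective (kappaMap p p')) :
    Function.Bijective (Ideal.ResidueField.mapₐ y y' (Algebra.ofId D D') hy'y.over) := by
  refine ⟨RingHom.injective _, ?_⟩
  set φ := Ideal.ResidueField.mapₐ y y' (Algebra.ofId D D') hy'y.over with hφ
  let F : Subfield y'.ResidueField := φ.toRingHom.fieldRange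
  have hD : ∀ d' : D', algebraMap D' y'.ResidueField d' ∈ F := by
    intro d'
    have hbc : IsBaseChange R' (IsScalarTower.toAlgHom R D D').toLinearMap :=
      Algebra.IsPushout.out
    refine hbc.inductionOn d' (fun x => algebraMap D' y'.ResidueField x ∈ F) ?_ ?_ ?_ ?_
    · simp only [map_zero]
      exact F.zero_mem
    · intro d
      refine ⟨algebraMap D y.ResidueField d, ?_⟩
      change φ (algebraMap D y.ResidueField d) = algebraMap D' y'.ResidueField (algebraMap D D' d)
      rw [hφ, mapₐ_ofId_algebraMap]
    · intro r' x hx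
      change algebraMap D' y'.ResidueField (r' • x) ∈ F
      rw [Algebra.smul_def, map_mul]
      refine F.mul_mem ?_ hx
      obtain ⟨c, hc⟩ := hσ (algebraMap R' p'.ResidueField r')
      have h1 := congrArg (fun g => g c) (residue_compat D p p' D' y y')
      simp only [RingHom.coe_comp, Function.comp_apply] at h1
      refine ⟨(Ideal.ResidueField.mapₐ p y (Algebra.ofId R D) hy.over) c, ?_⟩
      change φ.toRingHom _ = _
      rw [hφ]
      erw [← h1]
      change (Ideal.ResidueField.mapₐ p' y' (Algebra.ofId R' D') hy'p'.over)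
        (kappaMap p p' c) = _
      rw [hc, mapₐ_ofId_algebraMap]
    · intro a b ha hb
      change algebraMap D' y'.ResidueField (a + b) ∈ F
      rw [map_add]
      exact F.add_mem ha hb
  intro x
  obtain ⟨a, b, _, rfl⟩ := IsFractionRing.div_surjective (A := D' ⧸ y') x
  obtain ⟨a0, rfl⟩ := Ideal.Quotient.mk_surjective a
  obtain ⟨b0, rfl⟩ := Ideal.Quotient.mk_surjective b
  have : algebraMap (D' ⧸ y') y'.ResidueField (Ideal.Quotient.mk y' a0) /
      algebraMap (D' ⧸ y') y'.ResidueField (Ideal.Quotient.mk y' b0) ∈ F := by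
    rw [Ideal.algebraMap_quotient_residueField_mk, Ideal.algebraMap_quotient_residueField_mk]
    exact F.div_mem (hD a0) (hD b0)
  obtain ⟨l, hl⟩ := this
  exact ⟨l, hl⟩

theorem purelyTranscendental_baseChange [Algebra.IsPushout R R' D D']
    (hκ : Function.Bijective (kappaMap p p')) (h4 : FlatCA.PurelyTranscendental p y) :
    FlatCA.PurelyTranscendental p' y' := by
  letI a1 : Algebra p.ResidueField y.ResidueField :=
    (Ideal.ResidueField.mapₐ p y (Algebra.ofId R D) hy.over).toRingHom.toAlgebra
  letI a2 : Algebra p'.ResidueField y'.ResidueField :=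
    (Ideal.ResidueField.mapₐ p' y' (Algebra.ofId R' D') hy'p'.over).toRingHom.toAlgebra
  letI a3 : Algebra p.ResidueField p'.ResidueField := (kappaMap p p').toRingHom.toAlgebra
  letI a4 : Algebra p.ResidueField y'.ResidueField :=
    ((algebraMap p'.ResidueField y'.ResidueField).comp
      (algebraMap p.ResidueField p'.ResidueField)).toAlgebra
  haveI t1 : IsScalarTower p.ResidueField p'.ResidueField y'.ResidueField :=
    IsScalarTower.of_algebraMap_eq (fun _ => rfl)
  obtain ⟨ι, x, hx, hadj⟩ : ∃ (ι : Type u) (x : ι → y.ResidueField),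
      IsTranscendenceBasis p.ResidueField x ∧
      IntermediateField.adjoin p.ResidueField (Set.range x) = ⊤ := h4
  have hbij := residue_map_bijective D p p' D' y y' hκ.2
  have hcomm : ∀ c : p.ResidueField,
      (Ideal.ResidueField.mapₐ y y' (Algebra.ofId D D') hy'y.over)
        (algebraMap p.ResidueField y.ResidueField c) =
      algebraMap p.ResidueField y'.ResidueField c := by
    intro c
    have h1 := congrArg (fun g => g c) (residue_compat D p p' D' y y')
    exact h1.symm
  let Φ₀ : y.ResidueField →ₐ[p.ResidueField] y'.ResidueField :=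
    { (Ideal.ResidueField.mapₐ y y' (Algebra.ofId D D') hy'y.over).toRingHom with
      commutes' := hcomm }
  let Φ : y.ResidueField ≃ₐ[p.ResidueField] y'.ResidueField := AlgEquiv.ofBijective Φ₀ hbij
  have hx' : IsTranscendenceBasis p.ResidueField (Φ ∘ x) := Φ.isTranscendenceBasis hx
  have hadj' : IntermediateField.adjoin p.ResidueField (Set.range (Φ ∘ x)) = ⊤ := by
    rw [Set.range_comp]
    have := IntermediateField.adjoin_map p.ResidueField (Set.range x) (Φ : y.ResidueField →ₐ[p.ResidueField] y'.ResidueField)
    rw [hadj] at this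
    change IntermediateField.adjoin p.ResidueField
      (⇑(Φ : y.ResidueField →ₐ[p.ResidueField] y'.ResidueField) '' Set.range x) = ⊤
    rw [← this, ← AlgHom.fieldRange_eq_map, AlgHom.fieldRange_eq_top]
    exact Φ.surjective
  refine ⟨ι, Φ ∘ x, ?_, ?_⟩
  · exact isTranscendenceBasis_of_bijective (K := p.ResidueField) (K' := p'.ResidueField) hκ _ hx'
  · exact adjoin_eq_top_of_tower (K := p.ResidueField) (K' := p'.ResidueField) _ hadj'

end PT

end Groth.Agent.Lib.Helper95.DevPoint
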