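import Mathlib
import Groth.Prelude.Def_FlatCA
import Groth.Prelude.Def_Flat
import Groth.Agent.Lib.Helper95.DevPoint

/-!
Helper library for S12244 (helper95): base change of a complete dévissage at a point along a base
change with trivial residue field extension.
-/

set_option autoImplicit false
set_option linter.style.haveILetI false
set_option linter.unusedSectionVars false
universe u

namespace Groth.Agent.Lib.Helper95.DevAt

open TensorProduct Groth.Agent.Lib.Helper95 Groth.Agent.Lib.Helper95.PurePullback
  Groth.Agent.Lib.Helper95.DevPoint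

section Setup

attribute [local instance] Algebra.TensorProduct.rightAlgebra

variable {R : Type u} [CommRing R] (S : Type u) [CommRing S] [Algebra R S]
  (p : Ideal R) [p.IsPrime]
  {R' : Type u} [CommRing R'] [Algebra R R'] (p' : Ideal R') [p'.IsPrime] [p'.LiesOver p]
  (S' : Type u) [CommRing S'] [Algebra R' S'] [Algebra R S'] [Algebra S S']
  [IsScalarTower R R' S'] [IsScalarTower R S S']

/-- Over a point with trivial residue field extension, every prime of `S` over `p` lifts to a prime
of the base change over `p'`. -/
theorem exists_prime_baseChange [Algebra.IsPushout R R' S S']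
    (hκ : Function.Bijective (kappaMap p p')) (q : Ideal S) [hq : q.IsPrime]
    [hqp : q.LiesOver p] :
    ∃ q' : Ideal S', q'.IsPrime ∧ q'.LiesOver q ∧ q'.LiesOver p' := by
  have hbij := theta_bijective S p p' S' hκ
  have hH := PrimeSpectrum.isHomeomorph_comap_of_bijective (f := (theta S S' p p').toRingHom) hbij
  let H : PrimeSpectrum (p'.Fiber S') ≃ₜ PrimeSpectrum (p.Fiber S) :=
    hH.homeomorph (PrimeSpectrum.comap (theta S S' p p').toRingHom)
  let ξ : PrimeSpectrum (p.Fiber S) := PrimeSpectrum.primesOverOrderIsoFiber R S p ⟨q, hq, hqp⟩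
  have hQ : ξ.asIdeal.comap
      (Algebra.TensorProduct.includeRight (R := R) (A := p.ResidueField) (B := S)).toRingHom
        = q := by
    have := congrArg Subtype.val
      ((PrimeSpectrum.primesOverOrderIsoFiber R S p).symm_apply_apply ⟨q, hq, hqp⟩)
    rwa [PrimeSpectrum.coe_primesOverOrderIsoFiber_symm_apply] at this
  let ξ' : PrimeSpectrum (p'.Fiber S') := H.symm ξ
  have hHξ : PrimeSpectrum.comap (theta S S' p p').toRingHom ξ' = ξ := H.apply_symm_apply ξ
  have hcomap : ξ'.asIdeal.comap (theta S S' p p').toRingHom = ξ.asIdeal :=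
    congrArg PrimeSpectrum.asIdeal hHξ
  refine ⟨ξ'.asIdeal.comap (Algebra.TensorProduct.includeRight (R := R')
      (A := p'.ResidueField) (B := S')).toRingHom, Ideal.comap_isPrime _ _, ?_,
      liesOver_comap_includeRight p' S' ξ'.asIdeal⟩
  constructor
  change q = Ideal.comap (algebraMap S S') _
  rw [Ideal.comap_comap, ← theta_comp_includeRight S p p' S', ← Ideal.comap_comap, hcomap, hQ]

end Setup

section BC

/-- Base change of modules along a pushout square of rings. -/
theorem isBaseChange_of_isPushout (B B' A A' M M' : Type u) [CommRing B] [CommRing B']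
    [CommRing A] [CommRing A'] [Algebra B B'] [Algebra B A] [Algebra A A'] [Algebra B' A']
    [Algebra B A'] [IsScalarTower B A A'] [IsScalarTower B B' A'] [Algebra.IsPushout B B' A A']
    [AddCommGroup M] [Module A M] [Module B M] [IsScalarTower B A M]
    [AddCommGroup M'] [Module A' M'] [Module B' M'] [IsScalarTower B' A' M'] [Module A M']
    [IsScalarTower A A' M'] [Module B M'] [IsScalarTower B B' M']
    (g : M →ₗ[A] M') (hg : IsBaseChange A' g) (f : M →ₗ[B] M') (hfg : ∀ x, f x = g x) :
    IsBaseChange B' f := by
  let e1 : B' ⊗[B] M ≃ₗ[B'] A' ⊗[A] M := (Algebra.IsPushout.cancelBaseChange B B' A A' M).symm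
  let e2 : A' ⊗[A] M ≃ₗ[B'] M' := hg.equiv.restrictScalars B'
  refine IsBaseChange.of_equiv (e1.trans e2) (fun x => ?_)
  rw [LinearEquiv.trans_apply]
  change e2 ((Algebra.IsPushout.cancelBaseChange B B' A A' M).symm (1 ⊗ₜ x)) = f x
  rw [Algebra.IsPushout.cancelBaseChange_symm_tmul, map_one, hfg]
  exact hg.equiv_tmul 1 x |>.trans (one_smul _ _)

end BC

section Step

variable {R : Type u} [CommRing R] (p : Ideal R) [p.IsPrime]
  {R' : Type u} [CommRing R'] [Algebra R R'] (p' : Ideal R') [p'.IsPrime] [p'.LiesOver p]

/-- The local dimension of the fibre support at a point, for one step `(B, A, M)` of a complete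
dévissage and its base change `(B', A', M')`. -/
theorem exists_point_step (hκ : Function.Bijective (kappaMap p p'))
    (B A M : Type u) [CommRing B] [CommRing A] [Algebra R B] [Algebra R A] [Algebra B A]
    [IsScalarTower R B A]
    [AddCommGroup M] [Module A M] [Module B M] [IsScalarTower B A M] [Module R M]
    [IsScalarTower R B M]
    (hfinBA : Module.Finite B A) (hfinM : Module.Finite A M)
    (B' A' M' : Type u) [CommRing B'] [CommRing A'] [Algebra R' B'] [Algebra R' A'] [Algebra B' A']
    [IsScalarTower R' B' A']
    [AddCommGroup M'] [Module A' M'] [Module B' M'] [IsScalarTower B' A' M'] [Module R' M']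
    [IsScalarTower R' B' M']
    [Algebra R B'] [Algebra B B'] [IsScalarTower R R' B'] [IsScalarTower R B B']
    [Algebra.IsPushout R R' B B']
    [Algebra R A'] [Algebra A A'] [IsScalarTower R R' A'] [IsScalarTower R A A']
    [Algebra.IsPushout R R' A A']
    [Algebra B A'] [IsScalarTower B A A'] [IsScalarTower B B' A']
    [Module A M'] [IsScalarTower A A' M'] (g : M →ₗ[A] M') (hg : IsBaseChange A' g)
    (y : Ideal B) [y.IsPrime] [y.LiesOver p] (y' : Ideal B') [y'.IsPrime] [y'.LiesOver y]
    [y'.LiesOver p'] (n : ℕ)
    (h1 : ∃ (ξ : PrimeSpectrum (p.Fiber B))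
      (hξ : ξ ∈ Module.support (p.Fiber B) (FlatCA.fiberMod p B M)),
      ξ.asIdeal = FlatCA.fiberIdeal p y ∧
      FlatMor.localDim (Module.support (p.Fiber B) (FlatCA.fiberMod p B M)) ⟨ξ, hξ⟩ = n) :
    ∃ (ξ' : PrimeSpectrum (p'.Fiber B'))
      (hξ' : ξ' ∈ Module.support (p'.Fiber B') (FlatCA.fiberMod p' B' M')),
      ξ'.asIdeal = FlatCA.fiberIdeal p' y' ∧
      FlatMor.localDim (Module.support (p'.Fiber B') (FlatCA.fiberMod p' B' M')) ⟨ξ', hξ'⟩ = n := by
  letI : Module B M' := Module.compHom M' (algebraMap B B')
  haveI : IsScalarTower B B' M' := ⟨fun b b' m => by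
    change (b • b') • m = algebraMap B B' b • (b' • m)
    rw [Algebra.smul_def, mul_smul]⟩
  haveI : Module.Finite B M := Module.Finite.trans A M
  haveI : Algebra.IsPushout B B' A A' :=
    (DevStep.isPushout_mid R R' B B' A A').symm
  let f : M →ₗ[B] M' :=
    { toFun := g
      map_add' := g.map_add
      map_smul' := fun b m => by
        change g (b • m) = algebraMap B B' b • g m
        rw [← algebraMap_smul A b m, g.map_smul, ← algebraMap_smul A' (algebraMap B A b) (g m),
          ← algebraMap_smul A' (algebraMap B B' b) (g m),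
          ← IsScalarTower.algebraMap_apply B A A', ← IsScalarTower.algebraMap_apply B B' A'] }
  have hf : IsBaseChange B' f :=
    isBaseChange_of_isPushout B B' A A' M M' g hg f (fun _ => rfl)
  exact exists_point_baseChange B p p' B' M M' f hf hκ y y' n h1

end Step

end Groth.Agent.Lib.Helper95.DevAt
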