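import Mathlib
import Groth.Prelude.Def_FlatCA
import Groth.Prelude.Def_Flat
import Groth.Agent.Lib.Helper95.DevAt
import Groth.Agent.S9407

/-!
Helper library for S12243 (helper95): base change of a complete dévissage (abstract one-step lemmas).
-/

set_option autoImplicit false
set_option linter.style.haveILetI false
set_option linter.unusedSectionVars false
universe u

namespace Groth.Agent.Lib.Helper95.DevBC

open TensorProduct CategoryTheory AlgebraicGeometry Groth.Agent.Lib.Helper95

section HP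

attribute [local instance] Algebra.TensorProduct.rightAlgebra

/-- Quotients by an ideal and its extension form a pushout square. -/
theorem isPushout_quot (T T' : Type u) [CommRing T] [CommRing T'] [Algebra T T'] (I : Ideal T) :
    Algebra.IsPushout T T' (T ⧸ I) (T' ⧸ I.map (algebraMap T T')) :=
  Algebra.IsPushout.of_equiv (R := T) (R' := T') (S := T ⧸ I) (S' := T' ⊗[T] (T ⧸ I))
    (Algebra.TensorProduct.quotIdealMapEquivTensorQuot T' I).symm (by
      ext x
      simp only [RingHom.coe_comp, Function.comp_apply]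
      change (Algebra.TensorProduct.quotIdealMapEquivTensorQuot T' I).symm _ = _
      rw [AlgEquiv.symm_apply_eq]
      change (1 : T') ⊗ₜ[T] (Ideal.Quotient.mk I x) = _
      have : algebraMap (T ⧸ I) (T' ⧸ I.map (algebraMap T T')) (Ideal.Quotient.mk I x) =
          Ideal.Quotient.mk _ (algebraMap T T' x) := rfl
      rw [this, Algebra.TensorProduct.quotIdealMapEquivTensorQuot_mk]
      rw [← Ideal.Quotient.algebraMap_eq, Algebra.algebraMap_eq_smul_one (A := T ⧸ I),
        TensorProduct.tmul_smul, TensorProduct.smul_tmul', Algebra.smul_def, mul_one])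

/-- For a smooth algebra with geometrically irreducible fibres, the extension of a prime ideal of
the base is prime. -/
theorem map_isPrime_of_smooth (R' B' : Type u) [CommRing R'] [CommRing B'] [Algebra R' B']
    (hsm : Algebra.Smooth R' B') (hirr : FlatCA.GeomIrredFibres R' B') (p' : Ideal R')
    [p'.IsPrime] : (p'.map (algebraMap R' B')).IsPrime := by
  have hpo : Algebra.IsPushout R' B' (R' ⧸ p') (B' ⧸ p'.map (algebraMap R' B')) :=
    isPushout_quot R' B' p'
  haveI hpo' : Algebra.IsPushout R' (R' ⧸ p') B' (B' ⧸ p'.map (algebraMap R' B')) := hpo.symm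
  have hsm' : Algebra.Smooth (R' ⧸ p') (B' ⧸ p'.map (algebraMap R' B')) := by
    haveI := hpo
    exact RingHom.smooth_algebraMap.mp
      (RingHom.Smooth.isStableUnderBaseChange R' B' (R' ⧸ p') (B' ⧸ p'.map (algebraMap R' B'))
        (RingHom.smooth_algebraMap.mpr hsm))
  have hirr' : FlatCA.GeomIrredFibres (R' ⧸ p') (B' ⧸ p'.map (algebraMap R' B')) :=
    DevStep.geomIrredFibres_baseChange R' B' (R' ⧸ p') (B' ⧸ p'.map (algebraMap R' B')) hirr
  haveI hred : IsReduced (B' ⧸ p'.map (algebraMap R' B')) :=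
    Groth.Agent.S9407.result (R' ⧸ p') (B' ⧸ p'.map (algebraMap R' B'))
  -- irreducibility
  let f := Spec.map (CommRingCat.ofHom (algebraMap (R' ⧸ p') (B' ⧸ p'.map (algebraMap R' B'))))
  haveI : GeometricallyIrreducible f := hirr'
  haveI : Flat f := by
    rw [Flat.SpecMap_iff]
    exact RingHom.flat_algebraMap_iff.mpr inferInstance
  haveI : LocallyOfFinitePresentation f := by
    rw [LocallyOfFinitePresentation.SpecMap_iff]
    exact RingHom.finitePresentation_algebraMap.mpr inferInstance
  haveI : IrreducibleSpace ↥(Spec (CommRingCat.of (R' ⧸ p'))) :=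
    inferInstanceAs (IrreducibleSpace (PrimeSpectrum (R' ⧸ p')))
  have hX : IrreducibleSpace ↥(Spec (CommRingCat.of (B' ⧸ p'.map (algebraMap R' B')))) :=
    GeometricallyIrreducible.irreducibleSpace f f.isOpenMap
  have hX' : IrreducibleSpace (PrimeSpectrum (B' ⧸ p'.map (algebraMap R' B'))) := hX
  rw [PrimeSpectrum.irreducibleSpace_iff_isPrime_nilradical, nilradical_eq_zero] at hX'
  have : IsDomain (B' ⧸ p'.map (algebraMap R' B')) := by
    haveI : (⊥ : Ideal (B' ⧸ p'.map (algebraMap R' B'))).IsPrime := hX'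
    exact IsDomain.of_bot_isPrime _
  exact (Ideal.Quotient.isDomain_iff_prime _).mp this

end HP

section LiesOver

variable {R : Type u} [CommRing R] (p : Ideal R) [p.IsPrime]
  {R' : Type u} [CommRing R'] [Algebra R R'] (p' : Ideal R') [p'.IsPrime] [hp' : p'.LiesOver p]
  (B B' : Type u) [CommRing B] [CommRing B'] [Algebra R B] [Algebra R' B'] [Algebra R B']
  [Algebra B B'] [IsScalarTower R R' B'] [IsScalarTower R B B'] [Algebra.IsPushout R R' B B']

theorem mem_map_iff_tmul_eq_zero {A : Type u} [CommRing A] (I : Ideal A) (C : Type u)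
    [CommRing C] [Algebra A C] (c : C) :
    c ∈ I.map (algebraMap A C) ↔ (Ideal.Quotient.mk I 1) ⊗ₜ[A] c = (0 : (A ⧸ I) ⊗[A] C) := by
  rw [← (TensorProduct.quotTensorEquivQuotSMul C I).map_eq_zero_iff,
    TensorProduct.quotTensorEquivQuotSMul_mk_tmul, one_smul, Submodule.Quotient.mk_eq_zero,
    Ideal.smul_top_eq_map]
  rfl

/-- For flat `B`, the extension of `p'` to the base change lies over the extension of `p`. -/
theorem comap_map_eq [Module.Flat R B] :
    (p'.map (algebraMap R' B')).comap (algebraMap B B') = p.map (algebraMap R B) := by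
  apply le_antisymm
  · intro b hb
    have hb' : algebraMap B B' b ∈ p'.map (algebraMap R' B') := hb
    rw [mem_map_iff_tmul_eq_zero] at hb'
    have hB : IsBaseChange R' (IsScalarTower.toAlgHom R B B').toLinearMap :=
      (inferInstance : Algebra.IsPushout R R' B B').out
    have h2 : (Ideal.Quotient.mk p' 1) ⊗ₜ[R] b = (0 : (R' ⧸ p') ⊗[R] B) := by
      have := congrArg (hB.tensorEquiv (R' ⧸ p')) hb'
      rw [map_zero] at this
      rw [← this]
      simp only [IsBaseChange.tensorEquiv, LinearEquiv.trans_apply, LinearEquiv.lTensor_tmul]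
      have h3 : hB.equiv.symm (algebraMap B B' b) = (1 : R') ⊗ₜ[R] b :=
        hB.equiv_symm_apply b
      rw [h3, AlgebraTensorModule.cancelBaseChange_tmul, one_smul]
    have hle : p ≤ p'.comap (Algebra.ofId R R' : R →+* R') := by rw [hp'.over]; exact le_rfl
    have hge : p'.comap (Algebra.ofId R R' : R →+* R') ≤ p := by rw [hp'.over]; exact le_rfl
    let φ : (R ⧸ p) →ₐ[R] (R' ⧸ p') := Ideal.quotientMapₐ p' (Algebra.ofId R R') hle
    have hφ : Function.Injective φ.toLinearMap :=
      Ideal.quotientMap_injective' (H := hle) hge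
    have h4 : (φ.toLinearMap.rTensor B) ((Ideal.Quotient.mk p 1) ⊗ₜ[R] b) = 0 := by
      rw [LinearMap.rTensor_tmul]
      have : φ.toLinearMap (Ideal.Quotient.mk p 1) = Ideal.Quotient.mk p' 1 := by
        change φ 1 = 1
        exact map_one φ
      rw [this, h2]
    have h5 : (Ideal.Quotient.mk p 1) ⊗ₜ[R] b = (0 : (R ⧸ p) ⊗[R] B) :=
      (Module.Flat.rTensor_preserves_injective_linearMap (M := B) φ.toLinearMap hφ)
        (h4.trans (map_zero _).symm)
    exact (mem_map_iff_tmul_eq_zero p B b).mpr h5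
  · rw [Ideal.map_le_iff_le_comap, Ideal.comap_comap]
    intro r hr
    rw [Ideal.mem_comap, ← IsScalarTower.algebraMap_eq, IsScalarTower.algebraMap_apply R R' B']
    refine Ideal.mem_map_of_mem _ ?_
    have : r ∈ p'.under R := by rw [← hp'.over]; exact hr
    exact this

end LiesOver

section FibreIso

variable (B B' : Type u) [CommRing B] [CommRing B'] [Algebra B B']
  (P : Ideal B) [P.IsPrime] (P' : Ideal B') [P'.IsPrime] [hPP : P'.LiesOver P]
  (M M' : Type u) [AddCommGroup M] [Module B M] [AddCommGroup M'] [Module B' M'] [Module B M']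
  [IsScalarTower B B' M'] (g : M →ₗ[B] M') (hg : IsBaseChange B' g)
  (r : ℕ) (α : (Fin r → B) →ₗ[B] M) (α' : (Fin r → B') →ₗ[B'] M')

include hg in
/-- Bijectivity on the fibre at a prime is preserved under base change (for compatible maps from
finite free modules). -/
theorem fibreIso_baseChange (hα : ∀ k, α' (Pi.single k 1) = g (α (Pi.single k 1)))
    (h : Function.Bijective (α.baseChange P.ResidueField)) :
    Function.Bijective (α'.baseChange P'.ResidueField) := by
  letI algκ : Algebra P.ResidueField P'.ResidueField :=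
    (Ideal.ResidueField.mapₐ P P' (Algebra.ofId B B') hPP.over).toRingHom.toAlgebra
  haveI : IsScalarTower B P.ResidueField P'.ResidueField :=
    IsScalarTower.of_algebraMap_eq (fun x =>
      ((Ideal.ResidueField.mapₐ P P' (Algebra.ofId B B') hPP.over).commutes x).symm)
  let E : (P.ResidueField ⊗[B] (Fin r → B)) ≃ₗ[P.ResidueField] P.ResidueField ⊗[B] M :=
    LinearEquiv.ofBijective _ h
  let b0 : Module.Basis (Fin r) P.ResidueField (P.ResidueField ⊗[B] (Fin r → B)) :=
    Algebra.TensorProduct.basis P.ResidueField (Pi.basisFun B (Fin r))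
  let b1 : Module.Basis (Fin r) P.ResidueField (P.ResidueField ⊗[B] M) := b0.map E
  have hb1 : ∀ k, b1 k = (1 : P.ResidueField) ⊗ₜ[B] α (Pi.single k 1) := by
    intro k
    simp only [b1, b0, Module.Basis.map_apply, Algebra.TensorProduct.basis_apply,
      Pi.basisFun_apply]
    change (α.baseChange P.ResidueField) _ = _
    rw [LinearMap.baseChange_tmul]
  let b2 : Module.Basis (Fin r) P'.ResidueField
      (P'.ResidueField ⊗[P.ResidueField] (P.ResidueField ⊗[B] M)) :=
    Algebra.TensorProduct.basis P'.ResidueField b1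
  let Ψ : P'.ResidueField ⊗[B'] M' ≃ₗ[P'.ResidueField]
      P'.ResidueField ⊗[P.ResidueField] (P.ResidueField ⊗[B] M) :=
    (AlgebraTensorModule.congr (LinearEquiv.refl P'.ResidueField P'.ResidueField)
        hg.equiv.symm) ≪≫ₗ
      (AlgebraTensorModule.cancelBaseChange B B' P'.ResidueField P'.ResidueField M) ≪≫ₗ
      (AlgebraTensorModule.cancelBaseChange B P.ResidueField P'.ResidueField
        P'.ResidueField M).symm
  let b3 : Module.Basis (Fin r) P'.ResidueField (P'.ResidueField ⊗[B'] M') := b2.map Ψ.symm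
  have hb3 : ∀ k, b3 k = (1 : P'.ResidueField) ⊗ₜ[B'] α' (Pi.single k 1) := by
    intro k
    simp only [b3, b2, Module.Basis.map_apply, Algebra.TensorProduct.basis_apply]
    rw [LinearEquiv.symm_apply_eq, hb1, hα]
    simp only [Ψ, LinearEquiv.trans_apply, AlgebraTensorModule.congr_tmul,
      LinearEquiv.refl_apply]
    rw [hg.equiv_symm_apply, AlgebraTensorModule.cancelBaseChange_tmul, one_smul,
      AlgebraTensorModule.cancelBaseChange_symm_tmul]
  let c0 : Module.Basis (Fin r) P'.ResidueField (P'.ResidueField ⊗[B'] (Fin r → B')) :=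
    Algebra.TensorProduct.basis P'.ResidueField (Pi.basisFun B' (Fin r))
  have heq : α'.baseChange P'.ResidueField = (c0.equiv b3 (Equiv.refl _)).toLinearMap := by
    refine c0.ext (fun k => ?_)
    rw [LinearEquiv.coe_coe, Module.Basis.equiv_apply, Equiv.refl_apply, hb3]
    simp only [c0, Algebra.TensorProduct.basis_apply, Pi.basisFun_apply]
    rw [LinearMap.baseChange_tmul]
  rw [heq]
  exact LinearEquiv.bijective _

end FibreIso

section Coker

variable (B B' : Type u) [CommRing B] [CommRing B'] [Algebra B B']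
  (M M' : Type u) [AddCommGroup M] [Module B M] [AddCommGroup M'] [Module B' M'] [Module B M']
  [IsScalarTower B B' M'] (g : M →ₗ[B] M') (hg : IsBaseChange B' g)
  (M₁ M₁' : Type u) [AddCommGroup M₁] [Module B M₁] [AddCommGroup M₁'] [Module B' M₁']
  [Module B M₁'] [IsScalarTower B B' M₁'] (g₁ : M₁ →ₗ[B] M₁') (hg₁ : IsBaseChange B' g₁)
  (K : Submodule B M) (K' : Submodule B' M')

include hg hg₁ in
/-- Cokernels commute with base change. -/
theorem nonempty_coker_equiv (hK : K' = Submodule.span B' (g '' K)) (e : (M ⧸ K) ≃ₗ[B] M₁) :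
    Nonempty ((M' ⧸ K') ≃ₗ[B'] M₁') := by
  let q : M →ₗ[B] M₁ := e.toLinearMap ∘ₗ K.mkQ
  let ψ : M' →ₗ[B'] M₁' := hg.lift (g₁ ∘ₗ q)
  have hψ : ∀ m, ψ (g m) = g₁ (q m) := fun m => hg.lift_eq _ m
  have hK' : K' ≤ LinearMap.ker ψ := by
    rw [hK, Submodule.span_le]
    rintro _ ⟨k, hk, rfl⟩
    rw [SetLike.mem_coe, LinearMap.mem_ker, hψ]
    change g₁ (e (K.mkQ k)) = 0
    rw [Submodule.mkQ_apply, (Submodule.Quotient.mk_eq_zero K).mpr hk, map_zero, map_zero]
  let ψbar : (M' ⧸ K') →ₗ[B'] M₁' := K'.liftQ ψ hK'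
  let θ₀' : M →ₗ[B] (M' ⧸ K') := (K'.mkQ.restrictScalars B) ∘ₗ g
  have hθ₀ : K ≤ LinearMap.ker θ₀' := by
    intro k hk
    rw [LinearMap.mem_ker]
    change K'.mkQ (g k) = 0
    rw [Submodule.mkQ_apply, Submodule.Quotient.mk_eq_zero, hK]
    exact Submodule.subset_span ⟨k, hk, rfl⟩
  let θ₀ : M₁ →ₗ[B] (M' ⧸ K') := (K.liftQ θ₀' hθ₀) ∘ₗ e.symm.toLinearMap
  let θ : M₁' →ₗ[B'] (M' ⧸ K') := hg₁.lift θ₀
  have hθ : ∀ m₁, θ (g₁ m₁) = θ₀ m₁ := fun m₁ => hg₁.lift_eq _ m₁
  refine ⟨LinearEquiv.ofLinear ψbar θ ?_ ?_⟩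
  · refine hg₁.algHom_ext _ _ (fun m₁ => ?_)
    obtain ⟨x, rfl⟩ := e.surjective m₁
    obtain ⟨m, rfl⟩ := K.mkQ_surjective x
    rw [LinearMap.comp_apply, hθ, LinearMap.id_apply]
    change ψbar (K.liftQ θ₀' hθ₀ (e.symm (e (K.mkQ m)))) = _
    rw [LinearEquiv.symm_apply_apply, Submodule.mkQ_apply, Submodule.liftQ_apply]
    change ψbar (K'.mkQ (g m)) = _
    rw [Submodule.mkQ_apply, Submodule.liftQ_apply, hψ]
    rfl
  · refine Submodule.linearMap_qext _ (hg.algHom_ext _ _ (fun m => ?_))
    change θ (ψbar (K'.mkQ (g m))) = K'.mkQ (g m)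
    rw [Submodule.mkQ_apply, Submodule.liftQ_apply, hψ, hθ]
    change K.liftQ θ₀' hθ₀ (e.symm (e (K.mkQ m))) = _
    rw [LinearEquiv.symm_apply_apply, Submodule.mkQ_apply, Submodule.liftQ_apply]
    rfl

end Coker

end Groth.Agent.Lib.Helper95.DevBC
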