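import Mathlib
import Groth.Prelude.Def_FlatCA
import Groth.Prelude.Def_Flat
import Groth.Agent.Lib.Helper95.DevBC

/-!
Helper library for S12243 (helper95): the base-changed complete dévissage, type families.
For `i` below the length the pieces are (copies of) the base changes; beyond the length the rings
`A' i` are zero rings and `B' i` is a copy of `R'`.
-/

set_option autoImplicit false
set_option linter.style.haveILetI false
set_option linter.unusedSectionVars false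
universe u

namespace Groth.Agent.Lib.Helper95.DevFam

open TensorProduct Groth.Agent.Lib.Helper95

section Fam

attribute [local instance] Algebra.TensorProduct.rightAlgebra

variable {R S : Type u} [CommRing R] [CommRing S] [Algebra R S] {N : Type u} [AddCommGroup N]
  [Module S N] {p : Ideal R} [p.IsPrime] (𝒟 : FlatCA.CompleteDevissage R S N p)
  (R' : Type u) [CommRing R'] [Algebra R R']

/-- the rings carrying the modules -/
def A' (i : ℕ) : Type u := PLift (i < 𝒟.n) → R' ⊗[R] 𝒟.A i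

/-- the smooth algebras -/
def B' (i : ℕ) : Type u := (PLift (i < 𝒟.n) → R' ⊗[R] 𝒟.B i) × (PLift (¬ i < 𝒟.n) → R')

noncomputable instance (i : ℕ) : CommRing (A' 𝒟 R' i) :=
  inferInstanceAs (CommRing (PLift (i < 𝒟.n) → R' ⊗[R] 𝒟.A i))

noncomputable instance (i : ℕ) : CommRing (B' 𝒟 R' i) :=
  inferInstanceAs (CommRing ((PLift (i < 𝒟.n) → R' ⊗[R] 𝒟.B i) × (PLift (¬ i < 𝒟.n) → R')))

noncomputable instance (i : ℕ) : Algebra R' (A' 𝒟 R' i) :=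
  inferInstanceAs (Algebra R' (PLift (i < 𝒟.n) → R' ⊗[R] 𝒟.A i))

noncomputable instance (i : ℕ) : Algebra R' (B' 𝒟 R' i) :=
  inferInstanceAs (Algebra R' ((PLift (i < 𝒟.n) → R' ⊗[R] 𝒟.B i) × (PLift (¬ i < 𝒟.n) → R')))

noncomputable instance (i : ℕ) : Algebra (𝒟.A i) (A' 𝒟 R' i) :=
  inferInstanceAs (Algebra (𝒟.A i) (PLift (i < 𝒟.n) → R' ⊗[R] 𝒟.A i))

noncomputable instance (i : ℕ) : Algebra R (A' 𝒟 R' i) :=
  inferInstanceAs (Algebra R (PLift (i < 𝒟.n) → R' ⊗[R] 𝒟.A i))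

noncomputable instance (i : ℕ) : Algebra R (B' 𝒟 R' i) :=
  inferInstanceAs (Algebra R ((PLift (i < 𝒟.n) → R' ⊗[R] 𝒟.B i) × (PLift (¬ i < 𝒟.n) → R')))

instance (i : ℕ) : IsScalarTower R R' (A' 𝒟 R' i) :=
  inferInstanceAs (IsScalarTower R R' (PLift (i < 𝒟.n) → R' ⊗[R] 𝒟.A i))

instance (i : ℕ) : IsScalarTower R R' (B' 𝒟 R' i) :=
  inferInstanceAs (IsScalarTower R R'
    ((PLift (i < 𝒟.n) → R' ⊗[R] 𝒟.B i) × (PLift (¬ i < 𝒟.n) → R')))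

instance (i : ℕ) : IsScalarTower R (𝒟.A i) (A' 𝒟 R' i) :=
  inferInstanceAs (IsScalarTower R (𝒟.A i) (PLift (i < 𝒟.n) → R' ⊗[R] 𝒟.A i))

/-- the modules -/
def M' (i : ℕ) : Type u := A' 𝒟 R' i ⊗[𝒟.A i] 𝒟.M i

noncomputable instance (i : ℕ) : AddCommGroup (M' 𝒟 R' i) :=
  inferInstanceAs (AddCommGroup (A' 𝒟 R' i ⊗[𝒟.A i] 𝒟.M i))

noncomputable instance (i : ℕ) : Module (A' 𝒟 R' i) (M' 𝒟 R' i) :=
  inferInstanceAs (Module (A' 𝒟 R' i) (A' 𝒟 R' i ⊗[𝒟.A i] 𝒟.M i))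

noncomputable instance (i : ℕ) : Module (𝒟.A i) (M' 𝒟 R' i) :=
  inferInstanceAs (Module (𝒟.A i) (A' 𝒟 R' i ⊗[𝒟.A i] 𝒟.M i))

instance (i : ℕ) : IsScalarTower (𝒟.A i) (A' 𝒟 R' i) (M' 𝒟 R' i) :=
  inferInstanceAs (IsScalarTower (𝒟.A i) (A' 𝒟 R' i) (A' 𝒟 R' i ⊗[𝒟.A i] 𝒟.M i))

/-- base change of `B i → A i` -/
noncomputable def φ (i : ℕ) : (R' ⊗[R] 𝒟.B i) →ₐ[R'] (R' ⊗[R] 𝒟.A i) :=
  Algebra.TensorProduct.map (AlgHom.id R' R') (IsScalarTower.toAlgHom R (𝒟.B i) (𝒟.A i))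

/-- base change of `B i → A (i+1)` -/
noncomputable def φ' (i : ℕ) : (R' ⊗[R] 𝒟.B i) →ₐ[R'] (R' ⊗[R] 𝒟.A (i + 1)) :=
  Algebra.TensorProduct.map (AlgHom.id R' R') (IsScalarTower.toAlgHom R (𝒟.B i) (𝒟.A (i + 1)))

/-- `B' i → A' i` -/
noncomputable def BA (i : ℕ) : B' 𝒟 R' i →+* A' 𝒟 R' i :=
  (RingHom.pi fun h => (φ 𝒟 R' i).toRingHom.comp (Pi.evalRingHom _ h)).comp (RingHom.fst _ _)

/-- `B' i → A' (i+1)` -/
noncomputable def BA1 (i : ℕ) : B' 𝒟 R' i →+* A' 𝒟 R' (i + 1) :=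
  (RingHom.pi fun h => (φ' 𝒟 R' i).toRingHom.comp
    (Pi.evalRingHom _ ⟨Nat.lt_of_succ_lt h.down⟩)).comp (RingHom.fst _ _)

theorem BA_apply (i : ℕ) (b : B' 𝒟 R' i) (h : PLift (i < 𝒟.n)) :
    BA 𝒟 R' i b h = φ 𝒟 R' i (b.1 h) := rfl

theorem BA1_apply (i : ℕ) (b : B' 𝒟 R' i) (h : PLift (i + 1 < 𝒟.n)) :
    BA1 𝒟 R' i b h = φ' 𝒟 R' i (b.1 ⟨Nat.lt_of_succ_lt h.down⟩) := rfl

noncomputable instance algBA (i : ℕ) : Algebra (B' 𝒟 R' i) (A' 𝒟 R' i) := (BA 𝒟 R' i).toAlgebra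

noncomputable instance algBA1 (i : ℕ) : Algebra (B' 𝒟 R' i) (A' 𝒟 R' (i + 1)) :=
  (BA1 𝒟 R' i).toAlgebra

theorem algebraMap_R'_A' (i : ℕ) (r : R') (h : PLift (i < 𝒟.n)) :
    algebraMap R' (A' 𝒟 R' i) r h = algebraMap R' (R' ⊗[R] 𝒟.A i) r := rfl

theorem algebraMap_R'_B'_fst (i : ℕ) (r : R') (h : PLift (i < 𝒟.n)) :
    (algebraMap R' (B' 𝒟 R' i) r).1 h = algebraMap R' (R' ⊗[R] 𝒟.B i) r := rfl

instance towerRBA (i : ℕ) : IsScalarTower R' (B' 𝒟 R' i) (A' 𝒟 R' i) :=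
  IsScalarTower.of_algebraMap_eq (fun r => by
    funext h
    change _ = BA 𝒟 R' i _ h
    rw [BA_apply, algebraMap_R'_B'_fst, AlgHom.commutes, algebraMap_R'_A'])

instance towerRBA1 (i : ℕ) : IsScalarTower R' (B' 𝒟 R' i) (A' 𝒟 R' (i + 1)) :=
  IsScalarTower.of_algebraMap_eq (fun r => by
    funext h
    change _ = BA1 𝒟 R' i _ h
    rw [BA1_apply, algebraMap_R'_B'_fst, AlgHom.commutes, algebraMap_R'_A'])

noncomputable instance modBM (i : ℕ) : Module (B' 𝒟 R' i) (M' 𝒟 R' i) :=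
  Module.compHom _ (BA 𝒟 R' i)

instance towerBAM (i : ℕ) : IsScalarTower (B' 𝒟 R' i) (A' 𝒟 R' i) (M' 𝒟 R' i) :=
  ⟨fun b a m => by
    change (BA 𝒟 R' i b * a) • m = BA 𝒟 R' i b • (a • m)
    rw [mul_smul]⟩

noncomputable instance modRM (i : ℕ) : Module R' (M' 𝒟 R' i) :=
  Module.compHom _ (algebraMap R' (A' 𝒟 R' i))

instance towerRBM (i : ℕ) : IsScalarTower R' (B' 𝒟 R' i) (M' 𝒟 R' i) :=
  ⟨fun r b m => by
    change BA 𝒟 R' i (r • b) • m = algebraMap R' (A' 𝒟 R' i) r • (BA 𝒟 R' i b • m)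
    rw [Algebra.smul_def, map_mul, mul_smul]
    congr 1
    exact (IsScalarTower.algebraMap_apply R' (B' 𝒟 R' i) (A' 𝒟 R' i) r).symm⟩

noncomputable instance modB1M (i : ℕ) : Module (B' 𝒟 R' i) (M' 𝒟 R' (i + 1)) :=
  Module.compHom _ (BA1 𝒟 R' i)

instance towerB1AM (i : ℕ) : IsScalarTower (B' 𝒟 R' i) (A' 𝒟 R' (i + 1)) (M' 𝒟 R' (i + 1)) :=
  ⟨fun b a m => by
    change (BA1 𝒟 R' i b * a) • m = BA1 𝒟 R' i b • (a • m)
    rw [mul_smul]⟩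

section BB

/-- `B i → B' i` for `i` below the length -/
noncomputable def BB (i : ℕ) (hi : i < 𝒟.n) : 𝒟.B i →+* B' 𝒟 R' i :=
  RingHom.prod
    (RingHom.pi fun _ =>
      (Algebra.TensorProduct.includeRight (R := R) (A := R') (B := 𝒟.B i)).toRingHom)
    (RingHom.pi fun h => (h.down hi).elim)

/-- the identification of the base change with `B' i` below the length -/
noncomputable def eB (i : ℕ) (hi : i < 𝒟.n) : (R' ⊗[R] 𝒟.B i) ≃ₐ[R'] B' 𝒟 R' i :=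
  { toFun := fun y => (fun _ => y, fun h => (h.down hi).elim)
    invFun := fun b => b.1 ⟨hi⟩
    left_inv := fun _ => rfl
    right_inv := fun b => Prod.ext (funext fun _ => rfl) (funext fun h => (h.down hi).elim)
    map_mul' := fun _ _ => Prod.ext (funext fun _ => rfl) (funext fun h => (h.down hi).elim)
    map_add' := fun _ _ => Prod.ext (funext fun _ => rfl) (funext fun h => (h.down hi).elim)
    commutes' := fun _ => Prod.ext (funext fun _ => rfl) (funext fun h => (h.down hi).elim) }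

/-- the identification of the base change with `A' i` below the length -/
noncomputable def eA (i : ℕ) (hi : i < 𝒟.n) : (R' ⊗[R] 𝒟.A i) ≃ₐ[R'] A' 𝒟 R' i :=
  { toFun := fun y => fun _ => y
    invFun := fun a => a ⟨hi⟩
    left_inv := fun _ => rfl
    right_inv := fun _ => funext fun _ => rfl
    map_mul' := fun _ _ => rfl
    map_add' := fun _ _ => rfl
    commutes' := fun _ => rfl }

theorem isPushout_A (i : ℕ) (hi : i < 𝒟.n) : Algebra.IsPushout R R' (𝒟.A i) (A' 𝒟 R' i) :=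
  Algebra.IsPushout.of_equiv (R := R) (R' := R') (S := 𝒟.A i) (S' := R' ⊗[R] 𝒟.A i)
    (eA 𝒟 R' i hi) (by ext x; rfl)

noncomputable instance algB0A (i : ℕ) : Algebra (𝒟.B i) (A' 𝒟 R' i) :=
  ((algebraMap (𝒟.A i) (A' 𝒟 R' i)).comp (algebraMap (𝒟.B i) (𝒟.A i))).toAlgebra

instance towerB0AA (i : ℕ) : IsScalarTower (𝒟.B i) (𝒟.A i) (A' 𝒟 R' i) :=
  IsScalarTower.of_algebraMap_eq (fun _ => rfl)

noncomputable instance algB0A1 (i : ℕ) : Algebra (𝒟.B i) (A' 𝒟 R' (i + 1)) :=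
  ((algebraMap (𝒟.A (i + 1)) (A' 𝒟 R' (i + 1))).comp
    (algebraMap (𝒟.B i) (𝒟.A (i + 1)))).toAlgebra

instance towerB0A1A (i : ℕ) : IsScalarTower (𝒟.B i) (𝒟.A (i + 1)) (A' 𝒟 R' (i + 1)) :=
  IsScalarTower.of_algebraMap_eq (fun _ => rfl)

theorem algebraMap_A_A' (i : ℕ) (a : 𝒟.A i) (h : PLift (i < 𝒟.n)) :
    algebraMap (𝒟.A i) (A' 𝒟 R' i) a h = (1 : R') ⊗ₜ[R] a := rfl

section BBtowers

variable (i : ℕ) (hi : i < 𝒟.n)

theorem towerRB0B : letI := (BB 𝒟 R' i hi).toAlgebra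
    IsScalarTower R (𝒟.B i) (B' 𝒟 R' i) := by
  letI := (BB 𝒟 R' i hi).toAlgebra
  refine IsScalarTower.of_algebraMap_eq (fun r => ?_)
  change _ = BB 𝒟 R' i hi (algebraMap R (𝒟.B i) r)
  refine Prod.ext (funext fun h => ?_) (funext fun h => (h.down hi).elim)
  change algebraMap R (R' ⊗[R] 𝒟.B i) r = (1 : R') ⊗ₜ[R] (algebraMap R (𝒟.B i) r)
  rw [Algebra.TensorProduct.algebraMap_apply, Algebra.algebraMap_eq_smul_one r,
    Algebra.algebraMap_eq_smul_one (A := 𝒟.B i) r, TensorProduct.tmul_smul,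
    TensorProduct.smul_tmul']

theorem towerB0BA : letI := (BB 𝒟 R' i hi).toAlgebra
    IsScalarTower (𝒟.B i) (B' 𝒟 R' i) (A' 𝒟 R' i) := by
  letI := (BB 𝒟 R' i hi).toAlgebra
  refine IsScalarTower.of_algebraMap_eq (fun b => ?_)
  funext h
  change (1 : R') ⊗ₜ[R] (algebraMap (𝒟.B i) (𝒟.A i) b) = φ 𝒟 R' i ((1 : R') ⊗ₜ[R] b)
  simp [φ]

theorem towerB0BA1 : letI := (BB 𝒟 R' i hi).toAlgebra
    IsScalarTower (𝒟.B i) (B' 𝒟 R' i) (A' 𝒟 R' (i + 1)) := by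
  letI := (BB 𝒟 R' i hi).toAlgebra
  refine IsScalarTower.of_algebraMap_eq (fun b => ?_)
  funext h
  change (1 : R') ⊗ₜ[R] (algebraMap (𝒟.B i) (𝒟.A (i + 1)) b) = φ' 𝒟 R' i ((1 : R') ⊗ₜ[R] b)
  simp [φ']

theorem isPushout_B : letI := (BB 𝒟 R' i hi).toAlgebra
    haveI := towerRB0B 𝒟 R' i hi
    Algebra.IsPushout R R' (𝒟.B i) (B' 𝒟 R' i) := by
  letI := (BB 𝒟 R' i hi).toAlgebra
  haveI := towerRB0B 𝒟 R' i hi
  exact Algebra.IsPushout.of_equiv (R := R) (R' := R') (S := 𝒟.B i) (S' := R' ⊗[R] 𝒟.B i)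
    (eB 𝒟 R' i hi) (by
      ext x
      exact Prod.ext (funext fun _ => rfl) (funext fun h => (h.down hi).elim))

end BBtowers

section Alpha

/-- the base change maps of the modules -/
noncomputable def gM (i : ℕ) : 𝒟.M i →ₗ[𝒟.A i] M' 𝒟 R' i :=
  TensorProduct.mk (𝒟.A i) (A' 𝒟 R' i) (𝒟.M i) 1

theorem isBaseChange_gM (i : ℕ) : IsBaseChange (A' 𝒟 R' i) (gM 𝒟 R' i) :=
  TensorProduct.isBaseChange (𝒟.A i) (𝒟.M i) (A' 𝒟 R' i)

/-- the maps from finite free modules -/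
noncomputable def α' (i : ℕ) : (Fin (𝒟.r i) → B' 𝒟 R' i) →ₗ[B' 𝒟 R' i] M' 𝒟 R' i :=
  Fintype.linearCombination (B' 𝒟 R' i) (fun k => gM 𝒟 R' i (𝒟.α i (Pi.single k 1)))

theorem α'_single (i : ℕ) (k : Fin (𝒟.r i)) :
    α' 𝒟 R' i (Pi.single k 1) = gM 𝒟 R' i (𝒟.α i (Pi.single k 1)) := by
  rw [α', Fintype.linearCombination_apply_single, one_smul]

theorem gM_smul (i : ℕ) (hi : i < 𝒟.n) (b : 𝒟.B i) (m : 𝒟.M i) :
    gM 𝒟 R' i (b • m) = BB 𝒟 R' i hi b • gM 𝒟 R' i m := by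
  letI := (BB 𝒟 R' i hi).toAlgebra
  haveI := towerB0BA 𝒟 R' i hi
  change _ = BA 𝒟 R' i (BB 𝒟 R' i hi b) • gM 𝒟 R' i m
  rw [← algebraMap_smul (𝒟.A i) b m, LinearMap.map_smul,
    ← algebraMap_smul (A' 𝒟 R' i) (algebraMap (𝒟.B i) (𝒟.A i) b) (gM 𝒟 R' i m)]
  congr 1

theorem range_α' (i : ℕ) (hi : i < 𝒟.n) : letI := (BB 𝒟 R' i hi).toAlgebra
    LinearMap.range (α' 𝒟 R' i) = Submodule.span (B' 𝒟 R' i)
      ((gM 𝒟 R' i) '' (LinearMap.range (𝒟.α i) : Set (𝒟.M i))) := by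
  rw [α', Fintype.range_linearCombination]
  apply le_antisymm
  · rw [Submodule.span_le]
    rintro _ ⟨k, rfl⟩
    exact Submodule.subset_span ⟨_, ⟨_, rfl⟩, rfl⟩
  · rw [Submodule.span_le]
    rintro _ ⟨_, ⟨w, rfl⟩, rfl⟩
    have hw : w = ∑ k, w k • Pi.single k (1 : 𝒟.B i) := by
      funext j
      simp [Finset.sum_apply, Pi.single_apply]
    rw [hw, map_sum, map_sum]
    refine Submodule.sum_mem _ (fun k _ => ?_)
    rw [LinearMap.map_smul, gM_smul 𝒟 R' i hi]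
    exact Submodule.smul_mem _ _ (Submodule.subset_span ⟨k, rfl⟩)

end Alpha

end BB

end Fam

end Groth.Agent.Lib.Helper95.DevFam
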