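import Mathlib
import Groth.Prelude.Def_FlatCA
import Groth.Prelude.Def_Flat
import Groth.Agent.Lib.Helper95.DevFam

/-!
Helper library for S12243 (helper95): the base-changed complete dévissage, properties.
-/

set_option autoImplicit false
set_option linter.style.haveILetI false
set_option linter.unusedSectionVars false
universe u

namespace Groth.Agent.Lib.Helper95.DevFam

open TensorProduct Groth.Agent.Lib.Helper95

section Fam2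

attribute [local instance] Algebra.TensorProduct.rightAlgebra

variable {R S : Type u} [CommRing R] [CommRing S] [Algebra R S] {N : Type u} [AddCommGroup N]
  [Module S N] {p : Ideal R} [p.IsPrime] (𝒟 : FlatCA.CompleteDevissage R S N p)
  (R' : Type u) [CommRing R'] [Algebra R R']
  (S' : Type u) [CommRing S'] [Algebra R' S'] [Algebra R S'] [Algebra S S']
  [IsScalarTower R R' S'] [IsScalarTower R S S'] [Algebra.IsPushout R R' S S']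

/-- `S' → R' ⊗ A 0` -/
noncomputable def σ : S' →ₐ[R'] (R' ⊗[R] 𝒟.A 0) :=
  (Algebra.TensorProduct.map (AlgHom.id R' R') (IsScalarTower.toAlgHom R S (𝒟.A 0))).comp
    (Algebra.IsPushout.equiv R R' S S').symm.toAlgHom

theorem σ_algebraMap (s : S) :
    σ 𝒟 R' S' (algebraMap S S' s) = (1 : R') ⊗ₜ[R] (algebraMap S (𝒟.A 0) s) := by
  have h : (Algebra.IsPushout.equiv R R' S S').symm (algebraMap S S' s) = (1 : R') ⊗ₜ[R] s := by
    rw [AlgEquiv.symm_apply_eq, Algebra.IsPushout.equiv_tmul, map_one, one_mul]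
  change Algebra.TensorProduct.map (AlgHom.id R' R') (IsScalarTower.toAlgHom R S (𝒟.A 0))
    ((Algebra.IsPushout.equiv R R' S S').symm (algebraMap S S' s)) = _
  rw [h, Algebra.TensorProduct.map_tmul]
  rfl

/-- `S' → A' 0` -/
noncomputable def SA : S' →+* A' 𝒟 R' 0 := RingHom.pi fun _ => (σ 𝒟 R' S').toRingHom

/-- the algebra structure of `A' 0` over `S'` -/
noncomputable def algSA : Algebra S' (A' 𝒟 R' 0) := (SA 𝒟 R' S').toAlgebra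

theorem towerRSA : letI := algSA 𝒟 R' S'
    IsScalarTower R' S' (A' 𝒟 R' 0) := by
  letI := algSA 𝒟 R' S'
  refine IsScalarTower.of_algebraMap_eq (fun r => ?_)
  funext h
  change _ = σ 𝒟 R' S' (algebraMap R' S' r)
  rw [AlgHom.commutes]
  rfl

/-- the module structure of `M' 0` over `S'` -/
noncomputable def modSM : Module S' (M' 𝒟 R' 0) :=
  letI := algSA 𝒟 R' S'
  inferInstanceAs (Module S' (A' 𝒟 R' 0 ⊗[𝒟.A 0] 𝒟.M 0))

theorem towerSAM : letI := algSA 𝒟 R' S'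
    letI := modSM 𝒟 R' S'
    IsScalarTower S' (A' 𝒟 R' 0) (M' 𝒟 R' 0) := by
  letI := algSA 𝒟 R' S'
  exact inferInstanceAs (IsScalarTower S' (A' 𝒟 R' 0) (A' 𝒟 R' 0 ⊗[𝒟.A 0] 𝒟.M 0))

/-- the algebra structure of `A' 0` over `S` -/
noncomputable def algS0A : Algebra S (A' 𝒟 R' 0) :=
  ((SA 𝒟 R' S').comp (algebraMap S S')).toAlgebra

theorem towerSS'A : letI := algSA 𝒟 R' S'
    letI := algS0A 𝒟 R' S'
    IsScalarTower S S' (A' 𝒟 R' 0) := by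
  letI := algSA 𝒟 R' S'
  letI := algS0A 𝒟 R' S'
  exact IsScalarTower.of_algebraMap_eq (fun _ => rfl)

theorem towerSA0A : letI := algS0A 𝒟 R' S'
    IsScalarTower S (𝒟.A 0) (A' 𝒟 R' 0) := by
  letI := algS0A 𝒟 R' S'
  refine IsScalarTower.of_algebraMap_eq (fun s => ?_)
  funext h
  change σ 𝒟 R' S' (algebraMap S S' s) = (1 : R') ⊗ₜ[R] (algebraMap S (𝒟.A 0) s)
  exact σ_algebraMap 𝒟 R' S' s

theorem isPushout_SA : letI := algSA 𝒟 R' S'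
    letI := algS0A 𝒟 R' S'
    haveI := towerSS'A 𝒟 R' S'
    haveI := towerSA0A 𝒟 R' S'
    Algebra.IsPushout S (𝒟.A 0) S' (A' 𝒟 R' 0) := by
  letI := algSA 𝒟 R' S'
  letI := algS0A 𝒟 R' S'
  haveI := towerSS'A 𝒟 R' S'
  haveI := towerSA0A 𝒟 R' S'
  haveI := towerRSA 𝒟 R' S'
  haveI := isPushout_A 𝒟 R' 0 𝒟.pos
  exact DevStep.isPushout_mid R R' S S' (𝒟.A 0) (A' 𝒟 R' 0)

theorem surjSA' : letI := algSA 𝒟 R' S'
    Function.Surjective (algebraMap S' (A' 𝒟 R' 0)) := by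
  letI := algSA 𝒟 R' S'
  letI := algS0A 𝒟 R' S'
  haveI := towerSS'A 𝒟 R' S'
  haveI := towerSA0A 𝒟 R' S'
  haveI := isPushout_SA 𝒟 R' S'
  exact RingHom.surjective_isStableUnderBaseChange S (𝒟.A 0) S' (A' 𝒟 R' 0) 𝒟.surjSA

theorem fpSA' : letI := algSA 𝒟 R' S'
    Algebra.FinitePresentation S' (A' 𝒟 R' 0) := by
  letI := algSA 𝒟 R' S'
  letI := algS0A 𝒟 R' S'
  haveI := towerSS'A 𝒟 R' S'
  haveI := towerSA0A 𝒟 R' S'
  haveI := isPushout_SA 𝒟 R' S'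
  exact RingHom.finitePresentation_algebraMap.mp
    (RingHom.finitePresentation_isStableUnderBaseChange S (𝒟.A 0) S' (A' 𝒟 R' 0)
      (RingHom.finitePresentation_algebraMap.mpr 𝒟.fpSA))

theorem span_range_eq_top_of_isBaseChange {A A' M M' : Type u} [CommRing A] [CommRing A']
    [Algebra A A'] [AddCommGroup M] [Module A M] [AddCommGroup M'] [Module A' M'] [Module A M']
    [IsScalarTower A A' M'] (g : M →ₗ[A] M') (hg : IsBaseChange A' g) :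
    Submodule.span A' (Set.range g) = ⊤ := by
  rw [eq_top_iff]
  intro x _
  exact hg.inductionOn x (fun x => x ∈ Submodule.span A' (Set.range g)) (zero_mem _)
    (fun m => Submodule.subset_span ⟨m, rfl⟩) (fun s n hn => Submodule.smul_mem _ s hn)
    (fun a b ha hb => add_mem ha hb)

section Step

variable (i : ℕ) (hi : i < 𝒟.n)

theorem isPushout_BA : letI := (BB 𝒟 R' i hi).toAlgebra
    haveI := towerB0BA 𝒟 R' i hi
    Algebra.IsPushout (𝒟.B i) (𝒟.A i) (B' 𝒟 R' i) (A' 𝒟 R' i) := by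
  letI := (BB 𝒟 R' i hi).toAlgebra
  haveI := towerRB0B 𝒟 R' i hi
  haveI := towerB0BA 𝒟 R' i hi
  haveI := isPushout_B 𝒟 R' i hi
  haveI := isPushout_A 𝒟 R' i hi
  exact DevStep.isPushout_mid R R' (𝒟.B i) (B' 𝒟 R' i) (𝒟.A i) (A' 𝒟 R' i)

include hi in
theorem finiteBA' : Module.Finite (B' 𝒟 R' i) (A' 𝒟 R' i) := by
  letI := (BB 𝒟 R' i hi).toAlgebra
  haveI := towerB0BA 𝒟 R' i hi
  haveI := isPushout_BA 𝒟 R' i hi
  exact RingHom.finite_algebraMap.mp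
    (RingHom.finite_isStableUnderBaseChange (𝒟.B i) (𝒟.A i) (B' 𝒟 R' i) (A' 𝒟 R' i)
      (RingHom.finite_algebraMap.mpr (𝒟.finiteBA i hi)))

include hi in
theorem smooth' : Algebra.Smooth R' (B' 𝒟 R' i) := by
  letI := (BB 𝒟 R' i hi).toAlgebra
  haveI := towerRB0B 𝒟 R' i hi
  haveI : Algebra.IsPushout R (𝒟.B i) R' (B' 𝒟 R' i) := (isPushout_B 𝒟 R' i hi).symm
  exact RingHom.smooth_algebraMap.mp
    (RingHom.Smooth.isStableUnderBaseChange R (𝒟.B i) R' (B' 𝒟 R' i)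
      (RingHom.smooth_algebraMap.mpr (𝒟.smooth i hi)))

include hi in
theorem geomIrred' : FlatCA.GeomIrredFibres R' (B' 𝒟 R' i) := by
  letI := (BB 𝒟 R' i hi).toAlgebra
  haveI := towerRB0B 𝒟 R' i hi
  haveI := isPushout_B 𝒟 R' i hi
  exact DevStep.geomIrredFibres_baseChange R (𝒟.B i) R' (B' 𝒟 R' i) (𝒟.geomIrred i hi)

include hi in
theorem finiteM' : Module.Finite (A' 𝒟 R' i) (M' 𝒟 R' i) := by
  haveI := 𝒟.finiteM i hi
  exact inferInstanceAs (Module.Finite (A' 𝒟 R' i) (A' 𝒟 R' i ⊗[𝒟.A i] 𝒟.M i))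

include hi in
theorem hp' (p' : Ideal R') [p'.IsPrime] : (p'.map (algebraMap R' (B' 𝒟 R' i))).IsPrime :=
  DevBC.map_isPrime_of_smooth R' (B' 𝒟 R' i) (smooth' 𝒟 R' i hi) (geomIrred' 𝒟 R' i hi) p'

/-- the `B i`-module structure of `M' i` -/
noncomputable def modB0M : Module (𝒟.B i) (M' 𝒟 R' i) := Module.compHom _ (BB 𝒟 R' i hi)

theorem towerB0BM : letI := (BB 𝒟 R' i hi).toAlgebra
    letI := modB0M 𝒟 R' i hi
    IsScalarTower (𝒟.B i) (B' 𝒟 R' i) (M' 𝒟 R' i) := by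
  letI := (BB 𝒟 R' i hi).toAlgebra
  letI := modB0M 𝒟 R' i hi
  exact ⟨fun b b' m => by
    change (algebraMap (𝒟.B i) (B' 𝒟 R' i) b * b') • m = BB 𝒟 R' i hi b • (b' • m)
    rw [mul_smul]
    rfl⟩

/-- `gM i` as a `B i`-linear map -/
noncomputable def gB : letI := modB0M 𝒟 R' i hi
    𝒟.M i →ₗ[𝒟.B i] M' 𝒟 R' i :=
  letI := modB0M 𝒟 R' i hi
  { toFun := gM 𝒟 R' i
    map_add' := (gM 𝒟 R' i).map_add
    map_smul' := fun b m => gM_smul 𝒟 R' i hi b m }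

theorem isBaseChange_gB : letI := (BB 𝒟 R' i hi).toAlgebra
    letI := modB0M 𝒟 R' i hi
    haveI := towerB0BM 𝒟 R' i hi
    IsBaseChange (B' 𝒟 R' i) (gB 𝒟 R' i hi) := by
  letI := (BB 𝒟 R' i hi).toAlgebra
  letI := modB0M 𝒟 R' i hi
  haveI := towerB0BM 𝒟 R' i hi
  haveI := towerB0BA 𝒟 R' i hi
  haveI : Algebra.IsPushout (𝒟.B i) (B' 𝒟 R' i) (𝒟.A i) (A' 𝒟 R' i) :=
    (isPushout_BA 𝒟 R' i hi).symm
  exact DevAt.isBaseChange_of_isPushout (𝒟.B i) (B' 𝒟 R' i) (𝒟.A i) (A' 𝒟 R' i) (𝒟.M i)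
    (M' 𝒟 R' i) (gM 𝒟 R' i) (isBaseChange_gM 𝒟 R' i) (gB 𝒟 R' i hi) (fun _ => rfl)

end Step

section Step2

variable (i : ℕ) (hi : i < 𝒟.n) (p' : Ideal R') [p'.IsPrime] [hp'p : p'.LiesOver p]

include hi in
theorem fibreIso' [hP' : (p'.map (algebraMap R' (B' 𝒟 R' i))).IsPrime] :
    Function.Bijective ((α' 𝒟 R' i).baseChange
      (p'.map (algebraMap R' (B' 𝒟 R' i))).ResidueField) := by
  letI := (BB 𝒟 R' i hi).toAlgebra
  letI := modB0M 𝒟 R' i hi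
  haveI := towerB0BM 𝒟 R' i hi
  haveI := towerRB0B 𝒟 R' i hi
  haveI := isPushout_B 𝒟 R' i hi
  haveI : Algebra.Smooth R (𝒟.B i) := 𝒟.smooth i hi
  haveI : Module.Flat R (𝒟.B i) := inferInstance
  haveI : (p'.map (algebraMap R' (B' 𝒟 R' i))).LiesOver (p.map (algebraMap R (𝒟.B i))) :=
    ⟨(DevBC.comap_map_eq p p' (𝒟.B i) (B' 𝒟 R' i)).symm⟩
  exact DevBC.fibreIso_baseChange (𝒟.B i) (B' 𝒟 R' i) (p.map (algebraMap R (𝒟.B i)))
    (p'.map (algebraMap R' (B' 𝒟 R' i))) (𝒟.M i) (M' 𝒟 R' i) (gB 𝒟 R' i hi)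
    (isBaseChange_gB 𝒟 R' i hi) (𝒟.r i) (𝒟.α i) (α' 𝒟 R' i) (α'_single 𝒟 R' i)
    (𝒟.fibreIso i hi)

include hi in
theorem surjective_α' (hsurj : Function.Surjective (𝒟.α i)) :
    Function.Surjective (α' 𝒟 R' i) := by
  letI := (BB 𝒟 R' i hi).toAlgebra
  letI := modB0M 𝒟 R' i hi
  haveI := towerB0BM 𝒟 R' i hi
  rw [← LinearMap.range_eq_top, range_α' 𝒟 R' i hi, LinearMap.range_eq_top.mpr hsurj]
  have := span_range_eq_top_of_isBaseChange (gB 𝒟 R' i hi) (isBaseChange_gB 𝒟 R' i hi)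
  rw [← this]
  congr 1
  ext x
  simp only [Submodule.top_coe, Set.image_univ, Set.mem_range]
  rfl

variable (hi1 : i + 1 < 𝒟.n)

include hi1 in
theorem isPushout_BA1 : letI := (BB 𝒟 R' i hi).toAlgebra
    haveI := towerB0BA1 𝒟 R' i hi
    Algebra.IsPushout (𝒟.B i) (𝒟.A (i + 1)) (B' 𝒟 R' i) (A' 𝒟 R' (i + 1)) := by
  letI := (BB 𝒟 R' i hi).toAlgebra
  haveI := towerRB0B 𝒟 R' i hi
  haveI := towerB0BA1 𝒟 R' i hi
  haveI := isPushout_B 𝒟 R' i hi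
  haveI := isPushout_A 𝒟 R' (i + 1) hi1
  exact DevStep.isPushout_mid R R' (𝒟.B i) (B' 𝒟 R' i) (𝒟.A (i + 1)) (A' 𝒟 R' (i + 1))

include hi hi1 in
theorem surjBA1' : Function.Surjective (algebraMap (B' 𝒟 R' i) (A' 𝒟 R' (i + 1))) := by
  letI := (BB 𝒟 R' i hi).toAlgebra
  haveI := towerB0BA1 𝒟 R' i hi
  haveI := isPushout_BA1 𝒟 R' i hi hi1
  exact RingHom.surjective_isStableUnderBaseChange (𝒟.B i) (𝒟.A (i + 1)) (B' 𝒟 R' i)
    (A' 𝒟 R' (i + 1)) (𝒟.surjBA' i hi1)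

include hi hi1 in
theorem fpBA1' : Algebra.FinitePresentation (B' 𝒟 R' i) (A' 𝒟 R' (i + 1)) := by
  letI := (BB 𝒟 R' i hi).toAlgebra
  haveI := towerB0BA1 𝒟 R' i hi
  haveI := isPushout_BA1 𝒟 R' i hi hi1
  exact RingHom.finitePresentation_algebraMap.mp
    (RingHom.finitePresentation_isStableUnderBaseChange (𝒟.B i) (𝒟.A (i + 1)) (B' 𝒟 R' i)
      (A' 𝒟 R' (i + 1)) (RingHom.finitePresentation_algebraMap.mpr (𝒟.fpBA' i hi1)))

/-- the `B i`-module structure of `M' (i+1)` -/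
noncomputable def modB0M1 : Module (𝒟.B i) (M' 𝒟 R' (i + 1)) := Module.compHom _ (BB 𝒟 R' i hi)

theorem towerB0BM1 : letI := (BB 𝒟 R' i hi).toAlgebra
    letI := modB0M1 𝒟 R' i hi
    IsScalarTower (𝒟.B i) (B' 𝒟 R' i) (M' 𝒟 R' (i + 1)) := by
  letI := (BB 𝒟 R' i hi).toAlgebra
  letI := modB0M1 𝒟 R' i hi
  exact ⟨fun b b' m => by
    change (algebraMap (𝒟.B i) (B' 𝒟 R' i) b * b') • m = BB 𝒟 R' i hi b • (b' • m)
    rw [mul_smul]
    rfl⟩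

theorem gM1_smul (b : 𝒟.B i) (m : 𝒟.M (i + 1)) :
    gM 𝒟 R' (i + 1) (b • m) = BB 𝒟 R' i hi b • gM 𝒟 R' (i + 1) m := by
  letI := (BB 𝒟 R' i hi).toAlgebra
  haveI := towerB0BA1 𝒟 R' i hi
  change _ = BA1 𝒟 R' i (BB 𝒟 R' i hi b) • gM 𝒟 R' (i + 1) m
  rw [← algebraMap_smul (𝒟.A (i + 1)) b m, LinearMap.map_smul,
    ← algebraMap_smul (A' 𝒟 R' (i + 1)) (algebraMap (𝒟.B i) (𝒟.A (i + 1)) b)
      (gM 𝒟 R' (i + 1) m)]
  congr 1

/-- `gM (i+1)` as a `B i`-linear map -/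
noncomputable def gB1 : letI := modB0M1 𝒟 R' i hi
    𝒟.M (i + 1) →ₗ[𝒟.B i] M' 𝒟 R' (i + 1) :=
  letI := modB0M1 𝒟 R' i hi
  { toFun := gM 𝒟 R' (i + 1)
    map_add' := (gM 𝒟 R' (i + 1)).map_add
    map_smul' := fun b m => gM1_smul 𝒟 R' i hi b m }

include hi1 in
theorem isBaseChange_gB1 : letI := (BB 𝒟 R' i hi).toAlgebra
    letI := modB0M1 𝒟 R' i hi
    haveI := towerB0BM1 𝒟 R' i hi
    IsBaseChange (B' 𝒟 R' i) (gB1 𝒟 R' i hi) := by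
  letI := (BB 𝒟 R' i hi).toAlgebra
  letI := modB0M1 𝒟 R' i hi
  haveI := towerB0BM1 𝒟 R' i hi
  haveI := towerB0BA1 𝒟 R' i hi
  haveI : Algebra.IsPushout (𝒟.B i) (B' 𝒟 R' i) (𝒟.A (i + 1)) (A' 𝒟 R' (i + 1)) :=
    (isPushout_BA1 𝒟 R' i hi hi1).symm
  exact DevAt.isBaseChange_of_isPushout (𝒟.B i) (B' 𝒟 R' i) (𝒟.A (i + 1)) (A' 𝒟 R' (i + 1))
    (𝒟.M (i + 1)) (M' 𝒟 R' (i + 1)) (gM 𝒟 R' (i + 1)) (isBaseChange_gM 𝒟 R' (i + 1))
    (gB1 𝒟 R' i hi) (fun _ => rfl)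

include hi hi1 in
theorem isoCoker' :
    Nonempty ((M' 𝒟 R' i ⧸ LinearMap.range (α' 𝒟 R' i)) ≃ₗ[B' 𝒟 R' i] M' 𝒟 R' (i + 1)) := by
  letI := (BB 𝒟 R' i hi).toAlgebra
  letI := modB0M 𝒟 R' i hi
  haveI := towerB0BM 𝒟 R' i hi
  letI := modB0M1 𝒟 R' i hi
  haveI := towerB0BM1 𝒟 R' i hi
  exact DevBC.nonempty_coker_equiv (𝒟.B i) (B' 𝒟 R' i) (𝒟.M i) (M' 𝒟 R' i) (gB 𝒟 R' i hi)
    (isBaseChange_gB 𝒟 R' i hi) (𝒟.M (i + 1)) (M' 𝒟 R' (i + 1)) (gB1 𝒟 R' i hi)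
    (isBaseChange_gB1 𝒟 R' i hi hi1) (LinearMap.range (𝒟.α i)) (LinearMap.range (α' 𝒟 R' i))
    (range_α' 𝒟 R' i hi) (𝒟.isoCoker i hi1)

end Step2

section Tail

theorem hp_tail (i : ℕ) (hni : ¬ i < 𝒟.n) (p' : Ideal R') [p'.IsPrime] :
    (p'.map (algebraMap R' (B' 𝒟 R' i))).IsPrime := by
  let e : B' 𝒟 R' i →+* R' := (Pi.evalRingHom _ ⟨hni⟩).comp (RingHom.snd _ _)
  have he : ∀ r, e (algebraMap R' (B' 𝒟 R' i) r) = r := fun r => rfl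
  have he' : ∀ b, algebraMap R' (B' 𝒟 R' i) (e b) = b := fun b =>
    Prod.ext (funext fun h => (hni h.down).elim) (funext fun _ => rfl)
  have : p'.map (algebraMap R' (B' 𝒟 R' i)) = p'.comap e := by
    apply le_antisymm
    · rw [Ideal.map_le_iff_le_comap]
      intro r hr
      rw [Ideal.mem_comap, Ideal.mem_comap, he]
      exact hr
    · intro b hb
      rw [← he' b]
      exact Ideal.mem_map_of_mem _ hb
  rw [this]
  exact Ideal.comap_isPrime e p'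

theorem hp_all (i : ℕ) (p' : Ideal R') [p'.IsPrime] :
    (p'.map (algebraMap R' (B' 𝒟 R' i))).IsPrime := by
  by_cases h : i < 𝒟.n
  · exact hp' 𝒟 R' i h p'
  · exact hp_tail 𝒟 R' i h p'

end Tail

section IsoN

variable (N' : Type u) [AddCommGroup N'] [Module S' N'] [Module S N'] [IsScalarTower S S' N']
  (f : N →ₗ[S] N') (hf : IsBaseChange S' f)

/-- the identification of `N'` with the first module -/
noncomputable def isoN' : letI := modSM 𝒟 R' S'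
    N' ≃ₗ[S'] M' 𝒟 R' 0 :=
  letI := algSA 𝒟 R' S'
  letI := algS0A 𝒟 R' S'
  haveI := towerSS'A 𝒟 R' S'
  haveI := towerSA0A 𝒟 R' S'
  haveI : Algebra.IsPushout S S' (𝒟.A 0) (A' 𝒟 R' 0) := (isPushout_SA 𝒟 R' S').symm
  let e1 : N' ≃ₗ[S'] S' ⊗[S] N := hf.equiv.symm
  let e2 : S' ⊗[S] N ≃ₗ[S'] S' ⊗[S] 𝒟.M 0 :=
    AlgebraTensorModule.congr (LinearEquiv.refl S' S') 𝒟.isoN
  let e3 : S' ⊗[S] 𝒟.M 0 ≃ₗ[S'] A' 𝒟 R' 0 ⊗[𝒟.A 0] 𝒟.M 0 :=
    (Algebra.IsPushout.cancelBaseChange S S' (𝒟.A 0) (A' 𝒟 R' 0) (𝒟.M 0)).symm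
  e1.trans (e2.trans e3)

theorem isoN'_apply (x : N) :
    isoN' 𝒟 R' S' N' f hf (f x) = gM 𝒟 R' 0 (𝒟.isoN x) := by
  letI := algSA 𝒟 R' S'
  letI := algS0A 𝒟 R' S'
  haveI := towerSS'A 𝒟 R' S'
  haveI := towerSA0A 𝒟 R' S'
  haveI : Algebra.IsPushout S S' (𝒟.A 0) (A' 𝒟 R' 0) := (isPushout_SA 𝒟 R' S').symm
  change (Algebra.IsPushout.cancelBaseChange S S' (𝒟.A 0) (A' 𝒟 R' 0) (𝒟.M 0)).symm
    (AlgebraTensorModule.congr (LinearEquiv.refl S' S') 𝒟.isoN (hf.equiv.symm (f x))) = _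
  rw [hf.equiv_symm_apply, AlgebraTensorModule.congr_tmul, LinearEquiv.refl_apply,
    Algebra.IsPushout.cancelBaseChange_symm_tmul, map_one]
  rfl

end IsoN

end Fam2

end Groth.Agent.Lib.Helper95.DevFam
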