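import Mathlib
import Groth.Prelude.Def_FlatCA
import Groth.Prelude.Def_Flat
import Groth.Agent.Lib.Helper95.DevFam2

/-!
Helper library for S12243 (helper95): the base-changed complete dévissage, the structure.
-/

set_option autoImplicit false
set_option linter.style.haveILetI false
set_option linter.unusedSectionVars false
universe u

namespace Groth.Agent.Lib.Helper95.DevFam

open TensorProduct Groth.Agent.Lib.Helper95

section Fam3

attribute [local instance] Algebra.TensorProduct.rightAlgebra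

variable {R S : Type u} [CommRing R] [CommRing S] [Algebra R S] {N : Type u} [AddCommGroup N]
  [Module S N] {p : Ideal R} [p.IsPrime] (𝒟 : FlatCA.CompleteDevissage R S N p)
  (R' : Type u) [CommRing R'] [Algebra R R']
  (S' : Type u) [CommRing S'] [Algebra R' S'] [Algebra R S'] [Algebra S S']
  [IsScalarTower R R' S'] [IsScalarTower R S S'] [Algebra.IsPushout R R' S S']
  (p' : Ideal R') [p'.IsPrime] [p'.LiesOver p]
  (N' : Type u) [AddCommGroup N'] [Module S' N'] [Module S N'] [IsScalarTower S S' N']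
  (f : N →ₗ[S] N') (hf : IsBaseChange S' f)

/-- the base-changed complete dévissage -/
@[reducible] noncomputable def bcDev : FlatCA.CompleteDevissage R' S' N' p' :=
  { n := 𝒟.n
    pos := 𝒟.pos
    A := A' 𝒟 R'
    B := B' 𝒟 R'
    M := M' 𝒟 R'
    r := 𝒟.r
    aSA := algSA 𝒟 R' S'
    tRSA := towerRSA 𝒟 R' S'
    mSM := modSM 𝒟 R' S'
    tSAM := towerSAM 𝒟 R' S'
    hp := fun i => hp_all 𝒟 R' i p'
    α := α' 𝒟 R'
    surjSA := surjSA' 𝒟 R' S'
    fpSA := fpSA' 𝒟 R' S'
    surjBA' := fun i h => surjBA1' 𝒟 R' i (Nat.lt_of_succ_lt h) h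
    fpBA' := fun i h => fpBA1' 𝒟 R' i (Nat.lt_of_succ_lt h) h
    finiteBA := fun i h => finiteBA' 𝒟 R' i h
    smooth := fun i h => smooth' 𝒟 R' i h
    geomIrred := fun i h => geomIrred' 𝒟 R' i h
    finiteM := fun i h => finiteM' 𝒟 R' i h
    isoN := isoN' 𝒟 R' S' N' f hf
    isoCoker := fun i h => (isoCoker' 𝒟 R' i (Nat.lt_of_succ_lt h) h).some
    fibreIso := fun i h => fibreIso' 𝒟 R' i h p' (hP' := hp_all 𝒟 R' i p')
    cokerLast := surjective_α' 𝒟 R' (𝒟.n - 1) (Nat.sub_lt 𝒟.pos Nat.one_pos) 𝒟.cokerLast }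

end Fam3

end Groth.Agent.Lib.Helper95.DevFam
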