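import Mathlib

/-!
# Algebras with a section: the derivation `y ↦ [y - σ y]` into the conormal module

For an `A`-algebra `B` with an `A`-algebra retraction `σ : B → A` with kernel `b`, the map
`B → b/b²`, `y ↦ [y - σ y]` is an `A`-derivation.
-/

set_option autoImplicit false
universe u

namespace Groth.Agent.Helper95.SectionCotangent

open KaehlerDifferential TensorProduct

variable {A B : Type u} [CommRing A] [CommRing B] [Algebra A B] (σ : B →ₐ[A] A)

lemma sub_mem_ker (y : B) : y - algebraMap A B (σ y) ∈ RingHom.ker σ := by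
  simp [RingHom.mem_ker]

/-- the `A`-linear map `y ↦ [y - σ y]`. -/
noncomputable def rhoLin : B →ₗ[A] (RingHom.ker σ).Cotangent where
  toFun y := (RingHom.ker σ).toCotangent ⟨y - algebraMap A B (σ y), sub_mem_ker σ y⟩
  map_add' x y := by
    rw [← map_add]
    congr 1
    ext
    simp only [map_add, Submodule.coe_add]
    ring
  map_smul' a y := by
    simp only [RingHom.id_apply]
    rw [← LinearMap.map_smul_of_tower]
    congr 1
    ext
    simp only [map_mul, SetLike.val_smul_of_tower, Algebra.smul_def]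
    simp [mul_sub]

lemma rhoLin_apply (y : B) :
    rhoLin σ y = (RingHom.ker σ).toCotangent ⟨y - algebraMap A B (σ y), sub_mem_ker σ y⟩ := rfl

/-- the derivation `y ↦ [y - σ y]`. -/
noncomputable def rhoDer : Derivation A B (RingHom.ker σ).Cotangent :=
  Derivation.mk' (rhoLin σ) (by
    intro y z
    simp only [rhoLin_apply]
    rw [← map_smul, ← map_smul, ← map_add, Ideal.toCotangent_eq]
    have h1 := sub_mem_ker σ y
    have h2 := sub_mem_ker σ z
    have h3 : (y - algebraMap A B (σ y)) * (z - algebraMap A B (σ z)) ∈ RingHom.ker σ ^ 2 := by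
      rw [pow_two]
      exact Ideal.mul_mem_mul h1 h2
    have h4 : -((y - algebraMap A B (σ y)) * (z - algebraMap A B (σ z))) ∈ RingHom.ker σ ^ 2 :=
      neg_mem h3
    convert h4 using 1
    simp only [map_mul, Submodule.coe_add, Submodule.coe_smul, smul_eq_mul]
    ring)

lemma rhoDer_apply (y : B) :
    rhoDer σ y = (RingHom.ker σ).toCotangent ⟨y - algebraMap A B (σ y), sub_mem_ker σ y⟩ := rfl

lemma rhoDer_of_mem (y : B) (hy : y ∈ RingHom.ker σ) :
    rhoDer σ y = (RingHom.ker σ).toCotangent ⟨y, hy⟩ := by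
  rw [rhoDer_apply]
  congr 1
  ext
  simp [RingHom.mem_ker.mp hy]

/-- the induced `B`-linear map `Ω[B/A] → b/b²`. -/
noncomputable def rho : Ω[B⁄A] →ₗ[B] (RingHom.ker σ).Cotangent := (rhoDer σ).liftKaehlerDifferential

lemma rho_D (y : B) : rho σ (D A B y) = rhoDer σ y := Derivation.liftKaehlerDifferential_comp_D _ _

lemma rho_eq_zero_of_mem_smul (ω : Ω[B⁄A])
    (hω : ω ∈ RingHom.ker σ • (⊤ : Submodule B Ω[B⁄A])) : rho σ ω = 0 := by
  refine Submodule.smul_induction_on hω ?_ ?_
  · intro r hr n _
    rw [map_smul]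
    obtain ⟨c, hc⟩ := Ideal.toCotangent_surjective _ (rho σ n)
    rw [← hc, ← map_smul, Ideal.toCotangent_eq_zero, pow_two]
    exact Ideal.mul_mem_mul hr c.2
  · intro x y hx hy
    rw [map_add, hx, hy, add_zero]

/-- `D y ∈ b • ⊤` for `y ∈ b²`, for differentials relative to any base. -/
lemma D_mem_smul_top_of_mem_sq {R : Type u} [CommRing R] [Algebra R B] (I : Ideal B) (y : B)
    (hy : y ∈ I ^ 2) : D R B y ∈ I • (⊤ : Submodule B Ω[B⁄R]) := by
  rw [pow_two] at hy
  refine Submodule.mul_induction_on hy ?_ ?_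
  · intro p hp q hq
    rw [Derivation.leibniz]
    exact add_mem (Submodule.smul_mem_smul hp Submodule.mem_top)
      (Submodule.smul_mem_smul hq Submodule.mem_top)
  · intro x y hx hy
    rw [map_add]
    exact add_mem hx hy

end Groth.Agent.Helper95.SectionCotangent
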