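import Mathlib
import Groth.Agent.Lib.Helper95.SectionCotangent

/-!
# Étaleness along a section from bijectivity on conormal modules (global part)
-/

set_option autoImplicit false
universe u

namespace Groth.Agent.Helper95.EtaleAlongSection

open KaehlerDifferential TensorProduct Groth.Agent.Helper95.SectionCotangent

variable {A B₁ B₂ : Type u}
    [CommRing A] [CommRing B₁] [CommRing B₂] [Algebra A B₁] [Algebra A B₂] [Algebra B₂ B₁]
    [IsScalarTower A B₂ B₁]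
    (σ₁ : B₁ →ₐ[A] A) (σ₂ : B₂ →ₐ[A] A) (hσ : σ₁.comp (IsScalarTower.toAlgHom A B₂ B₁) = σ₂)
    (hle : RingHom.ker σ₂ ≤ (RingHom.ker σ₁).comap (IsScalarTower.toAlgHom A B₂ B₁))

include hσ in
lemma sigma_algebraMap (z : B₂) : σ₁ (algebraMap B₂ B₁ z) = σ₂ z := by
  rw [← hσ]; rfl

/-- Part 1: relative differentials vanish modulo `b₁`. -/
lemma kaehler_mem_smul_top
    (hsurj : Function.Surjective
      (Ideal.mapCotangent (RingHom.ker σ₂) (RingHom.ker σ₁) (IsScalarTower.toAlgHom A B₂ B₁) hle))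
    (ω : Ω[B₁⁄B₂]) : ω ∈ RingHom.ker σ₁ • (⊤ : Submodule B₁ Ω[B₁⁄B₂]) := by
  have hD : ∀ y : B₁, D B₂ B₁ y ∈ RingHom.ker σ₁ • (⊤ : Submodule B₁ Ω[B₁⁄B₂]) := by
    intro y
    obtain ⟨c, hc⟩ := hsurj ((RingHom.ker σ₁).toCotangent ⟨y - algebraMap A B₁ (σ₁ y),
      sub_mem_ker σ₁ y⟩)
    obtain ⟨x, rfl⟩ := Ideal.toCotangent_surjective _ c
    rw [Ideal.mapCotangent_toCotangent, Ideal.toCotangent_eq] at hc
    simp only [IsScalarTower.coe_toAlgHom'] at hc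
    have h1 := D_mem_smul_top_of_mem_sq (R := B₂) _ _ hc
    have h2 : D B₂ B₁ (algebraMap B₂ B₁ x - (y - algebraMap A B₁ (σ₁ y))) = - D B₂ B₁ y := by
      rw [map_sub, map_sub, Derivation.map_algebraMap,
        IsScalarTower.algebraMap_apply A B₂ B₁, Derivation.map_algebraMap]
      simp
    rw [h2] at h1
    simpa using neg_mem h1
  have hω : ω ∈ Submodule.span B₁ (Set.range (D B₂ B₁)) := by
    rw [KaehlerDifferential.span_range_derivation]; exact Submodule.mem_top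
  refine Submodule.span_induction ?_ (zero_mem _) (fun _ _ _ _ => add_mem) ?_ hω
  · rintro _ ⟨y, rfl⟩
    exact hD y
  · intro r x _ hx
    exact Submodule.smul_mem _ r hx

/-- every element of `B₁ ⊗ Ω[B₂/A]` is congruent mod `b₁` to some `1 ⊗ D y` with `y ∈ b₂`. -/
lemma exists_sub_one_tmul_D_mem (x : B₁ ⊗[B₂] Ω[B₂⁄A]) :
    ∃ y : B₂, y ∈ RingHom.ker σ₂ ∧ x - (1 : B₁) ⊗ₜ[B₂] D A B₂ y ∈
      RingHom.ker σ₁ • (⊤ : Submodule B₁ (B₁ ⊗[B₂] Ω[B₂⁄A])) := by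
  induction x with
  | zero => exact ⟨0, zero_mem _, by simp⟩
  | add x x' hx hx' =>
    obtain ⟨y, hy, h⟩ := hx
    obtain ⟨y', hy', h'⟩ := hx'
    refine ⟨y + y', add_mem hy hy', ?_⟩
    have : x + x' - (1 : B₁) ⊗ₜ[B₂] D A B₂ (y + y') =
        (x - (1 : B₁) ⊗ₜ[B₂] D A B₂ y) + (x' - (1 : B₁) ⊗ₜ[B₂] D A B₂ y') := by
      rw [map_add, TensorProduct.tmul_add]; abel
    rw [this]
    exact add_mem h h'
  | tmul t ω =>
    have hω : ω ∈ Submodule.span B₂ (Set.range (D A B₂)) := by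
      rw [KaehlerDifferential.span_range_derivation]; exact Submodule.mem_top
    induction hω using Submodule.span_induction generalizing t with
    | mem ω hω =>
      obtain ⟨z, rfl⟩ := hω
      refine ⟨σ₁ t • z - algebraMap A B₂ (σ₂ (σ₁ t • z)), sub_mem_ker σ₂ _, ?_⟩
      have h1 : t ⊗ₜ[B₂] D A B₂ z -
          (1 : B₁) ⊗ₜ[B₂] D A B₂ (σ₁ t • z - algebraMap A B₂ (σ₂ (σ₁ t • z))) =
          (t - algebraMap A B₁ (σ₁ t)) • ((1 : B₁) ⊗ₜ[B₂] D A B₂ z) := by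
        rw [map_sub, Derivation.map_algebraMap, sub_zero, Derivation.map_smul,
          TensorProduct.smul_tmul', smul_eq_mul, mul_one, TensorProduct.sub_tmul,
          Algebra.algebraMap_eq_smul_one, TensorProduct.tmul_smul, TensorProduct.smul_tmul']
      rw [h1]
      exact Submodule.smul_mem_smul (sub_mem_ker σ₁ t) Submodule.mem_top
    | zero => exact ⟨0, zero_mem _, by simp⟩
    | add ω ω' _ _ h h' =>
      obtain ⟨y, hy, h⟩ := h t
      obtain ⟨y', hy', h'⟩ := h' t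
      refine ⟨y + y', add_mem hy hy', ?_⟩
      have : t ⊗ₜ[B₂] (ω + ω') - (1 : B₁) ⊗ₜ[B₂] D A B₂ (y + y') =
          (t ⊗ₜ[B₂] ω - (1 : B₁) ⊗ₜ[B₂] D A B₂ y) +
            (t ⊗ₜ[B₂] ω' - (1 : B₁) ⊗ₜ[B₂] D A B₂ y') := by
        rw [map_add, TensorProduct.tmul_add, TensorProduct.tmul_add]; abel
      rw [this]
      exact add_mem h h'
    | smul c ω _ h =>
      obtain ⟨y, hy, h⟩ := h (c • t)
      refine ⟨y, hy, ?_⟩
      rwa [TensorProduct.smul_tmul] at h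

/-- (I): injectivity of `B₁ ⊗ Ω[B₂/A] → Ω[B₁/A]` modulo `b₁`. -/
lemma mem_smul_top_of_mapBaseChange_mem
    (hinj : Function.Injective
      (Ideal.mapCotangent (RingHom.ker σ₂) (RingHom.ker σ₁) (IsScalarTower.toAlgHom A B₂ B₁) hle))
    (x : B₁ ⊗[B₂] Ω[B₂⁄A])
    (hx : mapBaseChange A B₂ B₁ x ∈ RingHom.ker σ₁ • (⊤ : Submodule B₁ Ω[B₁⁄A])) :
    x ∈ RingHom.ker σ₁ • (⊤ : Submodule B₁ (B₁ ⊗[B₂] Ω[B₂⁄A])) := by
  obtain ⟨y, hy, hxy⟩ := exists_sub_one_tmul_D_mem σ₁ σ₂ x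
  -- `u` maps `b₁ • ⊤` into `b₁ • ⊤`
  have hu : ∀ n ∈ RingHom.ker σ₁ • (⊤ : Submodule B₁ (B₁ ⊗[B₂] Ω[B₂⁄A])),
      mapBaseChange A B₂ B₁ n ∈ RingHom.ker σ₁ • (⊤ : Submodule B₁ Ω[B₁⁄A]) := by
    intro n hn
    refine Submodule.smul_induction_on hn ?_ ?_
    · intro r hr m _
      rw [map_smul]
      exact Submodule.smul_mem_smul hr Submodule.mem_top
    · intro a b ha hb
      rw [map_add]; exact add_mem ha hb
  have h1 : mapBaseChange A B₂ B₁ ((1 : B₁) ⊗ₜ[B₂] D A B₂ y) ∈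
      RingHom.ker σ₁ • (⊤ : Submodule B₁ Ω[B₁⁄A]) := by
    have := sub_mem hx (hu _ hxy)
    rwa [← map_sub, sub_sub_cancel] at this
  have h2 := rho_eq_zero_of_mem_smul σ₁ _ h1
  rw [mapBaseChange_tmul, one_smul, KaehlerDifferential.map_D, rho_D] at h2
  have hfy : algebraMap B₂ B₁ y ∈ RingHom.ker σ₁ := hle hy
  rw [rhoDer_of_mem σ₁ _ hfy] at h2
  have h3 : Ideal.mapCotangent (RingHom.ker σ₂) (RingHom.ker σ₁) (IsScalarTower.toAlgHom A B₂ B₁)
      hle ((RingHom.ker σ₂).toCotangent ⟨y, hy⟩) = 0 := by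
    rw [Ideal.mapCotangent_toCotangent]
    exact h2
  have h4 := hinj (h3.trans (map_zero _).symm)
  rw [Ideal.toCotangent_eq_zero] at h4
  -- `1 ⊗ D y ∈ b₁ • ⊤`
  have h5 : (1 : B₁) ⊗ₜ[B₂] D A B₂ y ∈
      RingHom.ker σ₁ • (⊤ : Submodule B₁ (B₁ ⊗[B₂] Ω[B₂⁄A])) := by
    have h6 := D_mem_smul_top_of_mem_sq (R := A) _ _ h4
    refine Submodule.smul_induction_on h6 ?_ ?_
    · intro r hr m _
      rw [← TensorProduct.smul_tmul, Algebra.smul_def, mul_one,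
        show algebraMap B₂ B₁ r ⊗ₜ[B₂] m = algebraMap B₂ B₁ r • ((1 : B₁) ⊗ₜ[B₂] m) by
          rw [TensorProduct.smul_tmul', smul_eq_mul, mul_one]]
      exact Submodule.smul_mem_smul (hle hr) Submodule.mem_top
    · intro a b ha hb
      rw [TensorProduct.tmul_add]; exact add_mem ha hb
  have := add_mem hxy h5
  rwa [sub_add_cancel] at this

end Groth.Agent.Helper95.EtaleAlongSection
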