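import Mathlib
import Groth.Prelude.Def_FlatCA

/-!
helper95: fibre rings `p.Fiber D` when `pD` is prime: domain or trivial; modules killed by an element
outside `pD` have fibre support of dimension smaller than the fibre.
-/

set_option autoImplicit false
set_option linter.style.haveILetI false
set_option linter.unusedSectionVars false

namespace Groth.Agent.Lib.Helper95.FibDimA

open TensorProduct

universe u

theorem lt_of_add_one_le {a : WithBot ℕ∞} {n : ℕ} (h : a + 1 ≤ (n : WithBot ℕ∞)) :
    a < (n : WithBot ℕ∞) := by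
  by_contra hlt
  rw [not_lt] at hlt
  have h1 : ((n : WithBot ℕ∞)) + 1 ≤ n := (add_le_add_left hlt 1).trans h
  have h2 : ((n + 1 : ℕ) : WithBot ℕ∞) ≤ ((n : ℕ) : WithBot ℕ∞) := by
    push_cast
    exact h1
  have h3 : n + 1 ≤ n := by exact_mod_cast h2
  omega

theorem krullDim_lt_of_subset_zeroLocus {T : Type*} [CommRing T] (t : T)
    (ht : t ∈ nonZeroDivisors T) (n : ℕ) (hn : ringKrullDim T ≤ n) (X : Set (PrimeSpectrum T))
    (hX : X ⊆ PrimeSpectrum.zeroLocus {t}) : Order.krullDim X < (n : WithBot ℕ∞) := by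
  apply lt_of_add_one_le
  have h1 : Order.krullDim X ≤ ringKrullDim (T ⧸ Ideal.span {t}) := by
    rw [ringKrullDim_quotient]
    refine Order.krullDim_le_of_strictMono
      (fun x => (⟨x.1, ?_⟩ : PrimeSpectrum.zeroLocus (R := T) (Ideal.span {t}))) (fun _ _ h => h)
    rw [PrimeSpectrum.zeroLocus_span]
    exact hX x.2
  calc Order.krullDim X + 1 ≤ ringKrullDim (T ⧸ Ideal.span {t}) + 1 := add_le_add_left h1 1
    _ ≤ ringKrullDim T := ringKrullDim_quotient_succ_le_of_nonZeroDivisor ht
    _ ≤ n := hn

section Fib0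

attribute [local instance] Algebra.TensorProduct.rightAlgebra

variable {R D : Type u} [CommRing R] [CommRing D] [Algebra R D] (p : Ideal R) [p.IsPrime]

theorem algebraMap_smul_tensor_eq_zero (Q : Type u) [AddCommGroup Q] [Module D Q] (s : D)
    (hsQ : ∀ x : Q, s • x = 0) (m : (p.Fiber D) ⊗[D] Q) :
    (algebraMap D (p.Fiber D) s) • m = 0 := by
  induction m using TensorProduct.induction_on with
  | zero => rw [smul_zero]
  | add x y hx hy => rw [smul_add, hx, hy, add_zero]
  | tmul t x =>
    rw [TensorProduct.smul_tmul', smul_eq_mul, ← Algebra.smul_def, TensorProduct.smul_tmul, hsQ,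
      TensorProduct.tmul_zero]

theorem support_fiberMod_subset (Q : Type u) [AddCommGroup Q] [Module D Q] [Module R Q]
    [IsScalarTower R D Q] (s : D) (hsQ : ∀ x : Q, s • x = 0) :
    Module.support (p.Fiber D) (FlatCA.fiberMod p D Q) ⊆
      PrimeSpectrum.zeroLocus {algebraMap D (p.Fiber D) s} := by
  intro P hP
  rw [Module.mem_support_iff_exists_annihilator] at hP
  obtain ⟨m, hm⟩ := hP
  rw [PrimeSpectrum.mem_zeroLocus, Set.singleton_subset_iff]
  apply hm
  rw [Submodule.mem_annihilator_span_singleton]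
  exact algebraMap_smul_tensor_eq_zero p Q s hsQ m

end Fib0

section Fib

attribute [local instance] Algebra.TensorProduct.rightAlgebra

variable {R D : Type u} [CommRing R] [CommRing D] [Algebra R D] (p : Ideal R) [p.IsPrime]
  [hP : (p.map (algebraMap R D)).IsPrime]

theorem fiber_cases (s : D) (hs : s ∉ p.map (algebraMap R D)) :
    Subsingleton (p.Fiber D) ∨ (algebraMap D (p.Fiber D) s) ∈ nonZeroDivisors (p.Fiber D) := by
  let Dp := Localization (Algebra.algebraMapSubmonoid D p.primeCompl)
  let e : p.Fiber D ≃ₐ[D] Dp ⧸ (p.map (algebraMap R D)).map (algebraMap D Dp) :=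
    Ideal.Fiber.algEquivAux₁ p
  by_cases hd : Disjoint (Algebra.algebraMapSubmonoid D p.primeCompl : Set D)
      (p.map (algebraMap R D) : Set D)
  · right
    haveI hpr : ((p.map (algebraMap R D)).map (algebraMap D Dp)).IsPrime :=
      IsLocalization.isPrime_of_isPrime_disjoint (Algebra.algebraMapSubmonoid D p.primeCompl) Dp
        _ hP hd
    haveI : IsDomain (Dp ⧸ (p.map (algebraMap R D)).map (algebraMap D Dp)) :=
      Ideal.Quotient.isDomain _
    haveI : IsDomain (p.Fiber D) := e.toRingEquiv.toMulEquiv.isDomain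
    apply mem_nonZeroDivisors_of_ne_zero
    intro h0
    have h1 : e (algebraMap D (p.Fiber D) s) = 0 := by rw [h0, map_zero]
    rw [e.commutes, IsScalarTower.algebraMap_apply D Dp, Ideal.Quotient.algebraMap_eq,
      Ideal.Quotient.eq_zero_iff_mem] at h1
    have h2 := IsLocalization.under_map_of_isPrime_disjoint
      (Algebra.algebraMapSubmonoid D p.primeCompl) Dp hP hd
    apply hs
    rw [← h2]
    exact h1
  · left
    have htop : (p.map (algebraMap R D)).map (algebraMap D Dp) = ⊤ := by
      by_contra hne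
      exact hd ((IsLocalization.map_algebraMap_ne_top_iff_disjoint
        (Algebra.algebraMapSubmonoid D p.primeCompl) Dp _).mp hne)
    haveI : Subsingleton (Dp ⧸ (p.map (algebraMap R D)).map (algebraMap D Dp)) :=
      Ideal.Quotient.subsingleton_iff.mpr htop
    exact e.toEquiv.subsingleton

theorem fiber_nzd (s : D) (hs : s ∉ p.map (algebraMap R D)) :
    (algebraMap D (p.Fiber D) s) ∈ nonZeroDivisors (p.Fiber D) := by
  rcases fiber_cases p s hs with h | h
  · haveI := h
    rw [mem_nonZeroDivisors_iff]
    constructor <;> intro z _ <;> exact Subsingleton.elim _ _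
  · exact h

theorem supportDim_fiberMod_lt (Q : Type u) [AddCommGroup Q] [Module D Q] [Module R Q]
    [IsScalarTower R D Q] (s : D) (hs : s ∉ p.map (algebraMap R D)) (hsQ : ∀ x : Q, s • x = 0)
    (n : ℕ) (hn : ringKrullDim (p.Fiber D) ≤ n) :
    Module.supportDim (p.Fiber D) (FlatCA.fiberMod p D Q) < (n : WithBot ℕ∞) := by
  rcases fiber_cases p s hs with h | h
  · haveI := h
    haveI : Subsingleton (FlatCA.fiberMod p D Q) := Module.subsingleton (p.Fiber D) _
    rw [Module.supportDim_eq_bot_of_subsingleton]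
    exact WithBot.bot_lt_coe _
  · exact krullDim_lt_of_subset_zeroLocus _ h n hn _ (support_fiberMod_subset p Q s hsQ)

end Fib

section Ann

variable {D : Type*} [CommRing D]

theorem exists_notMem_forall_smul_eq_zero (P : Ideal D) [hP : P.IsPrime] (Q : Type*)
    [AddCommGroup Q] [Module D Q] [Module.Finite D Q]
    (h : Subsingleton (P.ResidueField ⊗[D] Q)) : ∃ s : D, s ∉ P ∧ ∀ x : Q, s • x = 0 := by
  have h1 : (⟨P, hP⟩ : PrimeSpectrum D) ∉ Module.support D Q := by
    rw [Module.mem_support_iff_nontrivial_residueField_tensorProduct]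
    exact not_nontrivial _
  rw [Module.support_eq_zeroLocus, PrimeSpectrum.mem_zeroLocus, Set.not_subset] at h1
  obtain ⟨s, hsann, hsP⟩ := h1
  exact ⟨s, hsP, fun x => Module.mem_annihilator.mp hsann x⟩

theorem subsingleton_tensor_quot (K : Type*) [CommRing K] [Algebra D K] {F G : Type*}
    [AddCommGroup F] [Module D F] [AddCommGroup G] [Module D G] (α : F →ₗ[D] G)
    (hsurj : Function.Surjective (α.baseChange K)) :
    Subsingleton (K ⊗[D] (G ⧸ LinearMap.range α)) := by
  have hq : Function.Surjective ((LinearMap.range α).mkQ.baseChange K) :=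
    LinearMap.lTensor_surjective K (Submodule.mkQ_surjective _)
  refine ⟨fun a b => ?_⟩
  have h0 : ∀ y : K ⊗[D] (G ⧸ LinearMap.range α), y = 0 := by
    intro y
    obtain ⟨x, rfl⟩ := hq y
    obtain ⟨w, rfl⟩ := hsurj x
    rw [← LinearMap.comp_apply, ← LinearMap.baseChange_comp, LinearMap.range_mkQ_comp,
      LinearMap.baseChange_zero, LinearMap.zero_apply]
  rw [h0 a, h0 b]

end Ann

theorem exists_alpha {D : Type u} [CommRing D] (K : Type u) [Field K] [Algebra D K] (G : Type u)
    [AddCommGroup G] [Module D G] [Module.Finite D G] :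
    ∃ (r : ℕ) (α : (Fin r → D) →ₗ[D] G), Function.Bijective (α.baseChange K) ∧
      (0 < r ∨ Subsingleton (K ⊗[D] G)) := by
  classical
  have hs : Submodule.span K (Set.range (fun g : G => (1 : K) ⊗ₜ[D] g)) = ⊤ := by
    rw [eq_top_iff]
    rintro x -
    induction x using TensorProduct.induction_on with
    | zero => exact Submodule.zero_mem _
    | add x y hx hy => exact Submodule.add_mem _ hx hy
    | tmul k g =>
      have : k ⊗ₜ[D] g = k • ((1 : K) ⊗ₜ[D] g) := by
        rw [TensorProduct.smul_tmul', smul_eq_mul, mul_one]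
      rw [this]
      exact Submodule.smul_mem _ _ (Submodule.subset_span ⟨g, rfl⟩)
  obtain ⟨b, hbs, hbspan, hbli⟩ := exists_linearIndependent K
    (Set.range (fun g : G => (1 : K) ⊗ₜ[D] g))
  have hbtop : ⊤ ≤ Submodule.span K (Set.range (Subtype.val : b → K ⊗[D] G)) := by
    rw [Subtype.range_coe, hbspan, hs]
  let B : Module.Basis b K (K ⊗[D] G) := Module.Basis.mk hbli hbtop
  haveI : Finite b := (LinearIndependent.setFinite hbli).to_subtype
  haveI : Fintype b := Fintype.ofFinite b
  let B' : Module.Basis (Fin (Fintype.card b)) K (K ⊗[D] G) := B.reindex (Fintype.equivFin b)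
  have hB' : ∀ i, ∃ g : G, (1 : K) ⊗ₜ[D] g = B' i := by
    intro i
    have h1 : B' i = ((Fintype.equivFin b).symm i : K ⊗[D] G) := by
      simp [B', B]
    obtain ⟨g, hg⟩ := hbs ((Fintype.equivFin b).symm i).2
    exact ⟨g, hg.trans h1.symm⟩
  choose g hg using hB'
  let α : (Fin (Fintype.card b) → D) →ₗ[D] G := (Pi.basisFun D (Fin (Fintype.card b))).constr D g
  refine ⟨Fintype.card b, α, ?_, ?_⟩
  · let BC : Module.Basis (Fin (Fintype.card b)) K (K ⊗[D] (Fin (Fintype.card b) → D)) :=
      (Pi.basisFun D (Fin (Fintype.card b))).baseChange K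
    have heq : α.baseChange K = (BC.equiv B' (Equiv.refl _)).toLinearMap := by
      apply BC.ext
      intro i
      have hBC : BC i = (1 : K) ⊗ₜ[D] (Pi.single i (1 : D) : Fin (Fintype.card b) → D) := by
        simp [BC, Module.Basis.baseChange_apply]
      have hα : α (Pi.single i (1 : D)) = g i := by
        have := (Pi.basisFun D (Fin (Fintype.card b))).constr_basis D g i
        simpa [α] using this
      rw [LinearEquiv.coe_coe, Module.Basis.equiv_apply, Equiv.refl_apply, hBC,
        LinearMap.baseChange_tmul, hα, hg i]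
    rw [heq]
    exact (BC.equiv B' (Equiv.refl _)).bijective
  · rcases Nat.eq_zero_or_pos (Fintype.card b) with h0 | hpos
    · right
      haveI : IsEmpty (Fin (Fintype.card b)) := by rw [h0]; infer_instance
      exact B'.repr.toEquiv.subsingleton
    · left; exact hpos

end Groth.Agent.Lib.Helper95.FibDimA
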