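import Groth.Agent.Lib.Helper73.SmoothFibreDim
import Groth.Prelude.Def_FlatCA

/-!
helper95: the fibre ring of a smooth algebra of relative dimension `n` has Krull dimension at most
`n` (via helper73's local fibre dimension of smooth morphisms).
-/

set_option autoImplicit false
set_option linter.style.haveILetI false
set_option linter.unusedSectionVars false

namespace Groth.Agent.Lib.Helper95.FibDimB

open TensorProduct AlgebraicGeometry

universe u

theorem transport {R D : Type u} [CommRing R] [CommRing D] [Algebra R D] (p p' : Ideal R)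
    [p.IsPrime] [p'.IsPrime] (h : p' = p) (q : Ideal D) (n : ℕ)
    (H : ∀ Q' : PrimeSpectrum (p'.Fiber D),
      Q'.asIdeal.comap (Algebra.TensorProduct.includeRight.toRingHom) = q →
        FlatMor.localDim (PrimeSpectrum (p'.Fiber D)) Q' ≤ (n : WithBot ℕ∞)) :
    ∀ Q : PrimeSpectrum (p.Fiber D),
      Q.asIdeal.comap (Algebra.TensorProduct.includeRight.toRingHom) = q →
        FlatMor.localDim (PrimeSpectrum (p.Fiber D)) Q ≤ (n : WithBot ℕ∞) := by
  subst h
  exact H

theorem ringKrullDim_fiber_le {R D : Type u} [CommRing R] [CommRing D] [Algebra R D] (n : ℕ)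
    (h : FlatCA.SmoothRelDim n R D) (p : Ideal R) [p.IsPrime] :
    ringKrullDim (p.Fiber D) ≤ (n : WithBot ℕ∞) := by
  haveI : SmoothOfRelativeDimension n (Spec.map (CommRingCat.ofHom (algebraMap R D))) := h
  rw [← PrimeSpectrum.topologicalKrullDim_eq_ringKrullDim,
    Groth.Agent.Lib.Helper29.topologicalKrullDim_eq_iSup_localDim]
  apply iSup_le
  intro Q
  let q : PrimeSpectrum D := ⟨Q.asIdeal.comap (Algebra.TensorProduct.includeRight (R := R)
    (A := p.ResidueField) (B := D)).toRingHom, Ideal.comap_isPrime _ _⟩
  have hq : q.asIdeal.under R = p := by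
    show (Q.asIdeal.comap (Algebra.TensorProduct.includeRight (R := R)
      (A := p.ResidueField) (B := D)).toRingHom).comap (algebraMap R D) = p
    rw [Ideal.comap_comap]
    have h1 : ((Algebra.TensorProduct.includeRight (R := R) (A := p.ResidueField)
        (B := D)).toRingHom).comp (algebraMap R D) = algebraMap R (p.Fiber D) := by
      ext r
      exact (Algebra.TensorProduct.includeRight (R := R) (A := p.ResidueField) (B := D)).commutes r
    rw [h1]
    exact (Ideal.over_def Q.asIdeal p).symm
  have h1 := (Groth.Agent.Lib.Helper73.FibreDimRing.forall_fiber_localDim_le_iff R D q n).mpr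
    (le_of_eq (Groth.Agent.Lib.Helper73.SmoothFibreDim.fibreDimAt_eq_of_smoothOfRelativeDimension n
      (Spec.map (CommRingCat.ofHom (algebraMap R D))) q))
  exact transport p (q.asIdeal.under R) hq q.asIdeal n h1 Q rfl

end Groth.Agent.Lib.Helper95.FibDimB
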