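import Mathlib
import Groth.Prelude.Def_FlatCA
import Groth.Agent.Lib.Helper95.FibDimA

/-!
helper95: comparison of the dimension of the fibre support of a module over `S` with a zero locus
in the fibre of `D`, along `S → C ← D` (surjective, integral).
-/

set_option autoImplicit false
set_option linter.style.haveILetI false
set_option linter.unusedSectionVars false

namespace Groth.Agent.Lib.Helper95.FibDimC

open TensorProduct Groth.Agent.Lib.Helper95.FibDimA

universe u

section Compare

attribute [local instance] Algebra.TensorProduct.rightAlgebra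

variable {R S C D : Type u} [CommRing R] [CommRing S] [CommRing C] [CommRing D] [Algebra R S]
  [Algebra S C] [Algebra R C] [IsScalarTower R S C] [Algebra R D] [Algebra D C]
  [IsScalarTower R D C] (p : Ideal R) [p.IsPrime]
  (N : Type u) [AddCommGroup N] [Module S N] [Module R N] [IsScalarTower R S N]

theorem symm_asIdeal (X : Type u) [CommRing X] [Algebra R X] (P : PrimeSpectrum (p.Fiber X)) :
    ((PrimeSpectrum.preimageOrderIsoFiber R X ⟨p, inferInstance⟩).symm P).1.asIdeal =
      P.asIdeal.comap (Algebra.TensorProduct.includeRight (R := R) (A := p.ResidueField)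
        (B := X)).toRingHom := rfl

theorem supportDim_fiberMod_le_krullDim_zeroLocus
    (hsurj : Function.Surjective (algebraMap S C)) [Algebra.IsIntegral D C]
    (σ : S) (s : D) (hσs : algebraMap S C σ = algebraMap D C s)
    (hker : ∀ a : S, algebraMap S C a = 0 → ∀ x : N, a • x = 0) (hσN : ∀ x : N, σ • x = 0) :
    Module.supportDim (p.Fiber S) (FlatCA.fiberMod p S N) ≤
      Order.krullDim (PrimeSpectrum.zeroLocus {algebraMap D (p.Fiber D) s} :
        Set (PrimeSpectrum (p.Fiber D))) := by
  let iS : S →+* p.Fiber S := (Algebra.TensorProduct.includeRight (R := R) (A := p.ResidueField)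
        (B := S)).toRingHom
  let iD : D →+* p.Fiber D := (Algebra.TensorProduct.includeRight (R := R) (A := p.ResidueField)
        (B := D)).toRingHom
  let pS : PrimeSpectrum R := ⟨p, inferInstance⟩
  -- elements of S killing N lie in the contraction of every support prime
  have hmem : ∀ P ∈ Module.support (p.Fiber S) (FlatCA.fiberMod p S N), ∀ a : S,
      (∀ x : N, a • x = 0) → a ∈ P.asIdeal.comap iS := by
    intro P hP a ha
    have := support_fiberMod_subset p N a ha hP
    rw [PrimeSpectrum.mem_zeroLocus, Set.singleton_subset_iff] at this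
    exact this
  let qOf : PrimeSpectrum (p.Fiber S) → Ideal S := fun P => P.asIdeal.comap iS
  let cOf : PrimeSpectrum (p.Fiber S) → Ideal C := fun P => (qOf P).map (algebraMap S C)
  let dOf : PrimeSpectrum (p.Fiber S) → Ideal D := fun P => (cOf P).comap (algebraMap D C)
  have hkerle : ∀ P ∈ Module.support (p.Fiber S) (FlatCA.fiberMod p S N),
      RingHom.ker (algebraMap S C) ≤ qOf P := by
    intro P hP a ha
    exact hmem P hP a (hker a ha)
  have hcprime : ∀ P ∈ Module.support (p.Fiber S) (FlatCA.fiberMod p S N), (cOf P).IsPrime := by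
    intro P hP
    haveI : (qOf P).IsPrime := Ideal.comap_isPrime iS P.asIdeal
    exact Ideal.map_isPrime_of_surjective hsurj (hkerle P hP)
  have hccomap : ∀ P ∈ Module.support (p.Fiber S) (FlatCA.fiberMod p S N),
      (cOf P).comap (algebraMap S C) = qOf P := by
    intro P hP
    show ((qOf P).map (algebraMap S C)).comap (algebraMap S C) = qOf P
    rw [Ideal.comap_map_of_surjective' _ hsurj, sup_eq_left]
    exact hkerle P hP
  have hdprime : ∀ P ∈ Module.support (p.Fiber S) (FlatCA.fiberMod p S N), (dOf P).IsPrime := by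
    intro P hP
    haveI := hcprime P hP
    exact Ideal.comap_isPrime _ _
  have hdover : ∀ P ∈ Module.support (p.Fiber S) (FlatCA.fiberMod p S N),
      (dOf P).comap (algebraMap R D) = p := by
    intro P hP
    show ((cOf P).comap (algebraMap D C)).comap (algebraMap R D) = p
    rw [Ideal.comap_comap, ← IsScalarTower.algebraMap_eq, IsScalarTower.algebraMap_eq R S C,
      ← Ideal.comap_comap, hccomap P hP]
    show (P.asIdeal.comap iS).comap (algebraMap R S) = p
    rw [Ideal.comap_comap]
    have h1 : iS.comp (algebraMap R S) = algebraMap R (p.Fiber S) := by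
      ext r
      exact (Algebra.TensorProduct.includeRight (R := R) (A := p.ResidueField) (B := S)).commutes r
    rw [h1]
    exact (Ideal.over_def P.asIdeal p).symm
  have hsd : ∀ P ∈ Module.support (p.Fiber S) (FlatCA.fiberMod p S N), s ∈ dOf P := by
    intro P hP
    show algebraMap D C s ∈ cOf P
    rw [← hσs]
    exact Ideal.mem_map_of_mem _ (hmem P hP σ hσN)
  have hdlt : ∀ P ∈ Module.support (p.Fiber S) (FlatCA.fiberMod p S N),
      ∀ P' ∈ Module.support (p.Fiber S) (FlatCA.fiberMod p S N), P < P' → dOf P < dOf P' := by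
    intro P hP P' hP' hlt
    have hqle : qOf P ≤ qOf P' := Ideal.comap_mono hlt.le
    have hqne : qOf P ≠ qOf P' := by
      intro heq
      have h1 : (PrimeSpectrum.preimageOrderIsoFiber R S pS).symm P =
          (PrimeSpectrum.preimageOrderIsoFiber R S pS).symm P' := by
        apply Subtype.ext
        apply PrimeSpectrum.ext
        exact heq
      exact hlt.ne ((PrimeSpectrum.preimageOrderIsoFiber R S pS).symm.injective h1)
    have hcle : cOf P ≤ cOf P' := Ideal.map_mono hqle
    have hcne : cOf P ≠ cOf P' := by
      intro heq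
      apply hqne
      rw [← hccomap P hP, ← hccomap P' hP', heq]
    obtain ⟨x, hx', hx⟩ := SetLike.exists_of_lt (lt_of_le_of_ne hcle hcne)
    haveI := hcprime P hP
    exact Ideal.comap_lt_comap_of_integral_mem_sdiff hcle ⟨hx', hx⟩ (Algebra.IsIntegral.isIntegral x)
  unfold Module.supportDim
  refine Order.krullDim_le_of_strictMono (fun P =>
    (⟨PrimeSpectrum.preimageOrderIsoFiber R D pS
      ⟨⟨dOf P.1, hdprime P.1 P.2⟩, PrimeSpectrum.ext (hdover P.1 P.2)⟩, ?_⟩ :
      (PrimeSpectrum.zeroLocus {algebraMap D (p.Fiber D) s} : Set (PrimeSpectrum (p.Fiber D)))))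
    ?_
  · rw [PrimeSpectrum.mem_zeroLocus, Set.singleton_subset_iff]
    have h1 := symm_asIdeal p D (PrimeSpectrum.preimageOrderIsoFiber R D pS
      ⟨⟨dOf P.1, hdprime P.1 P.2⟩, PrimeSpectrum.ext (hdover P.1 P.2)⟩)
    rw [OrderIso.symm_apply_apply] at h1
    have h2 : s ∈ (PrimeSpectrum.preimageOrderIsoFiber R D pS
      ⟨⟨dOf P.1, hdprime P.1 P.2⟩, PrimeSpectrum.ext (hdover P.1 P.2)⟩).asIdeal.comap iD := by
      rw [← h1]
      exact hsd P.1 P.2
    exact h2
  · intro P P' hlt
    have h1 := hdlt P.1 P.2 P'.1 P'.2 hlt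
    show PrimeSpectrum.preimageOrderIsoFiber R D pS _ < PrimeSpectrum.preimageOrderIsoFiber R D pS _
    rw [OrderIso.lt_iff_lt]
    exact h1

end Compare

end Groth.Agent.Lib.Helper95.FibDimC
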