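import Mathlib
import Groth.Prelude.Def_FlatCA
import Groth.Agent.Lib.Helper95.PureClosedImm

/-!
Helper library for S1278: flatness above the closed points is insensitive to pushing forward along
a finite local homomorphism.
-/

set_option autoImplicit false
universe u

namespace Groth.Agent.Lib.Helper95.FlatFiniteLocal

open TensorProduct

section MixedFlat

variable {R A : Type*} [CommRing R] [CommRing A] [Algebra R A]
  {X Y : Type*} [AddCommGroup X] [Module R X] [Module A X] [IsScalarTower R A X]
  [AddCommGroup Y] [Module R Y] [Module A Y] [IsScalarTower R A Y]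

/-- A localization (over an `R`-algebra `A`) of an `R`-flat module is `R`-flat. -/
theorem flat_of_isLocalizedModule (S : Submonoid A) (g : X →ₗ[A] Y) [IsLocalizedModule S g]
    [Module.Flat R X] : Module.Flat R Y := by
  have H : Module.Flat R X := inferInstance
  rw [Module.Flat.iff_lTensor_injectiveₛ] at H ⊢
  intro P _ _ N
  have h1 := H N
  rw [← AlgebraTensorModule.coe_lTensor (A := A)] at h1 ⊢
  rw [← IsLocalizedModule.map_lTensor A S N.subtype g]
  exact IsLocalizedModule.map_injective S _ _ _ h1

end MixedFlat

section TwoStep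

variable {R : Type*} [CommRing R] {M X Y : Type*} [AddCommGroup M] [Module R M]
  [AddCommGroup X] [Module R X] [AddCommGroup Y] [Module R Y]

/-- Localizing at `T` and then at `S ⊇ T` is localizing at `S`. -/
theorem isLocalizedModule_comp (T S : Submonoid R) (hTS : T ≤ S) (f : M →ₗ[R] X)
    [IsLocalizedModule T f] (g : X →ₗ[R] Y) [IsLocalizedModule S g] :
    IsLocalizedModule S (g ∘ₗ f) where
  map_units s := IsLocalizedModule.map_units g s
  surj y := by
    obtain ⟨⟨x, s⟩, hs⟩ := IsLocalizedModule.surj S g y
    obtain ⟨⟨m, t⟩, ht⟩ := IsLocalizedModule.surj T f x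
    refine ⟨⟨m, ⟨t.1 * s.1, S.mul_mem (hTS t.2) s.2⟩⟩, ?_⟩
    simp only [Submonoid.smul_def, LinearMap.comp_apply] at hs ht ⊢
    rw [← ht, map_smul, ← hs, mul_smul]
  exists_of_eq {m₁ m₂} h := by
    simp only [LinearMap.comp_apply] at h
    obtain ⟨s, hs⟩ := IsLocalizedModule.exists_of_eq (S := S) (f := g) h
    simp only [Submonoid.smul_def, ← map_smul] at hs
    obtain ⟨t, ht⟩ := IsLocalizedModule.exists_of_eq (S := T) (f := f) hs
    refine ⟨⟨t.1 * s.1, S.mul_mem (hTS t.2) s.2⟩, ?_⟩
    simp only [Submonoid.smul_def, mul_smul] at ht ⊢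
    exact ht

end TwoStep

section Core

variable {A' B' C' : Type u} [CommRing A'] [CommRing B'] [CommRing C'] [Algebra A' B']
  [Algebra A' C'] [Algebra B' C'] [IsScalarTower A' B' C']
  (N' : Type u) [AddCommGroup N'] [Module A' N'] [Module B' N'] [Module C' N']
  [IsScalarTower A' B' N'] [IsScalarTower A' C' N'] [IsScalarTower B' C' N']

/-- The `B'`-localization at `q` agrees with the `C'`-localization at the image of `q.primeCompl`. -/
noncomputable def locEquiv (q : Ideal B') [q.IsPrime] :
    LocalizedModule q.primeCompl N' ≃ₗ[A']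
      LocalizedModule (Algebra.algebraMapSubmonoid C' q.primeCompl) N' :=
  haveI : IsLocalizedModule q.primeCompl ((LocalizedModule.mkLinearMap
      (Algebra.algebraMapSubmonoid C' q.primeCompl) N').restrictScalars B') :=
    IsLocalizedModule.restrictScalars q.primeCompl _
  (IsLocalizedModule.linearEquiv q.primeCompl (LocalizedModule.mkLinearMap q.primeCompl N')
    ((LocalizedModule.mkLinearMap
      (Algebra.algebraMapSubmonoid C' q.primeCompl) N').restrictScalars B')).restrictScalars A'

theorem flat_atPrime_of_flat_comap (r : Ideal C') [r.IsPrime]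
    (h : Module.Flat A' (LocalizedModule (r.comap (algebraMap B' C')).primeCompl N')) :
    Module.Flat A' (LocalizedModule r.primeCompl N') := by
  set q := r.comap (algebraMap B' C') with hq
  set T := Algebra.algebraMapSubmonoid C' q.primeCompl with hT
  have hle : T ≤ r.primeCompl := by
    rintro x ⟨b, hb, rfl⟩
    exact hb
  haveI hX : Module.Flat A' (LocalizedModule T N') :=
    Module.Flat.of_linearEquiv (locEquiv N' q).symm
  haveI hY : Module.Flat A' (LocalizedModule r.primeCompl (LocalizedModule T N')) :=
    flat_of_isLocalizedModule (R := A') (A := C') r.primeCompl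
      (LocalizedModule.mkLinearMap r.primeCompl (LocalizedModule T N'))
  haveI := isLocalizedModule_comp T r.primeCompl hle (LocalizedModule.mkLinearMap T N')
    (LocalizedModule.mkLinearMap r.primeCompl (LocalizedModule T N'))
  exact Module.Flat.of_linearEquiv
    ((IsLocalizedModule.linearEquiv r.primeCompl (LocalizedModule.mkLinearMap r.primeCompl N')
      ((LocalizedModule.mkLinearMap r.primeCompl (LocalizedModule T N')) ∘ₗ
        (LocalizedModule.mkLinearMap T N'))).restrictScalars A')

end Core

section Core2

variable {A' B' C' : Type u} [CommRing A'] [CommRing B'] [CommRing C'] [Algebra A' B']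
  [Algebra A' C'] [Algebra B' C'] [IsScalarTower A' B' C']
  (N' : Type u) [AddCommGroup N'] [Module A' N'] [Module B' N'] [Module C' N']
  [IsScalarTower A' B' N'] [IsScalarTower A' C' N'] [IsScalarTower B' C' N']

theorem flat_atPrime_of_forall_over [Algebra.IsIntegral B' C'] (q : Ideal B') [q.IsPrime]
    (h : ∀ (r : Ideal C') [r.IsPrime], r.comap (algebraMap B' C') = q →
      Module.Flat A' (LocalizedModule r.primeCompl N')) :
    Module.Flat A' (LocalizedModule q.primeCompl N') := by
  set T := Algebra.algebraMapSubmonoid C' q.primeCompl with hT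
  suffices hX : Module.Flat A' (LocalizedModule T N') from
    Module.Flat.of_linearEquiv (locEquiv (C' := C') N' q)
  refine Module.flat_of_isLocalized_maximal (Localization T) (LocalizedModule T N')
    (fun 𝔫 _ => LocalizedModule 𝔫.primeCompl (LocalizedModule T N'))
    (fun 𝔫 _ => LocalizedModule.mkLinearMap 𝔫.primeCompl (LocalizedModule T N')) ?_
  intro 𝔫 h𝔫
  haveI h𝔫p : 𝔫.IsPrime := h𝔫.isPrime
  set r := 𝔫.comap (algebraMap C' (Localization T)) with hr
  haveI hrp : r.IsPrime := Ideal.comap_isPrime _ _
  -- `T` is disjoint from `r`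
  have hTr : ∀ x ∈ T, x ∉ r := by
    intro x hx hxr
    have hu : IsUnit (algebraMap C' (Localization T) x) := IsLocalization.map_units _ ⟨x, hx⟩
    exact h𝔫p.ne_top (Ideal.eq_top_of_isUnit_mem _ hxr hu)
  have hle : T ≤ r.primeCompl := fun x hx => hTr x hx
  -- `r` lies over `q`
  have hrq : r.comap (algebraMap B' C') = q := by
    have h1 : r.comap (algebraMap B' C') ≤ q := by
      intro b hb
      by_contra hbq
      exact hTr _ ⟨b, hbq, rfl⟩ hb
    obtain ⟨r', hr'ge, hr'p, hr'q⟩ :=
      Ideal.exists_ideal_over_prime_of_isIntegral_of_isPrime q r h1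
    have hdisj : Disjoint (T : Set C') (r' : Set C') := by
      rw [Set.disjoint_left]
      rintro x ⟨b, hb, rfl⟩ hx
      apply hb
      rw [← hr'q]
      exact hx
    have hmapp : (r'.map (algebraMap C' (Localization T))).IsPrime :=
      IsLocalization.isPrime_of_isPrime_disjoint T _ r' hr'p hdisj
    have h𝔫le : 𝔫 ≤ r'.map (algebraMap C' (Localization T)) := by
      rw [← IsLocalization.map_under T (Localization T) 𝔫]
      exact Ideal.map_mono hr'ge
    have h𝔫eq : 𝔫 = r'.map (algebraMap C' (Localization T)) :=
      h𝔫.eq_of_le hmapp.ne_top h𝔫le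
    have : r = r' := by
      rw [hr, h𝔫eq]
      exact IsLocalization.under_map_of_isPrime_disjoint T _ hr'p hdisj
    rw [this]
    exact hr'q
  have hflat : Module.Flat A' (LocalizedModule r.primeCompl N') := h r hrq
  -- the intermediate localization
  set Sg := Algebra.algebraMapSubmonoid (Localization T) r.primeCompl with hSg
  have hSgle : Sg ≤ 𝔫.primeCompl := by
    rintro x ⟨c, hc, rfl⟩
    exact hc
  have hSg : ∀ u : 𝔫.primeCompl, ∃ m : Localization T, m * u ∈ Sg := by
    intro u
    obtain ⟨c, t, hct⟩ := IsLocalization.exists_mk'_eq T (u : Localization T)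
    refine ⟨algebraMap C' (Localization T) t, c, ?_, ?_⟩
    · intro hc
      have hc' : algebraMap C' (Localization T) c ∈ 𝔫 := hc
      rw [← IsLocalization.mk'_spec' (Localization T) c t, hct] at hc'
      rcases h𝔫p.mem_or_mem hc' with h1 | h1
      · exact hTr _ t.2 h1
      · exact u.2 h1
    · rw [← hct, IsLocalization.mk'_spec']
  haveI h1 : IsLocalizedModule 𝔫.primeCompl
      (LocalizedModule.mkLinearMap Sg (LocalizedModule T N')) :=
    IsLocalizedModule.of_exists_mul_mem Sg 𝔫.primeCompl hSgle hSg _
  haveI h2 : IsLocalizedModule r.primeCompl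
      ((LocalizedModule.mkLinearMap Sg (LocalizedModule T N')).restrictScalars C') :=
    IsLocalizedModule.restrictScalars r.primeCompl _
  haveI h3 := isLocalizedModule_comp T r.primeCompl hle (LocalizedModule.mkLinearMap T N')
    ((LocalizedModule.mkLinearMap Sg (LocalizedModule T N')).restrictScalars C')
  haveI h4 : Module.Flat A' (LocalizedModule Sg (LocalizedModule T N')) :=
    Module.Flat.of_linearEquiv
      ((IsLocalizedModule.linearEquiv r.primeCompl (LocalizedModule.mkLinearMap r.primeCompl N')
        (((LocalizedModule.mkLinearMap Sg (LocalizedModule T N')).restrictScalars C') ∘ₗ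
          (LocalizedModule.mkLinearMap T N'))).symm.restrictScalars A')
  exact Module.Flat.of_linearEquiv
    ((IsLocalizedModule.linearEquiv 𝔫.primeCompl
      (LocalizedModule.mkLinearMap Sg (LocalizedModule T N'))
      (LocalizedModule.mkLinearMap 𝔫.primeCompl (LocalizedModule T N'))).symm.restrictScalars A')

end Core2

section CoreIff

variable {A' B' C' : Type u} [CommRing A'] [CommRing B'] [CommRing C'] [Algebra A' B']
  [Algebra A' C'] [Algebra B' C'] [IsScalarTower A' B' C']
  (N' : Type u) [AddCommGroup N'] [Module A' N'] [Module B' N'] [Module C' N']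
  [IsScalarTower A' B' N'] [IsScalarTower A' C' N'] [IsScalarTower B' C' N']

theorem core_iff [Algebra.IsIntegral B' C'] (IB : Ideal B') (IC : Ideal C')
    (h1 : IB.map (algebraMap B' C') ≤ IC)
    (h2 : ∀ (r : Ideal C') [r.IsPrime], IB.map (algebraMap B' C') ≤ r → IC ≤ r) :
    (∀ (q : Ideal B') [q.IsPrime], IB ≤ q →
      Module.Flat A' (LocalizedModule q.primeCompl N')) ↔
    (∀ (r : Ideal C') [r.IsPrime], IC ≤ r →
      Module.Flat A' (LocalizedModule r.primeCompl N')) := by
  constructor
  · intro H r _ hr
    apply flat_atPrime_of_flat_comap (B' := B') N' r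
    apply H
    exact (Ideal.map_le_iff_le_comap.mp h1).trans (Ideal.comap_mono hr)
  · intro H q _ hq
    apply flat_atPrime_of_forall_over (C' := C') N' q
    intro r _ hrq
    apply H
    apply h2
    rw [Ideal.map_le_iff_le_comap, hrq]
    exact hq

end CoreIff

section Nilp

open IsLocalRing

variable {B C : Type u} [CommRing B] [IsLocalRing B] [CommRing C] [IsLocalRing C]
  [Algebra B C] [IsLocalHom (algebraMap B C)] [Module.Finite B C]

omit [Module.Finite B C] in
theorem map_maximalIdeal_le : (maximalIdeal B).map (algebraMap B C) ≤ maximalIdeal C :=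
  ((IsLocalRing.local_hom_TFAE (algebraMap B C)).out 0 2).mp
    (inferInstance : IsLocalHom (algebraMap B C))

/-- For a finite local homomorphism, a power of the maximal ideal of `C` lies in `𝔪_B C`. -/
theorem exists_pow_maximalIdeal_le :
    ∃ n : ℕ, (maximalIdeal C) ^ n ≤ (maximalIdeal B).map (algebraMap B C) := by
  set J := (maximalIdeal B).map (algebraMap B C) with hJ
  have hJle : J ≤ maximalIdeal C := map_maximalIdeal_le
  have hJtop : J ≠ ⊤ := fun h => (maximalIdeal.isMaximal C).ne_top (top_le_iff.mp (h ▸ hJle))
  have hcomap : J.comap (algebraMap B C) = maximalIdeal B := by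
    apply le_antisymm
    · apply IsLocalRing.le_maximalIdeal
      intro h
      apply hJtop
      rw [Ideal.eq_top_iff_one] at h ⊢
      simpa using h
    · exact Ideal.le_comap_map
  haveI hmax : (J.comap (algebraMap B C)).IsMaximal := by
    rw [hcomap]; exact maximalIdeal.isMaximal B
  letI : Field (B ⧸ J.comap (algebraMap B C)) := Ideal.Quotient.field _
  haveI : Module.Finite B (C ⧸ J) := inferInstance
  haveI : Module.Finite (B ⧸ J.comap (algebraMap B C)) (C ⧸ J) :=
    Module.Finite.of_restrictScalars_finite B _ _
  haveI : IsArtinianRing (C ⧸ J) := IsArtinianRing.of_finite (B ⧸ J.comap (algebraMap B C)) _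
  have hnil := IsArtinianRing.isNilpotent_jacobson_bot (R := C ⧸ J)
  have hjac : (⊥ : Ideal (C ⧸ J)).jacobson = (maximalIdeal C).map (Ideal.Quotient.mk J) := by
    have := Ideal.map_jacobson_of_surjective (I := J) (f := Ideal.Quotient.mk J)
      Ideal.Quotient.mk_surjective (by rw [Ideal.mk_ker])
    rw [IsLocalRing.jacobson_eq_maximalIdeal J hJtop] at this
    rw [this, Ideal.map_quotient_self]
  obtain ⟨n, hn⟩ := hnil
  refine ⟨n, ?_⟩
  rw [hjac, ← Ideal.map_pow, Ideal.zero_eq_bot] at hn
  have := (Ideal.map_eq_bot_iff_le_ker _).mp hn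
  rwa [Ideal.mk_ker] at this

end Nilp

section Main

open IsLocalRing PureClosedImm

theorem flatAboveClosedPoints_iff_of_finite
    {A B C : Type u} [CommRing A] [IsLocalRing A] [CommRing B] [IsLocalRing B] [CommRing C]
    [IsLocalRing C] [Algebra A B] [IsLocalHom (algebraMap A B)] [Algebra B C]
    [IsLocalHom (algebraMap B C)] [Algebra A C] [IsScalarTower A B C] [Module.Finite B C]
    (N : Type u) [AddCommGroup N] [Module C N] [Module B N] [IsScalarTower B C N]
    (A' : Type u) [CommRing A'] [IsLocalRing A'] [Algebra A A'] [IsLocalHom (algebraMap A A')]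
    (B' M' : Type u) [CommRing B'] [Algebra B B'] [Algebra A' B'] [Algebra A B']
    [IsScalarTower A B B'] [IsScalarTower A A' B'] [Algebra.IsPushout A B A' B']
    [AddCommGroup M'] [Module B' M'] [Module B M'] [IsScalarTower B B' M'] [Module A' M']
    [IsScalarTower A' B' M'] (fB : N →ₗ[B] M') (hfB : IsBaseChange B' fB)
    (C' N' : Type u) [CommRing C'] [Algebra C C'] [Algebra A' C'] [Algebra A C']
    [IsScalarTower A C C'] [IsScalarTower A A' C'] [Algebra.IsPushout A C A' C']
    [AddCommGroup N'] [Module C' N'] [Module C N'] [IsScalarTower C C' N'] [Module A' N']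
    [IsScalarTower A' C' N'] (fC : N →ₗ[C] N') (hfC : IsBaseChange C' fC) :
    FlatCA.FlatAboveClosedPoints B A' B' M' ↔ FlatCA.FlatAboveClosedPoints C A' C' N' := by
  have hpoB : Algebra.IsPushout A B A' B' := inferInstance
  have hpoC : Algebra.IsPushout A C A' C' := inferInstance
  -- the algebra structures
  letI algBC' : Algebra B C' := ((algebraMap C C').comp (algebraMap B C)).toAlgebra
  haveI : IsScalarTower B C C' := IsScalarTower.of_algebraMap_eq fun _ => rfl
  haveI : IsScalarTower A B C' := IsScalarTower.of_algebraMap_eq fun a => by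
    rw [IsScalarTower.algebraMap_apply B C C', ← IsScalarTower.algebraMap_apply A B C,
      ← IsScalarTower.algebraMap_apply A C C']
  let π : B' →ₐ[A] C' :=
    Algebra.pushoutDesc B' (IsScalarTower.toAlgHom A B C') (IsScalarTower.toAlgHom A A' C')
      (fun _ _ => mul_comm _ _)
  letI algB'C' : Algebra B' C' := π.toRingHom.toAlgebra
  have hπ_def : ∀ x, algebraMap B' C' x = π x := fun _ => rfl
  have hπl : ∀ b : B, π (algebraMap B B' b) = algebraMap B C' b := fun b => by
    simp only [π, Algebra.pushoutDesc_left]
    rfl
  have hπr : ∀ a' : A', π (algebraMap A' B' a') = algebraMap A' C' a' := fun a' => by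
    simp only [π, Algebra.pushoutDesc_right]
    rfl
  haveI : IsScalarTower A' B' C' := IsScalarTower.of_algebraMap_eq fun a' => by
    rw [hπ_def, hπr]
  haveI : IsScalarTower B B' C' := IsScalarTower.of_algebraMap_eq fun b => by
    rw [hπ_def, hπl]
  -- integrality
  haveI : Algebra.IsIntegral B C := inferInstance
  haveI : Algebra.IsIntegral B' C' := by
    refine ⟨fun c' => ?_⟩
    refine hpoC.out.inductionOn c' _ isIntegral_zero ?_ ?_ ?_
    · intro a'
      change IsIntegral B' (algebraMap A' C' a')
      rw [IsScalarTower.algebraMap_apply A' B' C']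
      exact isIntegral_algebraMap
    · intro c x hx
      rw [Algebra.smul_def]
      refine IsIntegral.mul ?_ hx
      exact IsIntegral.map_of_comp_eq (algebraMap B B') (algebraMap C C')
        (by rw [← IsScalarTower.algebraMap_eq, ← IsScalarTower.algebraMap_eq])
        (Algebra.IsIntegral.isIntegral c)
    · intro x y hx hy
      exact hx.add hy
  -- the module structures
  letI modB' : Module B' N' := Module.compHom N' (algebraMap B' C')
  letI modB : Module B N' := Module.compHom N' (algebraMap B C)
  haveI : IsScalarTower B' C' N' := IsScalarTower.of_algebraMap_smul fun _ _ => rfl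
  haveI : IsScalarTower B C N' := IsScalarTower.of_algebraMap_smul fun _ _ => rfl
  haveI : IsScalarTower B B' N' := IsScalarTower.of_algebraMap_smul fun b x => by
    change algebraMap B' C' (algebraMap B B' b) • x = algebraMap B C b • x
    rw [← algebraMap_smul C' (algebraMap B C b) x, ← IsScalarTower.algebraMap_apply B B' C',
      IsScalarTower.algebraMap_apply B C C']
  haveI : IsScalarTower A' B' N' := IsScalarTower.of_algebraMap_smul fun a' x => by
    change algebraMap B' C' (algebraMap A' B' a') • x = a' • x
    rw [← IsScalarTower.algebraMap_apply A' B' C', algebraMap_smul]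
  letI modAN : Module A N := Module.compHom N (algebraMap A B)
  haveI : IsScalarTower A B N := IsScalarTower.of_algebraMap_smul fun _ _ => rfl
  haveI : IsScalarTower A C N := IsScalarTower.of_algebraMap_smul fun a x => by
    change algebraMap A C a • x = algebraMap A B a • x
    rw [IsScalarTower.algebraMap_apply A B C, algebraMap_smul]
  letI modAN' : Module A N' := Module.compHom N' (algebraMap A A')
  haveI : IsScalarTower A A' N' := IsScalarTower.of_algebraMap_smul fun _ _ => rfl
  haveI : IsScalarTower A C N' := IsScalarTower.of_algebraMap_smul fun a x => by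
    change algebraMap A C a • x = algebraMap A A' a • x
    rw [← algebraMap_smul C' (algebraMap A C a) x, ← IsScalarTower.algebraMap_apply A C C',
      IsScalarTower.algebraMap_apply A A' C', algebraMap_smul]
  haveI : IsScalarTower A B N' := IsScalarTower.of_algebraMap_smul fun a x => by
    change algebraMap B C (algebraMap A B a) • x = a • x
    rw [← IsScalarTower.algebraMap_apply A B C, algebraMap_smul]
  -- `fC` as a `B`-linear map is a base change along `B → B'`
  let fB' : N →ₗ[B] N' :=
    { toFun := fC
      map_add' := fC.map_add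
      map_smul' := fun b n => by
        change fC (b • n) = algebraMap B C b • fC n
        rw [← algebraMap_smul C b n, map_smul] }
  have hbcA : IsBaseChange A' (fC.restrictScalars A) :=
    isBaseChange_restrict_of_pushout hpoC fC hfC
  have hfeq : fB'.restrictScalars A = fC.restrictScalars A := LinearMap.ext fun _ => rfl
  have hfB' : IsBaseChange B' fB' := by
    apply isBaseChange_of_restrict_of_pushout (R := A) (R' := A') hpoB fB'
    rw [hfeq]
    exact hbcA
  let ψ : M' ≃ₗ[B'] N' := hfB.equiv.symm ≪≫ₗ hfB'.equiv
  -- transport of localizations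
  have htrans : ∀ (q : Ideal B') [q.IsPrime],
      Module.Flat A' (LocalizedModule q.primeCompl M') ↔
        Module.Flat A' (LocalizedModule q.primeCompl N') := by
    intro q _
    haveI : IsLocalizedModule q.primeCompl
        ((LocalizedModule.mkLinearMap q.primeCompl M') ∘ₗ ψ.symm.toLinearMap) :=
      IsLocalizedModule.of_linearEquiv_right q.primeCompl
        (LocalizedModule.mkLinearMap q.primeCompl M') ψ.symm
    let e : LocalizedModule q.primeCompl N' ≃ₗ[A'] LocalizedModule q.primeCompl M' :=
      (IsLocalizedModule.linearEquiv q.primeCompl (LocalizedModule.mkLinearMap q.primeCompl N')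
        ((LocalizedModule.mkLinearMap q.primeCompl M') ∘ₗ ψ.symm.toLinearMap)).restrictScalars A'
    exact ⟨fun _ => Module.Flat.of_linearEquiv e, fun _ => Module.Flat.of_linearEquiv e.symm⟩
  -- the ideals
  set IB : Ideal B' := (maximalIdeal A').map (algebraMap A' B') ⊔
    (maximalIdeal B).map (algebraMap B B') with hIB
  set IC : Ideal C' := (maximalIdeal A').map (algebraMap A' C') ⊔
    (maximalIdeal C).map (algebraMap C C') with hIC
  have hmapA : ((maximalIdeal A').map (algebraMap A' B')).map (algebraMap B' C') =
      (maximalIdeal A').map (algebraMap A' C') := by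
    rw [Ideal.map_map, ← IsScalarTower.algebraMap_eq]
  have hmapB : ((maximalIdeal B).map (algebraMap B B')).map (algebraMap B' C') =
      ((maximalIdeal B).map (algebraMap B C)).map (algebraMap C C') := by
    rw [Ideal.map_map, Ideal.map_map, ← IsScalarTower.algebraMap_eq, ← IsScalarTower.algebraMap_eq]
  have h1 : IB.map (algebraMap B' C') ≤ IC := by
    rw [hIB, Ideal.map_sup, hmapA, hmapB]
    exact sup_le_sup le_rfl (Ideal.map_mono map_maximalIdeal_le)
  have h2 : ∀ (r : Ideal C') [r.IsPrime], IB.map (algebraMap B' C') ≤ r → IC ≤ r := by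
    intro r _ hr
    rw [hIB, Ideal.map_sup, hmapA, hmapB] at hr
    refine sup_le (le_sup_left.trans hr) ?_
    rw [Ideal.map_le_iff_le_comap]
    intro c hc
    obtain ⟨n, hn⟩ := exists_pow_maximalIdeal_le (B := B) (C := C)
    have h3 : c ^ n ∈ (maximalIdeal B).map (algebraMap B C) := hn (Ideal.pow_mem_pow hc n)
    have h4 : algebraMap C C' (c ^ n) ∈ r :=
      (le_sup_right.trans hr) (Ideal.mem_map_of_mem _ h3)
    rw [map_pow] at h4
    rw [Ideal.mem_comap]
    exact Ideal.IsPrime.mem_of_pow_mem (I := r) inferInstance n h4
  have hcore := core_iff (A' := A') (B' := B') (C' := C') N' IB IC h1 h2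
  unfold FlatCA.FlatAboveClosedPoints FlatCA.FlatAt
  constructor
  · intro H
    refine hcore.mp ?_
    intro q _ hq
    exact (htrans q).mp (H q hq)
  · intro H q _ hq
    exact (htrans q).mpr (hcore.mpr H q hq)

end Main

end Groth.Agent.Lib.Helper95.FlatFiniteLocal
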