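import Mathlib
import Groth.Prelude.Def_FlatCA
import Groth.Agent.Lib.Helper95.PureClosedImm
import Groth.Agent.Lib.Helper95.FlatFiniteLocal

/-!
Helper library for S1277: flatness above the closed points and flat local homomorphisms.
-/

set_option autoImplicit false
universe u

namespace Groth.Agent.Lib.Helper95.FlatFlatLocal

open TensorProduct

section TensorFlat

variable {R S : Type u} [CommRing R] [CommRing S] [Algebra R S]
  (L : Type u) [AddCommGroup L] [Module S L] [Module R L] [IsScalarTower R S L]
  (X : Type u) [AddCommGroup X] [Module S X] [Module R X] [IsScalarTower R S X]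

theorem assoc_natural {N P : Type*} [AddCommGroup N] [Module R N] [AddCommGroup P] [Module R P]
    (ι : N →ₗ[R] P) (z : (L ⊗[S] X) ⊗[R] N) :
    AlgebraTensorModule.assoc R S S L X P (ι.lTensor (L ⊗[S] X) z) =
      (AlgebraTensorModule.lTensor S X ι).lTensor L (AlgebraTensorModule.assoc R S S L X N z) := by
  induction z using TensorProduct.induction_on with
  | zero => simp
  | add x y hx hy => simp only [map_add, hx, hy]
  | tmul w n =>
    induction w using TensorProduct.induction_on with
    | zero => simp
    | add x y hx hy => simp only [TensorProduct.add_tmul, map_add, hx, hy]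
    | tmul l x => simp

theorem injective_lTensor_iff {N P : Type*} [AddCommGroup N] [Module R N] [AddCommGroup P]
    [Module R P] (ι : N →ₗ[R] P) :
    Function.Injective (ι.lTensor (L ⊗[S] X)) ↔
      Function.Injective ((AlgebraTensorModule.lTensor S X ι).lTensor L) := by
  have h : ((AlgebraTensorModule.assoc R S S L X P : _ → _) ∘ (ι.lTensor (L ⊗[S] X))) =
      ((AlgebraTensorModule.lTensor S X ι).lTensor L) ∘
        (AlgebraTensorModule.assoc R S S L X N : _ → _) := by
    funext z
    exact assoc_natural L X ι z
  rw [← (AlgebraTensorModule.assoc R S S L X P).injective.of_comp_iff, h,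
    Function.Injective.of_comp_iff' _ (AlgebraTensorModule.assoc R S S L X N).bijective]

theorem flat_tensor [Module.Flat S L] [Module.Flat R X] : Module.Flat R (L ⊗[S] X) := by
  rw [Module.Flat.iff_lTensor_preserves_injective_linearMap'.{u, u, u}]
  intro N P _ _ _ _ ι hι
  rw [injective_lTensor_iff]
  apply Module.Flat.lTensor_preserves_injective_linearMap
  rw [AlgebraTensorModule.coe_lTensor]
  exact Module.Flat.lTensor_preserves_injective_linearMap _ hι

theorem flat_of_faithfullyFlat_tensor [Module.FaithfullyFlat S L] [Module.Flat R (L ⊗[S] X)] :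
    Module.Flat R X := by
  rw [Module.Flat.iff_lTensor_preserves_injective_linearMap'.{u, u, u}]
  intro N P _ _ _ _ ι hι
  have h0 : Function.Injective (ι.lTensor (L ⊗[S] X)) :=
    Module.Flat.lTensor_preserves_injective_linearMap _ hι
  have h1 := (injective_lTensor_iff L X ι).mp h0
  rw [Module.FaithfullyFlat.lTensor_injective_iff_injective] at h1
  rwa [AlgebraTensorModule.coe_lTensor] at h1

end TensorFlat

section BCForm

variable {R S S' : Type u} [CommRing R] [CommRing S] [CommRing S'] [Algebra R S] [Algebra S S']
  [Algebra R S'] [IsScalarTower R S S']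
  {X Y : Type u} [AddCommGroup X] [Module S X] [Module R X] [IsScalarTower R S X]
  [AddCommGroup Y] [Module S' Y] [Module S Y] [Module R Y] [IsScalarTower S S' Y]
  [IsScalarTower R S Y] [IsScalarTower R S' Y]
  (f : X →ₗ[S] Y) (hf : IsBaseChange S' f)

include hf in
theorem flat_of_isBaseChange_of_flat [Module.Flat S S'] [Module.Flat R X] : Module.Flat R Y :=
  haveI := flat_tensor (R := R) (S := S) S' X
  Module.Flat.of_linearEquiv (hf.equiv.symm.restrictScalars R)

include hf in
theorem flat_of_isBaseChange_of_faithfullyFlat [Module.FaithfullyFlat S S'] [Module.Flat R Y] :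
    Module.Flat R X :=
  haveI : Module.Flat R (S' ⊗[S] X) := Module.Flat.of_linearEquiv (hf.equiv.restrictScalars R)
  flat_of_faithfullyFlat_tensor (R := R) (S := S) S' X

end BCForm

section LocBC

variable {A' B' C' : Type u} [CommRing A'] [CommRing B'] [CommRing C'] [Algebra A' B']
  [Algebra A' C'] [Algebra B' C'] [IsScalarTower A' B' C']
  (M' : Type u) [AddCommGroup M'] [Module A' M'] [Module B' M'] [IsScalarTower A' B' M']
  (N' : Type u) [AddCommGroup N'] [Module A' N'] [Module B' N'] [Module C' N']
  [IsScalarTower A' B' N'] [IsScalarTower A' C' N'] [IsScalarTower B' C' N']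

theorem flat_localized_iff [Module.Flat B' C'] (h : M' →ₗ[B'] N') (hh : IsBaseChange C' h)
    (r : Ideal C') [r.IsPrime] :
    Module.Flat A' (LocalizedModule (r.under B').primeCompl M') ↔
      Module.Flat A' (LocalizedModule r.primeCompl N') := by
  set q := r.under B' with hq
  letI algqr := Localization.AtPrime.algebraOfLiesOver q r
  haveI hloc : IsLocalHom (algebraMap (Localization.AtPrime q) (Localization.AtPrime r)) := by
    rw [RingHom.algebraMap_toAlgebra]
    exact Localization.isLocalHom_localRingHom q r (algebraMap B' C') Ideal.LiesOver.over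
  haveI hff : Module.FaithfullyFlat (Localization.AtPrime q) (Localization.AtPrime r) :=
    Module.FaithfullyFlat.of_flat_of_isLocalHom
  -- module structures on `Y`
  letI modq : Module (Localization.AtPrime q) (LocalizedModule r.primeCompl N') :=
    Module.compHom _ (algebraMap (Localization.AtPrime q) (Localization.AtPrime r))
  haveI : IsScalarTower (Localization.AtPrime q) (Localization.AtPrime r)
      (LocalizedModule r.primeCompl N') := IsScalarTower.of_algebraMap_smul fun _ _ => rfl
  haveI : IsScalarTower B' (Localization.AtPrime q) (LocalizedModule r.primeCompl N') :=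
    IsScalarTower.of_algebraMap_smul fun b y => by
      change algebraMap (Localization.AtPrime q) (Localization.AtPrime r)
        (algebraMap B' (Localization.AtPrime q) b) • y = b • y
      rw [← IsScalarTower.algebraMap_apply B' (Localization.AtPrime q) (Localization.AtPrime r),
        algebraMap_smul]
  haveI : IsScalarTower A' (Localization.AtPrime q) (LocalizedModule r.primeCompl N') :=
    IsScalarTower.of_algebraMap_smul fun a y => by
      change algebraMap (Localization.AtPrime q) (Localization.AtPrime r)
        (algebraMap A' (Localization.AtPrime q) a) • y = a • y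
      rw [← IsScalarTower.algebraMap_apply A' (Localization.AtPrime q) (Localization.AtPrime r),
        algebraMap_smul]
  -- the map `M'_q → N'_r`
  have hunits : ∀ s : q.primeCompl, IsUnit (algebraMap B' (Module.End B'
      (LocalizedModule r.primeCompl N')) s) := by
    intro s
    have hs : algebraMap B' C' s ∈ r.primeCompl := s.2
    have := IsLocalizedModule.map_units (LocalizedModule.mkLinearMap r.primeCompl N')
      ⟨algebraMap B' C' s, hs⟩
    rw [Module.End.isUnit_iff] at this ⊢
    convert this using 1
    funext y
    simp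
  let F₀ : LocalizedModule q.primeCompl M' →ₗ[B'] LocalizedModule r.primeCompl N' :=
    IsLocalizedModule.lift q.primeCompl (LocalizedModule.mkLinearMap q.primeCompl M')
      (((LocalizedModule.mkLinearMap r.primeCompl N').restrictScalars B') ∘ₗ h) hunits
  have hF₀ : F₀ ∘ₗ (LocalizedModule.mkLinearMap q.primeCompl M') =
      ((LocalizedModule.mkLinearMap r.primeCompl N').restrictScalars B') ∘ₗ h :=
    IsLocalizedModule.lift_comp _ _ _ _
  let F : LocalizedModule q.primeCompl M' →ₗ[Localization.AtPrime q]
      LocalizedModule r.primeCompl N' :=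
    F₀.extendScalarsOfIsLocalization q.primeCompl (Localization.AtPrime q)
  have hFbc : IsBaseChange (Localization.AtPrime r) F := by
    have h1 : IsBaseChange (Localization.AtPrime q) (LocalizedModule.mkLinearMap q.primeCompl M') :=
      IsLocalizedModule.isBaseChange q.primeCompl _ _
    have h2 : IsBaseChange (Localization.AtPrime r) (LocalizedModule.mkLinearMap r.primeCompl N') :=
      IsLocalizedModule.isBaseChange r.primeCompl _ _
    have h3 := IsBaseChange.comp hh h2
    refine IsBaseChange.of_comp h1 ?_
    have : (F.restrictScalars B') ∘ₗ (LocalizedModule.mkLinearMap q.primeCompl M') =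
        ((LocalizedModule.mkLinearMap r.primeCompl N').restrictScalars B') ∘ₗ h := by
      rw [← hF₀]
      rfl
    rw [this]
    exact h3
  constructor
  · intro hX
    exact flat_of_isBaseChange_of_flat (R := A') F hFbc
  · intro hY
    exact flat_of_isBaseChange_of_faithfullyFlat (R := A') F hFbc

end LocBC

section ExistsPrime

variable {A B C A' B' C' : Type u} [CommRing A] [CommRing B] [CommRing C] [CommRing A']
  [CommRing B'] [CommRing C'] [Algebra A B] [Algebra B C] [Algebra A C] [IsScalarTower A B C]
  [Algebra A A'] [Algebra B B'] [Algebra A' B'] [Algebra A B'] [IsScalarTower A B B']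
  [IsScalarTower A A' B'] [Algebra C C'] [Algebra A' C'] [Algebra A C'] [IsScalarTower A C C']
  [IsScalarTower A A' C'] [Algebra B' C'] [IsScalarTower A' B' C']
  [Algebra B C'] [IsScalarTower B C C'] [IsScalarTower B B' C']
  {k K κ : Type u} [Field k] [Field K] [Field κ] [Algebra k K] [Algebra k κ]

/-- Existence of a prime of `C'` over a given prime of `B'`, containing the extension of the
kernel of `C → K`. -/
theorem exists_prime_over (hpoB : Algebra.IsPushout A B A' B') (hpoC : Algebra.IsPushout A C A' C')
    (ρB : B →+* k) (ρC : C →+* K) (ρq : B' →+* κ)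
    (h1 : ∀ b, algebraMap k K (ρB b) = ρC (algebraMap B C b))
    (h2 : ∀ b, algebraMap k κ (ρB b) = ρq (algebraMap B B' b)) :
    ∃ r : Ideal C', r.IsPrime ∧ r.comap (algebraMap B' C') = RingHom.ker ρq ∧
      (RingHom.ker ρC).map (algebraMap C C') ≤ r := by
  haveI := hpoB
  haveI := hpoC
  let f₀ : C →+* K ⊗[k] κ := Algebra.TensorProduct.includeLeftRingHom.comp ρC
  let g₀ : A' →+* K ⊗[k] κ :=
    (Algebra.TensorProduct.includeRight (R := k) (A := K) (B := κ)).toRingHom.comp
      (ρq.comp (algebraMap A' B'))
  have hswap : ∀ x : k, (algebraMap k K x) ⊗ₜ[k] (1 : κ) = (1 : K) ⊗ₜ[k] (algebraMap k κ x) := by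
    intro x
    rw [Algebra.algebraMap_eq_smul_one, Algebra.algebraMap_eq_smul_one, TensorProduct.smul_tmul]
  have hB : ∀ b : B, f₀ (algebraMap B C b) = (1 : K) ⊗ₜ[k] ρq (algebraMap B B' b) := by
    intro b
    change (ρC (algebraMap B C b)) ⊗ₜ[k] (1 : κ) = _
    rw [← h1, hswap, h2]
  have hagree : ∀ a : A, f₀ (algebraMap A C a) = g₀ (algebraMap A A' a) := by
    intro a
    rw [IsScalarTower.algebraMap_apply A B C, hB]
    change _ = (1 : K) ⊗ₜ[k] ρq (algebraMap A' B' (algebraMap A A' a))
    rw [← IsScalarTower.algebraMap_apply A B B', ← IsScalarTower.algebraMap_apply A A' B']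
  letI algAT : Algebra A (K ⊗[k] κ) := (f₀.comp (algebraMap A C)).toAlgebra
  let f : C →ₐ[A] K ⊗[k] κ := { f₀ with commutes' := fun _ => rfl }
  let g : A' →ₐ[A] K ⊗[k] κ := { g₀ with commutes' := fun a => (hagree a).symm }
  let Φ : C' →ₐ[A] K ⊗[k] κ := Algebra.pushoutDesc C' f g (fun _ _ => mul_comm _ _)
  have hΦl : ∀ c : C, Φ (algebraMap C C' c) = f₀ c := fun c => by
    simp only [Φ, Algebra.pushoutDesc_left]; rfl
  have hΦr : ∀ a' : A', Φ (algebraMap A' C' a') = g₀ a' := fun a' => by
    simp only [Φ, Algebra.pushoutDesc_right]; rfl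
  have hΦπ : ∀ x : B', Φ (algebraMap B' C' x) = (1 : K) ⊗ₜ[k] ρq x := by
    intro x
    refine hpoB.out.inductionOn x _ ?_ ?_ ?_ ?_
    · simp
    · intro a'
      change Φ (algebraMap B' C' (algebraMap A' B' a')) = (1 : K) ⊗ₜ[k] ρq (algebraMap A' B' a')
      rw [← IsScalarTower.algebraMap_apply A' B' C', hΦr]
      rfl
    · intro b y hy
      rw [Algebra.smul_def, map_mul, map_mul, hy, ← IsScalarTower.algebraMap_apply B B' C',
        IsScalarTower.algebraMap_apply B C C', hΦl, hB, map_mul,
        Algebra.TensorProduct.tmul_mul_tmul, one_mul]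
    · intro y z hy hz
      rw [map_add, map_add, hy, hz, map_add, TensorProduct.tmul_add]
  haveI : Nontrivial (K ⊗[k] κ) :=
    Algebra.TensorProduct.nontrivial_of_algebraMap_injective_of_flat_left k K κ
      (algebraMap k κ).injective
  obtain ⟨𝔓, h𝔓⟩ := Ideal.exists_maximal (K ⊗[k] κ)
  haveI h𝔓p : 𝔓.IsPrime := h𝔓.isPrime
  refine ⟨𝔓.comap Φ.toRingHom, Ideal.comap_isPrime _ _, ?_, ?_⟩
  · ext x
    rw [Ideal.mem_comap, Ideal.mem_comap, RingHom.mem_ker]
    change Φ (algebraMap B' C' x) ∈ 𝔓 ↔ _
    rw [hΦπ]
    have hbot : 𝔓.comap (Algebra.TensorProduct.includeRight (R := k) (A := K) (B := κ)).toRingHom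
        = ⊥ := by
      haveI : (𝔓.comap (Algebra.TensorProduct.includeRight (R := k) (A := K)
        (B := κ)).toRingHom).IsPrime := Ideal.comap_isPrime _ _
      exact Ideal.eq_bot_of_prime _
    constructor
    · intro hx
      have : ρq x ∈ 𝔓.comap (Algebra.TensorProduct.includeRight (R := k) (A := K)
        (B := κ)).toRingHom := hx
      rw [hbot] at this
      exact this
    · intro hx
      rw [hx, TensorProduct.tmul_zero]
      exact 𝔓.zero_mem
  · rw [Ideal.map_le_iff_le_comap]
    intro c hc
    rw [Ideal.mem_comap, Ideal.mem_comap]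
    change Φ (algebraMap C C' c) ∈ 𝔓
    rw [hΦl]
    change (ρC c) ⊗ₜ[k] (1 : κ) ∈ 𝔓
    rw [(RingHom.mem_ker).mp hc, TensorProduct.zero_tmul]
    exact 𝔓.zero_mem

end ExistsPrime

section Main

open IsLocalRing PureClosedImm FlatFiniteLocal

theorem flatAboveClosedPoints_iff_of_flat
    {A B C : Type u} [CommRing A] [IsLocalRing A] [CommRing B] [IsLocalRing B] [CommRing C]
    [IsLocalRing C] [Algebra A B] [IsLocalHom (algebraMap A B)] [Algebra B C]
    [IsLocalHom (algebraMap B C)] [Algebra A C] [IsScalarTower A B C] [Module.Flat B C]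
    (M : Type u) [AddCommGroup M] [Module B M] (N : Type u) [AddCommGroup N] [Module C N]
    [Module B N] [IsScalarTower B C N] (g : M →ₗ[B] N) (hg : IsBaseChange C g)
    (A' : Type u) [CommRing A'] [IsLocalRing A'] [Algebra A A'] [IsLocalHom (algebraMap A A')]
    (B' M' : Type u) [CommRing B'] [Algebra B B'] [Algebra A' B'] [Algebra A B']
    [IsScalarTower A B B'] [IsScalarTower A A' B'] [Algebra.IsPushout A B A' B']
    [AddCommGroup M'] [Module B' M'] [Module B M'] [IsScalarTower B B' M'] [Module A' M']
    [IsScalarTower A' B' M'] (fB : M →ₗ[B] M') (hfB : IsBaseChange B' fB)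
    (C' N' : Type u) [CommRing C'] [Algebra C C'] [Algebra A' C'] [Algebra A C']
    [IsScalarTower A C C'] [IsScalarTower A A' C'] [Algebra.IsPushout A C A' C']
    [AddCommGroup N'] [Module C' N'] [Module C N'] [IsScalarTower C C' N'] [Module A' N']
    [IsScalarTower A' C' N'] (fC : N →ₗ[C] N') (hfC : IsBaseChange C' fC) :
    FlatCA.FlatAboveClosedPoints B A' B' M' ↔ FlatCA.FlatAboveClosedPoints C A' C' N' := by
  have hpoB : Algebra.IsPushout A B A' B' := inferInstance
  have hpoC : Algebra.IsPushout A C A' C' := inferInstance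
  -- the algebra structures
  letI algBC' : Algebra B C' := ((algebraMap C C').comp (algebraMap B C)).toAlgebra
  haveI : IsScalarTower B C C' := IsScalarTower.of_algebraMap_eq fun _ => rfl
  haveI : IsScalarTower A B C' := IsScalarTower.of_algebraMap_eq fun a => by
    rw [IsScalarTower.algebraMap_apply B C C', ← IsScalarTower.algebraMap_apply A B C,
      ← IsScalarTower.algebraMap_apply A C C']
  let π : B' →ₐ[A] C' :=
    Algebra.pushoutDesc B' (IsScalarTower.toAlgHom A B C') (IsScalarTower.toAlgHom A A' C')
      (fun _ _ => mul_comm _ _)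
  letI algB'C' : Algebra B' C' := π.toRingHom.toAlgebra
  have hπ_def : ∀ x, algebraMap B' C' x = π x := fun _ => rfl
  have hπl : ∀ b : B, π (algebraMap B B' b) = algebraMap B C' b := fun b => by
    simp only [π, Algebra.pushoutDesc_left]
    rfl
  have hπr : ∀ a' : A', π (algebraMap A' B' a') = algebraMap A' C' a' := fun a' => by
    simp only [π, Algebra.pushoutDesc_right]
    rfl
  haveI : IsScalarTower A' B' C' := IsScalarTower.of_algebraMap_eq fun a' => by
    rw [hπ_def, hπr]
  haveI : IsScalarTower B B' C' := IsScalarTower.of_algebraMap_eq fun b => by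
    rw [hπ_def, hπl]
  haveI : IsScalarTower A B' C' := IsScalarTower.of_algebraMap_eq fun a => by
    rw [IsScalarTower.algebraMap_apply A A' B', ← IsScalarTower.algebraMap_apply A' B' C',
      ← IsScalarTower.algebraMap_apply A A' C']
  -- flatness of `B' → C'`
  haveI hpoBC : Algebra.IsPushout B C B' C' :=
    (Algebra.IsPushout.comp_iff A B A' (S' := B') (T := C) (T' := C')).mp hpoC
  haveI : Module.Flat B' C' := Module.Flat.isBaseChange B B' C C' hpoBC.symm.out
  -- the module structures
  letI modB' : Module B' N' := Module.compHom N' (algebraMap B' C')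
  letI modB : Module B N' := Module.compHom N' (algebraMap B C)
  haveI : IsScalarTower B' C' N' := IsScalarTower.of_algebraMap_smul fun _ _ => rfl
  haveI : IsScalarTower B C N' := IsScalarTower.of_algebraMap_smul fun _ _ => rfl
  haveI : IsScalarTower B B' N' := IsScalarTower.of_algebraMap_smul fun b x => by
    change algebraMap B' C' (algebraMap B B' b) • x = algebraMap B C b • x
    rw [← algebraMap_smul C' (algebraMap B C b) x, ← IsScalarTower.algebraMap_apply B B' C',
      IsScalarTower.algebraMap_apply B C C']
  haveI : IsScalarTower A' B' N' := IsScalarTower.of_algebraMap_smul fun a' x => by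
    change algebraMap B' C' (algebraMap A' B' a') • x = a' • x
    rw [← IsScalarTower.algebraMap_apply A' B' C', algebraMap_smul]
  haveI : IsScalarTower B C' N' := IsScalarTower.of_algebraMap_smul fun b x => by
    change algebraMap B C' b • x = algebraMap B C b • x
    rw [IsScalarTower.algebraMap_apply B C C', algebraMap_smul]
  -- the base change map `M' → N'`
  let k : M →ₗ[B] N' := (fC.restrictScalars B) ∘ₗ g
  have hk : IsBaseChange C' k := IsBaseChange.comp hg hfC
  let h : M' →ₗ[B'] N' := hfB.lift k
  have hh : IsBaseChange C' h := by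
    refine IsBaseChange.of_comp hfB ?_
    have : (h.restrictScalars B) ∘ₗ fB = k := hfB.lift_comp k
    rw [this]
    exact hk
  -- the ideals
  set IB : Ideal B' := (maximalIdeal A').map (algebraMap A' B') ⊔
    (maximalIdeal B).map (algebraMap B B') with hIB
  set IC : Ideal C' := (maximalIdeal A').map (algebraMap A' C') ⊔
    (maximalIdeal C).map (algebraMap C C') with hIC
  have hmapA : ((maximalIdeal A').map (algebraMap A' B')).map (algebraMap B' C') =
      (maximalIdeal A').map (algebraMap A' C') := by
    rw [Ideal.map_map, ← IsScalarTower.algebraMap_eq]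
  have hmapB : ((maximalIdeal B).map (algebraMap B B')).map (algebraMap B' C') =
      ((maximalIdeal B).map (algebraMap B C)).map (algebraMap C C') := by
    rw [Ideal.map_map, Ideal.map_map, ← IsScalarTower.algebraMap_eq, ← IsScalarTower.algebraMap_eq]
  have h1 : IB.map (algebraMap B' C') ≤ IC := by
    rw [hIB, Ideal.map_sup, hmapA, hmapB]
    exact sup_le_sup le_rfl (Ideal.map_mono map_maximalIdeal_le)
  unfold FlatCA.FlatAboveClosedPoints FlatCA.FlatAt
  constructor
  · intro H r _ hr
    refine (flat_localized_iff (A' := A') M' N' h hh r).mp (H (r.under B') ?_)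
    exact (Ideal.map_le_iff_le_comap.mp h1).trans (Ideal.comap_mono hr)
  · intro H q _ hq
    -- a prime of `C'` over `q` containing `IC`
    have hker : ∀ b ∈ maximalIdeal B,
        ((algebraMap B' q.ResidueField).comp (algebraMap B B')) b = 0 := by
      intro b hb
      rw [RingHom.comp_apply, Ideal.algebraMap_residueField_eq_zero]
      exact hq (Ideal.mem_sup_right (Ideal.mem_map_of_mem _ hb))
    letI algkκ : Algebra (ResidueField B) q.ResidueField :=
      (Ideal.Quotient.lift (maximalIdeal B)
        ((algebraMap B' q.ResidueField).comp (algebraMap B B')) hker).toAlgebra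
    obtain ⟨r, hrp, hrq, hrC⟩ := exists_prime_over (k := ResidueField B) (K := ResidueField C)
      (κ := q.ResidueField) hpoB hpoC (residue B) (residue C) (algebraMap B' q.ResidueField)
      (fun b => rfl) (fun b => rfl)
    rw [Ideal.ker_algebraMap_residueField] at hrq
    rw [ker_residue] at hrC
    haveI := hrp
    have hICr : IC ≤ r := by
      rw [hIC]
      refine sup_le ?_ hrC
      rw [← hmapA, Ideal.map_le_iff_le_comap, hrq]
      exact le_sup_left.trans hq
    have hrq' : q = r.under B' := hrq.symm
    subst hrq'
    exact (flat_localized_iff (A' := A') M' N' h hh r).mpr (H r hICr)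

end Main

end Groth.Agent.Lib.Helper95.FlatFlatLocal
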