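import Mathlib

/-!
helper95: flatness of localizations of a module over a base ring `K`, with the module living over
a `K`-algebra; change of rings for dominating multiplicative sets, monotonicity, invariance under
isomorphism, local-to-global.
-/

set_option autoImplicit false
set_option linter.style.haveILetI false
set_option linter.unusedSectionVars false

namespace Groth.Agent.Lib.Helper95.FlatLocA

open TensorProduct

section Algebra

variable (A B C N : Type*) [CommRing A] [CommRing B] [CommRing C] [Algebra A B] [Algebra B C]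
  [Algebra A C] [IsScalarTower A B C] [AddCommGroup N] [Module A N] [Module B N]
  [IsScalarTower A B N]

variable {P' P : Type*} [AddCommGroup P'] [AddCommGroup P] [Module A P'] [Module A P] in
theorem assoc_lTensor (f : P' →ₗ[A] P) (x : (C ⊗[B] N) ⊗[A] P') :
    AlgebraTensorModule.assoc A B B C N P (f.lTensor (C ⊗[B] N) x) =
      (AlgebraTensorModule.lTensor B N f).lTensor C (AlgebraTensorModule.assoc A B B C N P' x) := by
  induction x using TensorProduct.induction_on with
  | zero => simp
  | add x y hx hy => simp only [map_add, hx, hy]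
  | tmul x p =>
    induction x using TensorProduct.induction_on with
    | zero => simp
    | add x y hx hy => simp only [add_tmul, map_add, hx, hy]
    | tmul c n => simp

theorem lTensor_tensor_injective_iff {P' P : Type*} [AddCommGroup P'] [AddCommGroup P] [Module A P']
    [Module A P] (f : P' →ₗ[A] P) :
    Function.Injective (f.lTensor (C ⊗[B] N)) ↔
      Function.Injective ((AlgebraTensorModule.lTensor B N f).lTensor C) := by
  have h : (AlgebraTensorModule.assoc A B B C N P : _ → _) ∘ (f.lTensor (C ⊗[B] N)) =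
      ((AlgebraTensorModule.lTensor B N f).lTensor C) ∘
        (AlgebraTensorModule.assoc A B B C N P' : _ → _) := by
    funext x
    exact assoc_lTensor A B C N f x
  constructor
  · intro hi
    have h1 : Function.Injective ((AlgebraTensorModule.assoc A B B C N P : _ → _) ∘
        (f.lTensor (C ⊗[B] N))) := (AlgebraTensorModule.assoc A B B C N P).injective.comp hi
    rw [h] at h1
    exact (EquivLike.injective_comp (AlgebraTensorModule.assoc A B B C N P') _).1 h1
  · intro hi
    have h1 : Function.Injective (((AlgebraTensorModule.lTensor B N f).lTensor C) ∘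
        (AlgebraTensorModule.assoc A B B C N P' : _ → _)) :=
      hi.comp (AlgebraTensorModule.assoc A B B C N P').injective
    rw [← h] at h1
    exact (EquivLike.comp_injective _ (AlgebraTensorModule.assoc A B B C N P)).1 h1

/-- If `N` is an `A`-flat `B`-module and `C` is a flat `B`-algebra, then `C ⊗[B] N` is `A`-flat. -/
theorem flat_tensor_of_flat [Module.Flat B C] [Module.Flat A N] : Module.Flat A (C ⊗[B] N) := by
  rw [Module.Flat.iff_lTensor_preserves_injective_linearMap]
  intro P' P _ _ _ _ f hf
  rw [lTensor_tensor_injective_iff]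
  apply Module.Flat.lTensor_preserves_injective_linearMap
  exact Module.Flat.lTensor_preserves_injective_linearMap (M := N) f hf

/-- If `C` is a faithfully flat `B`-algebra and `C ⊗[B] N` is `A`-flat, then `N` is `A`-flat. -/
theorem flat_of_flat_tensor_of_faithfullyFlat [Module.FaithfullyFlat B C]
    [Module.Flat A (C ⊗[B] N)] : Module.Flat A N := by
  rw [Module.Flat.iff_lTensor_preserves_injective_linearMap]
  intro P' P _ _ _ _ f hf
  have h1 : Function.Injective (f.lTensor (C ⊗[B] N)) :=
    Module.Flat.lTensor_preserves_injective_linearMap f hf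
  rw [lTensor_tensor_injective_iff, Module.FaithfullyFlat.lTensor_injective_iff_injective] at h1
  exact h1

theorem flat_tensor_iff_of_faithfullyFlat [Module.FaithfullyFlat B C] :
    Module.Flat A (C ⊗[B] N) ↔ Module.Flat A N :=
  ⟨fun _ => flat_of_flat_tensor_of_faithfullyFlat A B C N, fun _ => flat_tensor_of_flat A B C N⟩

end Algebra

section Dominate

variable {A C : Type*} [CommRing A] [CommRing C] [Algebra A C]
  {G G₂ : Type*} [AddCommGroup G] [Module C G] [Module A G] [IsScalarTower A C G]
  [AddCommGroup G₂] [Module C G₂] [Module A G₂] [IsScalarTower A C G₂]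
  (M : Submonoid A) (M' : Submonoid C)

/-- A localization of a `C`-module at `M'` is a localization over `A` at `M` when `M` maps into
`M'` and every element of `M'` divides the image of an element of `M`. -/
theorem isLocalizedModule_of_dominate (h : G →ₗ[C] G₂) [IsLocalizedModule M' h]
    (h1 : ∀ a ∈ M, algebraMap A C a ∈ M')
    (h2 : ∀ c ∈ M', ∃ a ∈ M, ∃ c' : C, c * c' = algebraMap A C a) :
    IsLocalizedModule M (h.restrictScalars A) where
  map_units a := by
    have hu := IsLocalizedModule.map_units h ⟨algebraMap A C a, h1 a a.2⟩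
    rw [Module.End.isUnit_iff] at hu ⊢
    convert hu using 1
    ext x
    simp [algebraMap_smul]
  surj y := by
    obtain ⟨⟨m, s⟩, hms⟩ := IsLocalizedModule.surj M' h y
    obtain ⟨a, ha, c', hc⟩ := h2 s s.2
    refine ⟨⟨c' • m, ⟨a, ha⟩⟩, ?_⟩
    show a • y = _
    rw [← algebraMap_smul C a y, ← hc, mul_comm, mul_smul]
    have : (s : C) • y = h m := hms
    rw [this]
    simp
  exists_of_eq {x₁ x₂} hx := by
    obtain ⟨c, hc⟩ := IsLocalizedModule.exists_of_eq (S := M') (f := h) hx
    obtain ⟨a, ha, c', hcc⟩ := h2 c c.2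
    refine ⟨⟨a, ha⟩, ?_⟩
    show a • x₁ = a • x₂
    have hc' : (c : C) • x₁ = (c : C) • x₂ := hc
    rw [← algebraMap_smul C a x₁, ← algebraMap_smul C a x₂, ← hcc, mul_comm, mul_smul, mul_smul,
      hc']

variable (G)
variable (K : Type*) [CommRing K] [Algebra K A] [Algebra K C] [IsScalarTower K A C]
  [Module K G] [IsScalarTower K A G] [IsScalarTower K C G]

theorem flat_localized_iff_of_dominate
    (h1 : ∀ a ∈ M, algebraMap A C a ∈ M')
    (h2 : ∀ c ∈ M', ∃ a ∈ M, ∃ c' : C, c * c' = algebraMap A C a) :
    Module.Flat K (LocalizedModule M G) ↔ Module.Flat K (LocalizedModule M' G) := by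
  haveI := isLocalizedModule_of_dominate M M' (LocalizedModule.mkLinearMap M' G) h1 h2
  exact Module.Flat.equiv_iff ((IsLocalizedModule.iso M
    ((LocalizedModule.mkLinearMap M' G).restrictScalars A)).restrictScalars K)

end Dominate

section Mono

variable {A : Type*} [CommRing A] (K : Type*) [CommRing K] [Algebra K A]
  (Y : Type*) [AddCommGroup Y] [Module A Y] [Module K Y] [IsScalarTower K A Y]

/-- Localizing a `K`-flat `A`-module keeps it `K`-flat. -/
theorem flat_localizedModule_of_flat (M : Submonoid A) [Module.Flat K Y] :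
    Module.Flat K (LocalizedModule M Y) := by
  have hbc : IsBaseChange (Localization M) (LocalizedModule.mkLinearMap M Y) :=
    IsLocalizedModule.isBaseChange M (Localization M) _
  have := flat_tensor_of_flat K A (Localization M) Y
  exact (Module.Flat.equiv_iff (hbc.equiv.restrictScalars K)).mp this

variable {Y}
variable {Y₁ Y₂ : Type*} [AddCommGroup Y₁] [Module A Y₁] [AddCommGroup Y₂] [Module A Y₂]

/-- Composite of two localizations is a localization at the second set if every element of the
first set divides an element of the second. -/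
theorem isLocalizedModule_comp (M₁ M₂ : Submonoid A) (f : Y →ₗ[A] Y₁) (h : Y₁ →ₗ[A] Y₂)
    [IsLocalizedModule M₁ f] [IsLocalizedModule M₂ h]
    (hd : ∀ m ∈ M₁, ∃ m' : A, m * m' ∈ M₂) : IsLocalizedModule M₂ (h ∘ₗ f) where
  map_units a := IsLocalizedModule.map_units h a
  surj y := by
    obtain ⟨⟨y₁, s₂⟩, h2⟩ := IsLocalizedModule.surj M₂ h y
    obtain ⟨⟨x, s₁⟩, h1⟩ := IsLocalizedModule.surj M₁ f y₁
    obtain ⟨m', hm'⟩ := hd s₁ s₁.2
    refine ⟨⟨m' • x, ⟨(s₁ * m') * s₂, M₂.mul_mem hm' s₂.2⟩⟩, ?_⟩
    show ((s₁ : A) * m' * (s₂ : A)) • y = h (f (m' • x))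
    have h2' : (s₂ : A) • y = h y₁ := h2
    have h1' : (s₁ : A) • y₁ = f x := h1
    rw [mul_smul, h2', ← map_smul, mul_comm (s₁ : A), mul_smul, h1', ← map_smul]
  exists_of_eq {x₁ x₂} hx := by
    obtain ⟨s₂, h2⟩ := IsLocalizedModule.exists_of_eq (S := M₂) (f := h) hx
    have h2' : (s₂ : A) • f x₁ = (s₂ : A) • f x₂ := h2
    rw [← map_smul, ← map_smul] at h2'
    obtain ⟨s₁, h1⟩ := IsLocalizedModule.exists_of_eq (S := M₁) (f := f) h2'
    have h1' : (s₁ : A) • (s₂ : A) • x₁ = (s₁ : A) • (s₂ : A) • x₂ := h1
    obtain ⟨m', hm'⟩ := hd s₁ s₁.2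
    refine ⟨⟨(s₁ * m') * s₂, M₂.mul_mem hm' s₂.2⟩, ?_⟩
    show ((s₁ : A) * m' * (s₂ : A)) • x₁ = ((s₁ : A) * m' * (s₂ : A)) • x₂
    have e : (s₁ : A) * m' * (s₂ : A) = m' * ((s₁ : A) * (s₂ : A)) := by ring
    rw [e, mul_smul, mul_smul, mul_smul, mul_smul, h1']

variable (Y)

/-- Flatness over `K` of `M₁⁻¹ Y` implies that of `M₂⁻¹ Y` if every element of `M₁` divides an
element of `M₂`. -/
theorem flat_localized_of_dvd (M₁ M₂ : Submonoid A) (hd : ∀ m ∈ M₁, ∃ m' : A, m * m' ∈ M₂)
    (hf : Module.Flat K (LocalizedModule M₁ Y)) : Module.Flat K (LocalizedModule M₂ Y) := by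
  haveI := isLocalizedModule_comp M₁ M₂ (LocalizedModule.mkLinearMap M₁ Y)
    (LocalizedModule.mkLinearMap M₂ (LocalizedModule M₁ Y)) hd
  have h3 : Module.Flat K (LocalizedModule M₂ (LocalizedModule M₁ Y)) :=
    flat_localizedModule_of_flat K (LocalizedModule M₁ Y) M₂
  exact (Module.Flat.equiv_iff ((IsLocalizedModule.iso M₂
    ((LocalizedModule.mkLinearMap M₂ (LocalizedModule M₁ Y)) ∘ₗ
      (LocalizedModule.mkLinearMap M₁ Y))).restrictScalars K)).mpr h3

variable (Y' : Type*) [AddCommGroup Y'] [Module A Y'] [Module K Y'] [IsScalarTower K A Y']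

theorem flat_localized_iff_of_equiv (M : Submonoid A) (e : Y ≃ₗ[A] Y') :
    Module.Flat K (LocalizedModule M Y) ↔ Module.Flat K (LocalizedModule M Y') := by
  haveI : IsLocalizedModule M ((LocalizedModule.mkLinearMap M Y') ∘ₗ e.toLinearMap) :=
    IsLocalizedModule.of_linearEquiv_right M (LocalizedModule.mkLinearMap M Y') e
  exact Module.Flat.equiv_iff ((IsLocalizedModule.iso M
    ((LocalizedModule.mkLinearMap M Y') ∘ₗ e.toLinearMap)).restrictScalars K)

end Mono

section Integral

variable {D C : Type*} [CommRing D] [CommRing C] [Algebra D C] [Algebra.IsIntegral D C]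

/-- If `z` is the only prime over `y` in an integral extension, every element outside `z` divides
the image of an element outside `y`. -/
theorem exists_mul_eq_algebraMap_of_unique (y : Ideal D) [y.IsPrime] (z : Ideal C)
    (huniq : ∀ (z₁ : Ideal C) [z₁.IsPrime], z₁.LiesOver y → z₁ = z) (c : C) (hc : c ∉ z) :
    ∃ d : D, d ∉ y ∧ ∃ c' : C, c * c' = algebraMap D C d := by
  by_contra hcon
  push Not at hcon
  have hle : (Ideal.span {c}).comap (algebraMap D C) ≤ y := by
    intro d hd
    by_contra hdy
    rw [Ideal.mem_comap, Ideal.mem_span_singleton'] at hd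
    obtain ⟨c', hc'⟩ := hd
    exact hcon d hdy c' (by rw [mul_comm, hc'])
  obtain ⟨Q, hQ, hQp, hQy⟩ := Ideal.exists_ideal_over_prime_of_isIntegral y (Ideal.span {c}) hle
  have : Q = z := huniq Q ⟨hQy.symm⟩
  exact hc (this ▸ hQ (Ideal.subset_span rfl))

end Integral

end Groth.Agent.Lib.Helper95.FlatLocA
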