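import Mathlib
import Groth.Agent.Lib.Helper95.FlatLocA

/-!
helper95: flatness over a base of localizations at primes under flat base change of the algebra,
local-to-global for flatness of a localized module, open image of a basic open under a flat
finitely presented ring map.
-/

set_option autoImplicit false
set_option linter.style.haveILetI false
set_option linter.unusedSectionVars false

namespace Groth.Agent.Lib.Helper95.FlatLocB

open TensorProduct Groth.Agent.Lib.Helper95.FlatLocA

universe u

section Pointwise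
variable {R S S' : Type u} [CommRing R] [CommRing S] [CommRing S'] [Algebra R S] [Algebra S S']
  [Algebra R S'] [IsScalarTower R S S'] [Module.Flat S S']
  (N : Type u) [AddCommGroup N] [Module S N] [Module R N] [IsScalarTower R S N]
  (Q : Ideal S) [Q.IsPrime] (Q' : Ideal S') [Q'.IsPrime] [Q'.LiesOver Q]

theorem flat_localized_baseChange_iff :
    Module.Flat R (LocalizedModule Q'.primeCompl (S' ⊗[S] N)) ↔
      Module.Flat R (LocalizedModule Q.primeCompl N) := by
  letI := Localization.AtPrime.algebraOfLiesOver Q Q'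
  haveI : Module.Flat (Localization.AtPrime Q) (Localization.AtPrime Q') := inferInstance
  haveI : IsLocalHom (algebraMap (Localization.AtPrime Q) (Localization.AtPrime Q')) :=
    Localization.isLocalHom_localRingHom Q Q' (algebraMap S S') Ideal.LiesOver.over
  haveI : Module.FaithfullyFlat (Localization.AtPrime Q) (Localization.AtPrime Q') :=
    Module.FaithfullyFlat.of_flat_of_isLocalHom
  rw [← flat_tensor_iff_of_faithfullyFlat R (Localization.AtPrime Q) (Localization.AtPrime Q')
    (LocalizedModule Q.primeCompl N)]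
  apply Module.Flat.equiv_iff
  let T := Localization.AtPrime Q'
  let A := Localization.AtPrime Q
  let e1 : T ⊗[S'] (S' ⊗[S] N) ≃ₗ[T] LocalizedModule Q'.primeCompl (S' ⊗[S] N) :=
    (IsLocalizedModule.isBaseChange Q'.primeCompl T
      (LocalizedModule.mkLinearMap Q'.primeCompl (S' ⊗[S] N))).equiv
  let e2 : T ⊗[S'] (S' ⊗[S] N) ≃ₗ[T] T ⊗[S] N := AlgebraTensorModule.cancelBaseChange S S' T T N
  let e3 : T ⊗[A] (A ⊗[S] N) ≃ₗ[T] T ⊗[S] N := AlgebraTensorModule.cancelBaseChange S A T T N
  let e4 : A ⊗[S] N ≃ₗ[A] LocalizedModule Q.primeCompl N :=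
    (IsLocalizedModule.isBaseChange Q.primeCompl A
      (LocalizedModule.mkLinearMap Q.primeCompl N)).equiv
  let e5 : T ⊗[A] (A ⊗[S] N) ≃ₗ[A] T ⊗[A] LocalizedModule Q.primeCompl N := e4.lTensor T
  exact (e1.symm.restrictScalars R).trans ((e2.restrictScalars R).trans
    ((e3.symm.restrictScalars R).trans (e5.restrictScalars R)))

end Pointwise

section LocalGlobal

variable {A : Type*} [CommRing A] (K : Type*) [CommRing K] [Algebra K A]
  (X : Type*) [AddCommGroup X] [Module A X] [Module K X] [IsScalarTower K A X]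

theorem flat_localized_of_forall_prime (M : Submonoid A)
    (H : ∀ (Q : Ideal A) [Q.IsPrime], (∀ m ∈ M, m ∉ Q) →
      Module.Flat K (LocalizedModule Q.primeCompl X)) :
    Module.Flat K (LocalizedModule M X) := by
  refine Module.flat_of_isLocalized_maximal (Localization M) (LocalizedModule M X)
    (fun P _ => LocalizedModule P.primeCompl (LocalizedModule M X))
    (fun P _ => LocalizedModule.mkLinearMap P.primeCompl (LocalizedModule M X)) ?_
  intro P hP
  have hunit : ∀ m ∈ M, algebraMap A (Localization M) m ∉ P := by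
    intro m hm hmP
    exact hP.ne_top (Ideal.eq_top_of_isUnit_mem _ hmP (IsLocalization.map_units _ ⟨m, hm⟩))
  let Q := P.comap (algebraMap A (Localization M))
  haveI : Q.IsPrime := Ideal.comap_isPrime _ _
  have hQ := H Q (fun m hm hmQ => hunit m hm hmQ)
  haveI h1 : IsLocalizedModule Q.primeCompl ((LocalizedModule.mkLinearMap P.primeCompl
      (LocalizedModule M X)).restrictScalars A) := by
    refine isLocalizedModule_of_dominate Q.primeCompl P.primeCompl _ (fun a ha => ha) ?_
    intro c hc
    obtain ⟨a, m, rfl⟩ := IsLocalization.exists_mk'_eq M c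
    refine ⟨a, ?_, algebraMap A (Localization M) m, IsLocalization.mk'_spec _ a m⟩
    intro haQ
    exact hc ((IsLocalization.mk'_mem_iff).mpr haQ)
  haveI h2 := isLocalizedModule_comp M Q.primeCompl (LocalizedModule.mkLinearMap M X)
    ((LocalizedModule.mkLinearMap P.primeCompl (LocalizedModule M X)).restrictScalars A)
    (fun m hm => ⟨1, by rw [mul_one]; exact fun hmQ => hunit m hm hmQ⟩)
  exact (Module.Flat.equiv_iff ((IsLocalizedModule.iso Q.primeCompl
    (((LocalizedModule.mkLinearMap P.primeCompl (LocalizedModule M X)).restrictScalars A) ∘ₗ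
      (LocalizedModule.mkLinearMap M X))).restrictScalars K)).mp hQ

end LocalGlobal

theorem exists_basicOpen_subset_image {S S' : Type u} [CommRing S] [CommRing S'] [Algebra S S']
    [Module.Flat S S'] [Algebra.FinitePresentation S S']
    (q : Ideal S) [q.IsPrime] (q' : Ideal S') [q'.IsPrime] [q'.LiesOver q] (s' : S')
    (hs' : s' ∉ q') :
    ∃ g : S, g ∉ q ∧ ∀ (Q : Ideal S) [Q.IsPrime], g ∉ Q →
      ∃ (Q' : Ideal S') (_ : Q'.IsPrime), Q'.LiesOver Q ∧ s' ∉ Q' := by
  have hopen : IsOpenMap (PrimeSpectrum.comap (algebraMap S S')) :=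
    PrimeSpectrum.isOpenMap_comap_of_hasGoingDown_of_finitePresentation
  have hU : IsOpen (PrimeSpectrum.comap (algebraMap S S') ''
      (PrimeSpectrum.basicOpen s' : Set (PrimeSpectrum S'))) :=
    hopen _ (PrimeSpectrum.basicOpen s').isOpen
  have hq : (⟨q, inferInstance⟩ : PrimeSpectrum S) ∈ PrimeSpectrum.comap (algebraMap S S') ''
      (PrimeSpectrum.basicOpen s' : Set (PrimeSpectrum S')) := by
    refine ⟨⟨q', inferInstance⟩, hs', ?_⟩
    ext1
    exact (Ideal.LiesOver.over (p := q) (P := q')).symm
  obtain ⟨v, ⟨g, rfl⟩, hqv, hvU⟩ :=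
    PrimeSpectrum.isTopologicalBasis_basic_opens.exists_subset_of_mem_open hq hU
  refine ⟨g, hqv, fun Q _ hgQ => ?_⟩
  obtain ⟨Q', hQ's, hQ'Q⟩ := hvU (show (⟨Q, inferInstance⟩ : PrimeSpectrum S) ∈ _ from hgQ)
  refine ⟨Q'.asIdeal, Q'.isPrime, ⟨?_⟩, hQ's⟩
  have := congrArg PrimeSpectrum.asIdeal hQ'Q
  exact this.symm

end Groth.Agent.Lib.Helper95.FlatLocB
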