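import Mathlib
import Groth.Agent.Lib.Helper95.FlatLocA
import Groth.Agent.Lib.Helper95.FlatLocB
import Groth.Agent.Lib.Helper46.WeaklyEtaleFlat

/-!
helper95: flatness along an elementary devissage (unbundled form).
-/

set_option autoImplicit false
set_option linter.style.haveILetI false
set_option linter.unusedSectionVars false

namespace Groth.Agent.Lib.Helper95.FlatLocC

open TensorProduct Groth.Agent.Lib.Helper95.FlatLocA Groth.Agent.Lib.Helper95.FlatLocB

universe u

section Powers

variable {A C : Type*} [CommRing A] [CommRing C] [Algebra A C]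
  (G : Type*) [AddCommGroup G] [Module C G] [Module A G] [IsScalarTower A C G]
  (K : Type*) [CommRing K] [Algebra K A] [Algebra K C] [IsScalarTower K A C]
  [Module K G] [IsScalarTower K A G] [IsScalarTower K C G]

theorem flat_powers_iff (a : A) :
    Module.Flat K (LocalizedModule (Submonoid.powers a) G) ↔
      Module.Flat K (LocalizedModule (Submonoid.powers (algebraMap A C a)) G) := by
  refine flat_localized_iff_of_dominate G (Submonoid.powers a)
    (Submonoid.powers (algebraMap A C a)) K ?_ ?_
  · rintro _ ⟨k, rfl⟩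
    exact ⟨k, by rw [map_pow]⟩
  · rintro _ ⟨k, rfl⟩
    exact ⟨a ^ k, ⟨k, rfl⟩, 1, by rw [mul_one, map_pow]⟩

theorem flat_prime_iff (P : Ideal A) [P.IsPrime] (z : Ideal C) [z.IsPrime] [z.LiesOver P]
    (hdom : ∀ c : C, c ∉ z → ∃ a : A, a ∉ P ∧ ∃ c' : C, c * c' = algebraMap A C a) :
    Module.Flat K (LocalizedModule P.primeCompl G) ↔
      Module.Flat K (LocalizedModule z.primeCompl G) := by
  refine flat_localized_iff_of_dominate G P.primeCompl z.primeCompl K ?_ ?_
  · intro a ha haz
    apply ha
    rw [Ideal.LiesOver.over (p := P) (P := z)]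
    exact haz
  · intro c hc
    obtain ⟨a, ha, c', hc'⟩ := hdom c hc
    exact ⟨a, ha, c', hc'⟩

end Powers

section One

variable {A : Type*} [CommRing A] (K : Type*) [CommRing K] [Algebra K A]
  (X : Type*) [AddCommGroup X] [Module A X] [Module K X] [IsScalarTower K A X]

theorem flat_prime_of_flat_powers (a : A) (Q : Ideal A) [Q.IsPrime] (ha : a ∉ Q)
    (h : Module.Flat K (LocalizedModule (Submonoid.powers a) X)) :
    Module.Flat K (LocalizedModule Q.primeCompl X) := by
  refine flat_localized_of_dvd K X (Submonoid.powers a) Q.primeCompl ?_ h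
  rintro _ ⟨k, rfl⟩
  exact ⟨1, by rw [mul_one]; exact fun hk => ha (Ideal.IsPrime.mem_of_pow_mem inferInstance k hk)⟩

theorem flat_powers_of_forall_prime (a : A)
    (H : ∀ (Q : Ideal A) [Q.IsPrime], a ∉ Q → Module.Flat K (LocalizedModule Q.primeCompl X)) :
    Module.Flat K (LocalizedModule (Submonoid.powers a) X) :=
  flat_localized_of_forall_prime K X (Submonoid.powers a)
    (fun Q _ hQ => H Q (hQ a (Submonoid.mem_powers a)))

end One

theorem tower_of_tower {R' S' C : Type*} [CommRing R'] [CommRing S'] [CommRing C] [Algebra R' S']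
    [Algebra S' C] [Algebra R' C] [IsScalarTower R' S' C] (G : Type*) [AddCommGroup G] [Module C G]
    [Module S' G] [IsScalarTower S' C G] [Module R' G] [IsScalarTower R' C G] :
    IsScalarTower R' S' G :=
  IsScalarTower.of_algebraMap_smul fun r x => by
    rw [← algebraMap_smul C (algebraMap R' S' r) x, ← IsScalarTower.algebraMap_apply R' S' C,
      algebraMap_smul]

section Main

variable {R S R' S' C D : Type u} [CommRing R] [CommRing S] [CommRing R'] [CommRing S']
  [CommRing C] [CommRing D]
  [Algebra R S] [Algebra R R'] [Algebra S S'] [Algebra R' S'] [Algebra R S']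
  [IsScalarTower R R' S'] [IsScalarTower R S S']
  [Algebra S' C] [Algebra D C] [Algebra R' D] [Algebra R' C] [IsScalarTower R' D C]
  [IsScalarTower R' S' C]
  (N : Type u) [AddCommGroup N] [Module S N] [Module R N] [IsScalarTower R S N]
  (G : Type u) [AddCommGroup G] [Module C G] [Module S' G] [IsScalarTower S' C G] [Module D G]
  [IsScalarTower D C G] [Module R' G] [IsScalarTower R' C G] [IsScalarTower R' D G]
  (q : Ideal S) [q.IsPrime] (q' : Ideal S') [q'.IsPrime] (z : Ideal C) [z.IsPrime]
  (y : Ideal D) [y.IsPrime] [q'.LiesOver q] [z.LiesOver q'] [z.LiesOver y]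
  [Algebra.Etale R R'] [Algebra.Etale S S'] [Module.Finite D C]

/-- weakly etale change of base ring -/
theorem flat_iff_of_etale (Z : Type u) [AddCommGroup Z] [Module R Z] [Module R' Z]
    [IsScalarTower R R' Z] : Module.Flat R Z ↔ Module.Flat R' Z := by
  constructor
  · intro h
    exact Groth.Agent.Lib.Helper46.WeaklyEtaleFlat.flat_of_flat_of_weaklyEtale R R' Z
  · intro h
    exact Module.Flat.trans R R' Z

variable (e : S' ⊗[S] N ≃ₗ[S'] G) (surjC : Function.Surjective (algebraMap S' C))
  (uniq : ∀ (z₁ : Ideal C) [z₁.IsPrime], z₁.LiesOver y → z₁ = z)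

include q' e surjC in
theorem flat_at_iff_z :
    Module.Flat R (LocalizedModule q.primeCompl N) ↔
      Module.Flat R' (LocalizedModule z.primeCompl G) := by
  haveI : IsScalarTower R' S' G := tower_of_tower (S' := S') (C := C) G
  have h1 := flat_localized_baseChange_iff (R := R) (S' := S') N q q'
  have h2 := flat_iff_of_etale (R := R) (R' := R') (LocalizedModule q'.primeCompl (S' ⊗[S] N))
  have h3 := flat_localized_iff_of_equiv R' (S' ⊗[S] N) G q'.primeCompl e
  have h4 : Module.Flat R' (LocalizedModule q'.primeCompl G) ↔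
      Module.Flat R' (LocalizedModule z.primeCompl G) := by
    refine flat_prime_iff G R' q' z ?_
    intro c hc
    obtain ⟨s', rfl⟩ := surjC c
    refine ⟨s', ?_, 1, mul_one _⟩
    rw [Ideal.LiesOver.over (p := q') (P := z)]
    exact hc
  exact h1.symm.trans (h2.trans (h3.trans h4))

include uniq in
theorem flat_at_y_iff_z :
    Module.Flat R' (LocalizedModule y.primeCompl G) ↔
      Module.Flat R' (LocalizedModule z.primeCompl G) :=
  flat_prime_iff G R' y z
    (fun c hc => exists_mul_eq_algebraMap_of_unique y z uniq c hc)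

include uniq in
theorem exists_flat_powers_D_iff_C :
    (∃ g : D, g ∉ y ∧ Module.Flat R' (LocalizedModule (Submonoid.powers g) G)) ↔
      (∃ g : C, g ∉ z ∧ Module.Flat R' (LocalizedModule (Submonoid.powers g) G)) := by
  constructor
  · rintro ⟨d, hd, hf⟩
    refine ⟨algebraMap D C d, ?_, (flat_powers_iff (C := C) G R' d).mp hf⟩
    intro hz
    apply hd
    rw [Ideal.LiesOver.over (p := y) (P := z)]
    exact hz
  · rintro ⟨c, hc, hf⟩
    obtain ⟨d, hd, c', hcc⟩ := exists_mul_eq_algebraMap_of_unique y z uniq c hc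
    refine ⟨d, hd, (flat_powers_iff (C := C) G R' d).mpr ?_⟩
    refine flat_localized_of_dvd R' G (Submonoid.powers c)
      (Submonoid.powers (algebraMap D C d)) ?_ hf
    rintro _ ⟨k, rfl⟩
    exact ⟨c' ^ k, (Submonoid.mem_powers_iff _ _).mpr ⟨k, by rw [← hcc, mul_pow]⟩⟩

include q' e surjC in
theorem exists_flat_powers_S_iff_C :
    (∃ g : S, g ∉ q ∧ Module.Flat R (LocalizedModule (Submonoid.powers g) N)) ↔
      (∃ g : C, g ∉ z ∧ Module.Flat R' (LocalizedModule (Submonoid.powers g) G)) := by
  haveI : IsScalarTower R' S' G := tower_of_tower (S' := S') (C := C) G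
  constructor
  · rintro ⟨g, hg, hf⟩
    have hg' : algebraMap S S' g ∉ q' := by
      intro h
      apply hg
      rw [Ideal.LiesOver.over (p := q) (P := q')]
      exact h
    refine ⟨algebraMap S' C (algebraMap S S' g), ?_, ?_⟩
    · intro h
      apply hg'
      rw [Ideal.LiesOver.over (p := q') (P := z)]
      exact h
    · have h1 : Module.Flat R
          (LocalizedModule (Submonoid.powers (algebraMap S S' g)) (S' ⊗[S] N)) := by
        refine flat_powers_of_forall_prime R (S' ⊗[S] N) (algebraMap S S' g) ?_
        intro Q' _ hQ'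
        refine (flat_localized_baseChange_iff (R := R) (S' := S') N (Q'.under S) Q').mpr ?_
        refine flat_prime_of_flat_powers R N g (Q'.under S) ?_ hf
        intro h
        exact hQ' h
      have h2 := (flat_iff_of_etale (R := R) (R' := R')
        (LocalizedModule (Submonoid.powers (algebraMap S S' g)) (S' ⊗[S] N))).mp h1
      have h3 := (flat_localized_iff_of_equiv R' (S' ⊗[S] N) G
        (Submonoid.powers (algebraMap S S' g)) e).mp h2
      exact (flat_powers_iff (C := C) G R' (algebraMap S S' g)).mp h3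
  · rintro ⟨c, hc, hf⟩
    obtain ⟨s', rfl⟩ := surjC c
    have hs' : s' ∉ q' := by
      intro h
      apply hc
      rw [Ideal.LiesOver.over (p := q') (P := z)] at h
      exact h
    have h3 := (flat_powers_iff (C := C) G R' s').mpr hf
    have h2 := (flat_localized_iff_of_equiv R' (S' ⊗[S] N) G (Submonoid.powers s') e).mpr h3
    have h1 := (flat_iff_of_etale (R := R) (R' := R')
      (LocalizedModule (Submonoid.powers s') (S' ⊗[S] N))).mpr h2
    obtain ⟨g, hgq, hg⟩ := exists_basicOpen_subset_image q q' s' hs'
    refine ⟨g, hgq, flat_powers_of_forall_prime R N g ?_⟩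
    intro Q _ hQ
    obtain ⟨Q', hQ'p, hQ'o, hQ's⟩ := hg Q hQ
    haveI := hQ'p
    haveI := hQ'o
    refine (flat_localized_baseChange_iff (R := R) (S' := S') N Q Q').mp ?_
    exact flat_prime_of_flat_powers R (S' ⊗[S] N) s' Q' hQ's h1

end Main

end Groth.Agent.Lib.Helper95.FlatLocC
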