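import Mathlib

/-!
helper95: finite presentation of modules: change of ring along a finitely presented module-finite
algebra, faithfully flat descent.
-/

set_option autoImplicit false
set_option linter.style.haveILetI false
set_option linter.unusedSectionVars false

namespace Groth.Agent.Lib.Helper95.FpLocA

open TensorProduct

section RingChange

variable (A C : Type*) [CommRing A] [CommRing C] [Algebra A C] [Module.FinitePresentation A C]
  (G : Type*) [AddCommGroup G] [Module C G] [Module A G] [IsScalarTower A C G]

/-- Over an algebra which is a finitely presented module, finite presentation of a module can be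
tested over the base. -/
theorem finitePresentation_iff_of_fp_algebra :
    Module.FinitePresentation A G ↔ Module.FinitePresentation C G := by
  constructor
  · intro h
    haveI : Module.Finite C G := Module.Finite.of_restrictScalars_finite A C G
    obtain ⟨n, π, hπ⟩ := Module.Finite.exists_fin' C G
    refine Module.finitePresentation_of_surjective π hπ ?_
    have h1 : (LinearMap.ker (π.restrictScalars A)).FG :=
      Module.FinitePresentation.fg_ker (π.restrictScalars A) hπ
    rw [LinearMap.ker_restrictScalars] at h1
    exact Submodule.FG.of_restrictScalars A h1
  · intro h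
    exact Module.FinitePresentation.trans A G C

end RingChange

section Descent

variable (A₁ A₂ : Type*) [CommRing A₁] [CommRing A₂] [Algebra A₁ A₂] [Module.FaithfullyFlat A₁ A₂]
  (Y : Type*) [AddCommGroup Y] [Module A₁ Y]

/-- Faithfully flat descent of finite presentation of modules. -/
theorem finitePresentation_of_faithfullyFlat [h : Module.FinitePresentation A₂ (A₂ ⊗[A₁] Y)] :
    Module.FinitePresentation A₁ Y := by
  haveI : Module.Finite A₁ Y := Module.Finite.of_finite_tensorProduct_of_faithfullyFlat A₂
  obtain ⟨n, π, hπ⟩ := Module.Finite.exists_fin' A₁ Y
  refine Module.finitePresentation_of_surjective π hπ ?_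
  have hex : Function.Exact ((LinearMap.ker π).subtype.baseChange A₂) (π.baseChange A₂) :=
    lTensor_exact A₂ π.exact_subtype_ker_map hπ
  have hfg : (LinearMap.ker (π.baseChange A₂)).FG :=
    Module.FinitePresentation.fg_ker (π.baseChange A₂) (LinearMap.lTensor_surjective A₂ hπ)
  rw [LinearMap.exact_iff] at hex
  rw [hex] at hfg
  have hinj : Function.Injective ((LinearMap.ker π).subtype.baseChange A₂) :=
    Module.Flat.lTensor_preserves_injective_linearMap _ (Submodule.injective_subtype _)
  haveI : Module.Finite A₂ (A₂ ⊗[A₁] (LinearMap.ker π)) := by
    have e := LinearEquiv.ofInjective ((LinearMap.ker π).subtype.baseChange A₂) hinj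
    haveI : Module.Finite A₂ (LinearMap.range ((LinearMap.ker π).subtype.baseChange A₂)) :=
      Module.Finite.of_fg hfg
    exact Module.Finite.equiv e.symm
  haveI : Module.Finite A₁ (LinearMap.ker π) :=
    Module.Finite.of_finite_tensorProduct_of_faithfullyFlat A₂
  exact (Module.Finite.iff_fg).mp inferInstance

theorem finitePresentation_tensor_iff_of_faithfullyFlat :
    Module.FinitePresentation A₂ (A₂ ⊗[A₁] Y) ↔ Module.FinitePresentation A₁ Y :=
  ⟨fun _ => finitePresentation_of_faithfullyFlat A₁ A₂ Y, fun _ => inferInstance⟩

end Descent

end Groth.Agent.Lib.Helper95.FpLocA
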