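import Mathlib
import Groth.Agent.Lib.Helper95.FlatLocA
import Groth.Agent.Lib.Helper95.FlatLocB
import Groth.Agent.Lib.Helper95.FpLocA

/-!
helper95: finite presentation of localized modules: change of ring, base change along flat maps,
descent.
-/

set_option autoImplicit false
set_option linter.style.haveILetI false
set_option linter.unusedSectionVars false

namespace Groth.Agent.Lib.Helper95.FpLocB

open TensorProduct Groth.Agent.Lib.Helper95.FlatLocA Groth.Agent.Lib.Helper95.FlatLocB
  Groth.Agent.Lib.Helper95.FpLocA

universe u

theorem fp_of_equiv {R : Type*} [CommRing R] {M N : Type*} [AddCommGroup M] [AddCommGroup N]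
    [Module R M] [Module R N] (e : M ≃ₗ[R] N) (h : Module.FinitePresentation R M) :
    Module.FinitePresentation R N :=
  Module.FinitePresentation.of_equiv e

section LocAlg

variable {A C : Type*} [CommRing A] [CommRing C] [Algebra A C]
  (M : Submonoid A) (M' : Submonoid C)

/-- algebra between localizations -/
@[reducible] noncomputable def algLoc (hle : M ≤ M'.comap (algebraMap A C)) :
    Algebra (Localization M) (Localization M') :=
  (IsLocalization.map (Localization M') (algebraMap A C) hle).toAlgebra

theorem algLoc_tower (hle : M ≤ M'.comap (algebraMap A C)) :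
    letI := algLoc M M' hle
    IsScalarTower A (Localization M) (Localization M') :=
  letI := algLoc M M' hle
  IsScalarTower.of_algebraMap_eq fun a => by
    show _ = IsLocalization.map (Localization M') (algebraMap A C) hle
      (algebraMap A (Localization M) a)
    rw [IsLocalization.map_eq, ← IsScalarTower.algebraMap_apply]

theorem fp_localized_iff_of_dominate [Module.FinitePresentation A C]
    (G : Type*) [AddCommGroup G] [Module C G] [Module A G] [IsScalarTower A C G]
    (h1 : ∀ a ∈ M, algebraMap A C a ∈ M')
    (h2 : ∀ c ∈ M', ∃ a ∈ M, ∃ c' : C, c * c' = algebraMap A C a) :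
    Module.FinitePresentation (Localization M) (LocalizedModule M G) ↔
      Module.FinitePresentation (Localization M') (LocalizedModule M' G) := by
  have hle : M ≤ M'.comap (algebraMap A C) := fun a ha => h1 a ha
  letI := algLoc M M' hle
  haveI : IsScalarTower A (Localization M) (Localization M') := algLoc_tower M M' hle
  haveI hloc : IsLocalizedModule M
      ((Algebra.linearMap C (Localization M')).restrictScalars A) :=
    isLocalizedModule_of_dominate M M' (Algebra.linearMap C (Localization M')) h1 h2
  haveI : Module.FinitePresentation (Localization M) (Localization M') :=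
    _root_.FinitePresentation.of_isBaseChange
      ((Algebra.linearMap C (Localization M')).restrictScalars A)
      (IsLocalizedModule.isBaseChange M (Localization M) _)
  letI : Module (Localization M) (LocalizedModule M' G) :=
    Module.compHom _ (algebraMap (Localization M) (Localization M'))
  haveI : IsScalarTower (Localization M) (Localization M') (LocalizedModule M' G) :=
    IsScalarTower.of_algebraMap_smul fun r x => rfl
  haveI : IsScalarTower A (Localization M) (LocalizedModule M' G) :=
    IsScalarTower.of_algebraMap_smul fun a x => by
      show algebraMap (Localization M) (Localization M') (algebraMap A (Localization M) a) • x = _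
      rw [← IsScalarTower.algebraMap_apply, algebraMap_smul]
  haveI := isLocalizedModule_of_dominate M M' (LocalizedModule.mkLinearMap M' G) h1 h2
  let e0 := IsLocalizedModule.iso M ((LocalizedModule.mkLinearMap M' G).restrictScalars A)
  let e := e0.extendScalarsOfIsLocalization M (Localization M)
  rw [e.finitePresentation_iff]
  exact finitePresentation_iff_of_fp_algebra (Localization M) (Localization M') _

end LocAlg

section Equiv

variable {A : Type*} [CommRing A] (M : Submonoid A)
  (X X' : Type*) [AddCommGroup X] [Module A X] [AddCommGroup X'] [Module A X']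

theorem fp_localized_iff_of_equiv (e : X ≃ₗ[A] X') :
    Module.FinitePresentation (Localization M) (LocalizedModule M X) ↔
      Module.FinitePresentation (Localization M) (LocalizedModule M X') := by
  constructor
  · intro h
    exact fp_of_equiv (R := Localization M) (M := LocalizedModule M X)
      (N := LocalizedModule M X') (IsLocalizedModule.mapEquiv M
      (LocalizedModule.mkLinearMap M X) (LocalizedModule.mkLinearMap M X') (Localization M) e) h
  · intro h
    exact fp_of_equiv (R := Localization M) (M := LocalizedModule M X')
      (N := LocalizedModule M X) (IsLocalizedModule.mapEquiv M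
      (LocalizedModule.mkLinearMap M X) (LocalizedModule.mkLinearMap M X') (Localization M) e).symm h

end Equiv

section Chain

variable {S S' : Type*} [CommRing S] [CommRing S'] [Algebra S S']
  (N : Type*) [AddCommGroup N] [Module S N]
  (M : Submonoid S) (M' : Submonoid S')
  [Algebra (Localization M) (Localization M')]
  [IsScalarTower S (Localization M) (Localization M')]

/-- `M'⁻¹(S' ⊗ N) = M'⁻¹S' ⊗_{M⁻¹S} M⁻¹N`. -/
noncomputable def chainEquiv :
    LocalizedModule M' (S' ⊗[S] N) ≃ₗ[Localization M']
      (Localization M') ⊗[Localization M] (LocalizedModule M N) :=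
  let T := Localization M'
  let A := Localization M
  let e1 : T ⊗[S'] (S' ⊗[S] N) ≃ₗ[T] LocalizedModule M' (S' ⊗[S] N) :=
    (IsLocalizedModule.isBaseChange M' T (LocalizedModule.mkLinearMap M' (S' ⊗[S] N))).equiv
  let e2 : T ⊗[S'] (S' ⊗[S] N) ≃ₗ[T] T ⊗[S] N := AlgebraTensorModule.cancelBaseChange S S' T T N
  let e3 : T ⊗[A] (A ⊗[S] N) ≃ₗ[T] T ⊗[S] N := AlgebraTensorModule.cancelBaseChange S A T T N
  let e4 : A ⊗[S] N ≃ₗ[A] LocalizedModule M N :=
    (IsLocalizedModule.isBaseChange M A (LocalizedModule.mkLinearMap M N)).equiv
  let e5 : T ⊗[A] (A ⊗[S] N) ≃ₗ[T] T ⊗[A] LocalizedModule M N :=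
    AlgebraTensorModule.congr (LinearEquiv.refl T T) e4
  e1.symm ≪≫ₗ e2 ≪≫ₗ e3.symm ≪≫ₗ e5

theorem fp_baseChange_of_fp
    (h : Module.FinitePresentation (Localization M) (LocalizedModule M N)) :
    Module.FinitePresentation (Localization M') (LocalizedModule M' (S' ⊗[S] N)) := by
  have h' : Module.FinitePresentation (Localization M')
      ((Localization M') ⊗[Localization M] (LocalizedModule M N)) := inferInstance
  exact fp_of_equiv (R := Localization M')
    (M := (Localization M') ⊗[Localization M] (LocalizedModule M N))
    (N := LocalizedModule M' (S' ⊗[S] N)) (chainEquiv N M M').symm h'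

theorem fp_baseChange_iff_of_faithfullyFlat
    [Module.FaithfullyFlat (Localization M) (Localization M')] :
    Module.FinitePresentation (Localization M') (LocalizedModule M' (S' ⊗[S] N)) ↔
      Module.FinitePresentation (Localization M) (LocalizedModule M N) := by
  constructor
  · intro h
    haveI : Module.FinitePresentation (Localization M')
        ((Localization M') ⊗[Localization M] (LocalizedModule M N)) :=
      fp_of_equiv (R := Localization M') (M := LocalizedModule M' (S' ⊗[S] N))
        (N := (Localization M') ⊗[Localization M] (LocalizedModule M N)) (chainEquiv N M M') h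
    exact finitePresentation_of_faithfullyFlat (Localization M) (Localization M')
      (LocalizedModule M N)
  · intro h
    exact fp_baseChange_of_fp N M M' h

end Chain

section Mono

variable {A : Type*} [CommRing A] (X : Type*) [AddCommGroup X] [Module A X]

theorem fp_localized_mono (M₁ M₂ : Submonoid A) (hle : M₁ ≤ M₂)
    (h : Module.FinitePresentation (Localization M₁) (LocalizedModule M₁ X)) :
    Module.FinitePresentation (Localization M₂) (LocalizedModule M₂ X) := by
  have hle' : M₁ ≤ M₂.comap (algebraMap A A) := fun a ha => hle ha
  letI := algLoc M₁ M₂ hle'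
  haveI : IsScalarTower A (Localization M₁) (Localization M₂) := algLoc_tower M₁ M₂ hle'
  have h2 := fp_baseChange_of_fp (S' := A) X M₁ M₂ h
  exact (fp_localized_iff_of_equiv M₂ (A ⊗[A] X) X (TensorProduct.lid A X)).mp h2

end Mono

section Pointwise

variable {S S' : Type*} [CommRing S] [CommRing S'] [Algebra S S'] [Module.Flat S S']
  (N : Type*) [AddCommGroup N] [Module S N]
  (Q : Ideal S) [Q.IsPrime] (Q' : Ideal S') [Q'.IsPrime] [Q'.LiesOver Q]

theorem fp_localized_baseChange_iff :
    Module.FinitePresentation (Localization.AtPrime Q')
        (LocalizedModule Q'.primeCompl (S' ⊗[S] N)) ↔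
      Module.FinitePresentation (Localization.AtPrime Q) (LocalizedModule Q.primeCompl N) := by
  letI := Localization.AtPrime.algebraOfLiesOver Q Q'
  haveI : Module.Flat (Localization.AtPrime Q) (Localization.AtPrime Q') := inferInstance
  haveI : IsLocalHom (algebraMap (Localization.AtPrime Q) (Localization.AtPrime Q')) :=
    Localization.isLocalHom_localRingHom Q Q' (algebraMap S S') Ideal.LiesOver.over
  haveI : Module.FaithfullyFlat (Localization.AtPrime Q) (Localization.AtPrime Q') :=
    Module.FaithfullyFlat.of_flat_of_isLocalHom
  exact fp_baseChange_iff_of_faithfullyFlat N Q.primeCompl Q'.primeCompl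

end Pointwise

end Groth.Agent.Lib.Helper95.FpLocB
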