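import Mathlib
import Groth.Agent.Lib.Helper95.FlatLocA
import Groth.Agent.Lib.Helper95.FlatLocB
import Groth.Agent.Lib.Helper95.FpLocA
import Groth.Agent.Lib.Helper95.FpLocB

/-!
helper95: finite presentation along an elementary devissage (unbundled form).
-/

set_option autoImplicit false
set_option linter.style.haveILetI false
set_option linter.unusedSectionVars false

namespace Groth.Agent.Lib.Helper95.FpLocC

open TensorProduct Groth.Agent.Lib.Helper95.FlatLocA Groth.Agent.Lib.Helper95.FlatLocB
  Groth.Agent.Lib.Helper95.FpLocA Groth.Agent.Lib.Helper95.FpLocB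

universe u

theorem faithfullyFlat_loc {S S' : Type*} [CommRing S] [CommRing S'] [Algebra S S']
    [Module.Flat S S'] (M : Submonoid S) (M' : Submonoid S')
    (hle : M ≤ M'.comap (algebraMap S S'))
    (H : ∀ (Q : Ideal S) [Q.IsPrime], Disjoint (M : Set S) Q →
      ∃ (Q' : Ideal S') (_ : Q'.IsPrime), Disjoint (M' : Set S') Q' ∧
        Q'.comap (algebraMap S S') = Q) :
    letI := algLoc M M' hle
    Module.FaithfullyFlat (Localization M) (Localization M') := by
  letI := algLoc M M' hle
  haveI : IsScalarTower S (Localization M) (Localization M') := algLoc_tower M M' hle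
  haveI : Module.Flat S (Localization M') := Module.Flat.trans S S' (Localization M')
  haveI : Module.Flat (Localization M) (Localization M') :=
    (Module.flat_iff_of_isLocalization (Localization M) M (Localization M')).mpr inferInstance
  refine Module.FaithfullyFlat.of_comap_surjective fun P => ?_
  have hP := (IsLocalization.isPrime_iff_isPrime_disjoint M (Localization M) P.asIdeal).mp
    P.isPrime
  haveI := hP.1
  obtain ⟨Q', hQ'p, hQ'd, hQ'Q⟩ := H (P.asIdeal.comap (algebraMap S (Localization M))) hP.2
  have hP'p : (Q'.map (algebraMap S' (Localization M'))).IsPrime :=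
    IsLocalization.isPrime_of_isPrime_disjoint M' _ Q' hQ'p hQ'd
  have hP'c : (Q'.map (algebraMap S' (Localization M'))).comap
      (algebraMap S' (Localization M')) = Q' :=
    IsLocalization.under_map_of_isPrime_disjoint M' _ hQ'p hQ'd
  refine ⟨⟨Q'.map (algebraMap S' (Localization M')), hP'p⟩, ?_⟩
  ext1
  show (Q'.map (algebraMap S' (Localization M'))).comap
    (algebraMap (Localization M) (Localization M')) = P.asIdeal
  have key : ((Q'.map (algebraMap S' (Localization M'))).comap
      (algebraMap (Localization M) (Localization M'))).comap (algebraMap S (Localization M)) =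
      P.asIdeal.comap (algebraMap S (Localization M)) := by
    rw [Ideal.comap_comap, ← IsScalarTower.algebraMap_eq,
      IsScalarTower.algebraMap_eq S S' (Localization M'), ← Ideal.comap_comap, hP'c, hQ'Q]
  have e1 := IsLocalization.map_under M (Localization M)
    ((Q'.map (algebraMap S' (Localization M'))).comap
      (algebraMap (Localization M) (Localization M')))
  have e2 := IsLocalization.map_under M (Localization M) P.asIdeal
  rw [← e1, ← e2]
  exact congrArg (Ideal.map (algebraMap S (Localization M))) key

section Powers

variable {A C : Type*} [CommRing A] [CommRing C] [Algebra A C] [Module.FinitePresentation A C]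
  (G : Type*) [AddCommGroup G] [Module C G] [Module A G] [IsScalarTower A C G]

theorem fp_powers_iff (a : A) :
    Module.FinitePresentation (Localization (Submonoid.powers a))
        (LocalizedModule (Submonoid.powers a) G) ↔
      Module.FinitePresentation (Localization (Submonoid.powers (algebraMap A C a)))
        (LocalizedModule (Submonoid.powers (algebraMap A C a)) G) := by
  refine fp_localized_iff_of_dominate (Submonoid.powers a)
    (Submonoid.powers (algebraMap A C a)) G ?_ ?_
  · rintro _ ⟨k, rfl⟩
    exact ⟨k, by rw [map_pow]⟩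
  · rintro _ ⟨k, rfl⟩
    exact ⟨a ^ k, ⟨k, rfl⟩, 1, by rw [mul_one, map_pow]⟩

theorem fp_prime_iff (P : Ideal A) [P.IsPrime] (z : Ideal C) [z.IsPrime] [z.LiesOver P]
    (hdom : ∀ c : C, c ∉ z → ∃ a : A, a ∉ P ∧ ∃ c' : C, c * c' = algebraMap A C a) :
    Module.FinitePresentation (Localization.AtPrime P) (LocalizedModule P.primeCompl G) ↔
      Module.FinitePresentation (Localization.AtPrime z) (LocalizedModule z.primeCompl G) := by
  refine fp_localized_iff_of_dominate P.primeCompl z.primeCompl G ?_ ?_
  · intro a ha haz
    apply ha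
    rw [Ideal.LiesOver.over (p := P) (P := z)]
    exact haz
  · intro c hc
    obtain ⟨a, ha, c', hc'⟩ := hdom c hc
    exact ⟨a, ha, c', hc'⟩

end Powers

section Main

variable {S S' C D : Type u} [CommRing S] [CommRing S'] [CommRing C] [CommRing D]
  [Algebra S S'] [Algebra S' C] [Algebra D C]
  (N : Type u) [AddCommGroup N] [Module S N]
  (G : Type u) [AddCommGroup G] [Module C G] [Module S' G] [IsScalarTower S' C G] [Module D G]
  [IsScalarTower D C G]
  (q : Ideal S) [q.IsPrime] (q' : Ideal S') [q'.IsPrime] (z : Ideal C) [z.IsPrime]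
  (y : Ideal D) [y.IsPrime] [q'.LiesOver q] [z.LiesOver q'] [z.LiesOver y]
  [Module.Flat S S'] [Algebra.FinitePresentation S S'] [Module.FinitePresentation S' C]
  [Module.FinitePresentation D C]
  (e : S' ⊗[S] N ≃ₗ[S'] G) (surjC : Function.Surjective (algebraMap S' C))
  (uniq : ∀ (z₁ : Ideal C) [z₁.IsPrime], z₁.LiesOver y → z₁ = z)

include q' e surjC in
theorem fp_at_iff_z :
    Module.FinitePresentation (Localization.AtPrime q) (LocalizedModule q.primeCompl N) ↔
      Module.FinitePresentation (Localization.AtPrime z) (LocalizedModule z.primeCompl G) := by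
  have h1 := fp_localized_baseChange_iff (S' := S') N q q'
  have h3 := fp_localized_iff_of_equiv q'.primeCompl (S' ⊗[S] N) G e
  have h4 : Module.FinitePresentation (Localization.AtPrime q')
        (LocalizedModule q'.primeCompl G) ↔
      Module.FinitePresentation (Localization.AtPrime z) (LocalizedModule z.primeCompl G) := by
    refine fp_prime_iff G q' z ?_
    intro c hc
    obtain ⟨s', rfl⟩ := surjC c
    refine ⟨s', ?_, 1, mul_one _⟩
    rw [Ideal.LiesOver.over (p := q') (P := z)]
    exact hc
  exact h1.symm.trans (h3.trans h4)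

include uniq in
theorem fp_at_y_iff_z :
    Module.FinitePresentation (Localization.AtPrime y) (LocalizedModule y.primeCompl G) ↔
      Module.FinitePresentation (Localization.AtPrime z) (LocalizedModule z.primeCompl G) :=
  haveI : Algebra.IsIntegral D C := inferInstance
  fp_prime_iff G y z (fun c hc => exists_mul_eq_algebraMap_of_unique y z uniq c hc)

include uniq in
theorem exists_fp_powers_D_iff_C :
    (∃ g : D, g ∉ y ∧ Module.FinitePresentation (Localization.Away g)
        (LocalizedModule (Submonoid.powers g) G)) ↔
      (∃ g : C, g ∉ z ∧ Module.FinitePresentation (Localization.Away g)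
        (LocalizedModule (Submonoid.powers g) G)) := by
  haveI : Algebra.IsIntegral D C := inferInstance
  constructor
  · rintro ⟨d, hd, hf⟩
    refine ⟨algebraMap D C d, ?_, (fp_powers_iff (C := C) G d).mp hf⟩
    intro hz
    apply hd
    rw [Ideal.LiesOver.over (p := y) (P := z)]
    exact hz
  · rintro ⟨c, hc, hf⟩
    obtain ⟨d, hd, c', hcc⟩ := exists_mul_eq_algebraMap_of_unique y z uniq c hc
    refine ⟨d, hd, (fp_powers_iff (C := C) G d).mpr ?_⟩
    have h1 := fp_localized_mono G (Submonoid.powers c)
      (Submonoid.powers c ⊔ Submonoid.powers c') le_sup_left hf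
    refine (fp_localized_iff_of_dominate (A := C) (C := C)
      (Submonoid.powers (algebraMap D C d)) (Submonoid.powers c ⊔ Submonoid.powers c') G
      ?_ ?_).mpr h1
    · rintro _ ⟨k, rfl⟩
      show (algebraMap D C d) ^ k ∈ _
      rw [← hcc, mul_pow]
      exact Submonoid.mul_mem _ (le_sup_left (a := Submonoid.powers c) ⟨k, rfl⟩)
        (le_sup_right (b := Submonoid.powers c') ⟨k, rfl⟩)
    · intro m hm
      obtain ⟨_, ⟨i, rfl⟩, _, ⟨j, rfl⟩, rfl⟩ := Submonoid.mem_sup.mp hm
      refine ⟨(algebraMap D C d) ^ (i + j), ⟨i + j, rfl⟩, c ^ j * c' ^ i, ?_⟩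
      show c ^ i * c' ^ j * (c ^ j * c' ^ i) = (algebraMap D C d) ^ (i + j)
      rw [← hcc]
      ring

include q' e surjC in
theorem exists_fp_powers_S_iff_C :
    (∃ g : S, g ∉ q ∧ Module.FinitePresentation (Localization.Away g)
        (LocalizedModule (Submonoid.powers g) N)) ↔
      (∃ g : C, g ∉ z ∧ Module.FinitePresentation (Localization.Away g)
        (LocalizedModule (Submonoid.powers g) G)) := by
  constructor
  · rintro ⟨g, hg, hf⟩
    have hg' : algebraMap S S' g ∉ q' := by
      intro h
      apply hg
      rw [Ideal.LiesOver.over (p := q) (P := q')]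
      exact h
    refine ⟨algebraMap S' C (algebraMap S S' g), ?_, ?_⟩
    · intro h
      apply hg'
      rw [Ideal.LiesOver.over (p := q') (P := z)]
      exact h
    · have hle : Submonoid.powers g ≤
          (Submonoid.powers (algebraMap S S' g)).comap (algebraMap S S') := by
        rintro _ ⟨k, rfl⟩
        exact ⟨k, by rw [map_pow]⟩
      letI := algLoc (Submonoid.powers g) (Submonoid.powers (algebraMap S S' g)) hle
      haveI : IsScalarTower S (Localization (Submonoid.powers g))
          (Localization (Submonoid.powers (algebraMap S S' g))) := algLoc_tower _ _ hle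
      have h1 := fp_baseChange_of_fp N (Submonoid.powers g)
        (Submonoid.powers (algebraMap S S' g)) hf
      have h2 := (fp_localized_iff_of_equiv (Submonoid.powers (algebraMap S S' g))
        (S' ⊗[S] N) G e).mp h1
      exact (fp_powers_iff (C := C) G (algebraMap S S' g)).mp h2
  · rintro ⟨c, hc, hf⟩
    obtain ⟨s', rfl⟩ := surjC c
    have hs' : s' ∉ q' := by
      intro h
      apply hc
      rw [Ideal.LiesOver.over (p := q') (P := z)] at h
      exact h
    have h3 := (fp_powers_iff (C := C) G s').mpr hf
    have h2 := (fp_localized_iff_of_equiv (Submonoid.powers s') (S' ⊗[S] N) G e).mpr h3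
    obtain ⟨g, hgq, hg⟩ := exists_basicOpen_subset_image q q' s' hs'
    refine ⟨g, hgq, ?_⟩
    have h1 := fp_localized_mono (S' ⊗[S] N) (Submonoid.powers s')
      (Submonoid.powers s' ⊔ Submonoid.powers (algebraMap S S' g)) le_sup_left h2
    have hle : Submonoid.powers g ≤
        (Submonoid.powers s' ⊔ Submonoid.powers (algebraMap S S' g)).comap
          (algebraMap S S') := by
      rintro _ ⟨k, rfl⟩
      exact le_sup_right (b := Submonoid.powers (algebraMap S S' g)) ⟨k, by rw [map_pow]⟩
    letI := algLoc (Submonoid.powers g)
      (Submonoid.powers s' ⊔ Submonoid.powers (algebraMap S S' g)) hle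
    haveI : IsScalarTower S (Localization (Submonoid.powers g))
        (Localization (Submonoid.powers s' ⊔ Submonoid.powers (algebraMap S S' g))) :=
      algLoc_tower _ _ hle
    haveI : Module.FaithfullyFlat (Localization (Submonoid.powers g))
        (Localization (Submonoid.powers s' ⊔ Submonoid.powers (algebraMap S S' g))) := by
      refine faithfullyFlat_loc _ _ hle ?_
      intro Q _ hQd
      have hgQ : g ∉ Q := fun h => Set.disjoint_left.mp hQd (Submonoid.mem_powers g) h
      obtain ⟨Q', hQ'p, hQ'o, hQ's⟩ := hg Q hgQ
      refine ⟨Q', hQ'p, ?_, (Ideal.LiesOver.over (p := Q) (P := Q')).symm⟩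
      have hg'Q' : algebraMap S S' g ∉ Q' := by
        intro h
        apply hgQ
        rw [Ideal.LiesOver.over (p := Q) (P := Q')]
        exact h
      have hsup : Submonoid.powers s' ⊔ Submonoid.powers (algebraMap S S' g) ≤ Q'.primeCompl :=
        sup_le ((Submonoid.powers_le).mpr hQ's) ((Submonoid.powers_le).mpr hg'Q')
      exact Set.disjoint_left.mpr fun m hm hmQ => hsup hm hmQ
    exact (fp_baseChange_iff_of_faithfullyFlat N (Submonoid.powers g)
      (Submonoid.powers s' ⊔ Submonoid.powers (algebraMap S S' g))).mp h1

end Main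

end Groth.Agent.Lib.Helper95.FpLocC
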