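import Mathlib

/-!
# Helper95: pieces for "graded, smooth along the zero section ⇒ polynomial ring" (S18961)
Part A: non-graded commutative algebra.
-/

set_option autoImplicit false

namespace Groth.Agent.Lib.Helper95.GradedSmooth

open MvPolynomial

/-- In a polynomial ring, an element with constant coefficient `1` is a non-zero-divisor. -/
theorem eq_zero_of_mul_eq_zero_of_constantCoeff_eq_one {σ A : Type*} [CommRing A]
    (g f : MvPolynomial σ A) (hg : constantCoeff g = 1) (h : g * f = 0) : f = 0 := by
  apply MvPolynomial.coe_injective (σ := σ) (R := A)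
  have hu : IsUnit (g : MvPowerSeries σ A) := by
    rw [MvPowerSeries.isUnit_iff_constantCoeff]
    have : MvPowerSeries.constantCoeff (g : MvPowerSeries σ A) = constantCoeff g := by
      rw [← MvPowerSeries.coeff_zero_eq_constantCoeff_apply, MvPolynomial.coeff_coe,
        MvPolynomial.constantCoeff_eq]
    rw [this, hg]; exact isUnit_one
  have h' : (g : MvPowerSeries σ A) * (f : MvPowerSeries σ A) = 0 := by
    rw [← MvPolynomial.coe_mul, h]; simp
  simpa using (hu.mul_right_eq_zero).mp h'

/-- Decomposition of a polynomial as constant + linear + (element of `(X)^2`). -/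
theorem exists_decomp {σ A : Type*} [Fintype σ] [DecidableEq σ] [CommRing A]
    (f : MvPolynomial σ A) :
    ∃ (a₀ : A) (a : σ → A) (r : MvPolynomial σ A),
      r ∈ (Ideal.span (Set.range (X : σ → MvPolynomial σ A))) ^ 2 ∧
      f = C a₀ + ∑ i, C (a i) * X i + r := by
  set I₀ : Ideal (MvPolynomial σ A) := Ideal.span (Set.range (X : σ → MvPolynomial σ A))
  have hX : ∀ i, (X i : MvPolynomial σ A) ∈ I₀ := fun i => Ideal.subset_span ⟨i, rfl⟩
  induction f using MvPolynomial.induction_on with
  | C a => exact ⟨a, 0, 0, Ideal.zero_mem _, by simp⟩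
  | add p q hp hq =>
    obtain ⟨a₀, a, r, hr, rfl⟩ := hp
    obtain ⟨b₀, b, s, hs, rfl⟩ := hq
    refine ⟨a₀ + b₀, a + b, r + s, Ideal.add_mem _ hr hs, ?_⟩
    simp only [Pi.add_apply, map_add, add_mul, Finset.sum_add_distrib]
    ring
  | mul_X p j hp =>
    obtain ⟨a₀, a, r, hr, rfl⟩ := hp
    refine ⟨0, (Pi.single j a₀ : σ → A), (∑ i, C (a i) * X i) * X j + r * X j, ?_, ?_⟩
    · apply Ideal.add_mem
      · rw [pow_two]
        apply Ideal.mul_mem_mul _ (hX j)
        exact Ideal.sum_mem _ fun i _ => Ideal.mul_mem_left _ _ (hX i)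
      · exact Ideal.mul_mem_right _ _ hr
    · have : ∑ i, C ((Pi.single j a₀ : σ → A) i) * (X i : MvPolynomial σ A) = C a₀ * X j := by
        rw [Finset.sum_eq_single j]
        · simp
        · intro i _ hij; simp [Pi.single_eq_of_ne hij]
        · intro h; exact absurd (Finset.mem_univ j) h
      rw [this]
      simp only [map_zero, zero_add]
      ring

end Groth.Agent.Lib.Helper95.GradedSmooth
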