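import Mathlib

/-!
# Helper95: pieces for S18961, Part B: the local vanishing lemma.

`φ : S → B` surjective `A`-algebra map, `S` Noetherian, `ker φ ≤ I₀^2`, `I₀ ≤ P` prime,
`B` formally smooth over `A` at the prime `Q` corresponding to `P`.
Then `(ker φ)_P = 0`.
-/

set_option autoImplicit false

namespace Groth.Agent.Lib.Helper95.GradedSmooth

theorem exists_notMem_mul_eq_zero {A S B : Type*} [CommRing A] [CommRing S] [CommRing B]
    [Algebra A S] [Algebra A B] [IsNoetherianRing S] (φ : S →ₐ[A] B)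
    (hφ : Function.Surjective φ)
    (I₀ : Ideal S) (hK : RingHom.ker φ ≤ I₀ ^ 2) (P : Ideal S) [P.IsPrime] (hP : I₀ ≤ P)
    (Q : Ideal B) [Q.IsPrime] (hQ : Q.comap φ = P)
    [Algebra.FormallySmooth A (Localization.AtPrime Q)] (f : S) (hf : f ∈ RingHom.ker φ) :
    ∃ g, g ∉ P ∧ g * f = 0 := by
  classical
  set K : Ideal S := RingHom.ker φ with hKdef
  let S' := Localization.AtPrime P
  let R' := Localization.AtPrime Q
  let 𝔪 : Ideal S' := IsLocalRing.maximalIdeal S'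
  let K₁ : Ideal S' := K.map (algebraMap S S')
  have hKP : K ≤ P := hK.trans ((Ideal.pow_le_self two_ne_zero).trans hP)
  have hP𝔪 : ∀ u ∈ P, algebraMap S S' u ∈ 𝔪 := by
    intro u hu
    have : algebraMap S S' u ∈ P.map (algebraMap S S') := Ideal.mem_map_of_mem _ hu
    rwa [Localization.AtPrime.map_eq_maximalIdeal] at this
  have hK₁𝔪 : K₁ ≤ 𝔪 := by
    refine Ideal.map_le_iff_le_comap.mpr fun u hu => ?_
    exact hP𝔪 u (hKP hu)
  have hle : 𝔪 * K₁ ≤ K₁ := Ideal.mul_le_right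
  let gfac : (S' ⧸ (𝔪 * K₁)) →ₐ[A] (S' ⧸ K₁) := Ideal.Quotient.factorₐ A hle
  have hgfac_surj : Function.Surjective gfac := Ideal.Quotient.factor_surjective hle
  -- description of the kernel of gfac
  have hker : ∀ z : S' ⧸ (𝔪 * K₁), gfac z = 0 → ∃ a ∈ K₁, Ideal.Quotient.mk _ a = z := by
    intro z hz
    obtain ⟨a, rfl⟩ := Ideal.Quotient.mk_surjective z
    refine ⟨a, ?_, rfl⟩
    have : (Ideal.Quotient.mk K₁) a = 0 := hz
    exact Ideal.Quotient.eq_zero_iff_mem.mp this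
  have hmk0 : ∀ a ∈ 𝔪, ∀ b ∈ K₁, (Ideal.Quotient.mk (𝔪 * K₁)) a * (Ideal.Quotient.mk (𝔪 * K₁)) b = 0 := by
    intro a ha b hb
    rw [← map_mul]
    exact Ideal.Quotient.eq_zero_iff_mem.mpr (Ideal.mul_mem_mul ha hb)
  have hker_sq : ∀ z w : S' ⧸ (𝔪 * K₁), gfac z = 0 → gfac w = 0 → z * w = 0 := by
    intro z w hz hw
    obtain ⟨a, ha, rfl⟩ := hker z hz
    obtain ⟨b, hb, rfl⟩ := hker w hw
    exact hmk0 a (hK₁𝔪 ha) b hb
  have hnil : IsNilpotent (RingHom.ker (gfac : (S' ⧸ (𝔪 * K₁)) →+* (S' ⧸ K₁))) := by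
    refine ⟨2, ?_⟩
    have h2 : RingHom.ker (gfac : (S' ⧸ (𝔪 * K₁)) →+* (S' ⧸ K₁)) ^ 2 =
        RingHom.ker (gfac : (S' ⧸ (𝔪 * K₁)) →+* (S' ⧸ K₁)) *
          RingHom.ker (gfac : (S' ⧸ (𝔪 * K₁)) →+* (S' ⧸ K₁)) := pow_two _
    rw [h2, Ideal.zero_eq_bot, eq_bot_iff, Ideal.mul_le]
    intro z hz w hw
    rw [Ideal.mem_bot]
    exact hker_sq z w hz hw
  -- the map B → S'/K₁
  let toC₁ : S →ₐ[A] (S' ⧸ K₁) := (Ideal.Quotient.mkₐ A K₁).comp (IsScalarTower.toAlgHom A S S')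
  have hK_toC₁ : RingHom.ker (φ : S →ₐ[A] B).toRingHom ≤ RingHom.ker toC₁.toRingHom := by
    intro a ha
    rw [RingHom.mem_ker]
    change (Ideal.Quotient.mk K₁) (algebraMap S S' a) = 0
    exact Ideal.Quotient.eq_zero_iff_mem.mpr (Ideal.mem_map_of_mem _ ha)
  let ψ₀ : B →ₐ[A] (S' ⧸ K₁) := AlgHom.liftOfSurjective φ hφ toC₁ hK_toC₁
  have hψ₀ : ∀ h : S, ψ₀ (φ h) = toC₁ h := fun h => AlgHom.liftOfSurjective_apply φ hφ toC₁ hK_toC₁ h
  have hunit : ∀ y : Q.primeCompl, IsUnit (ψ₀ y) := by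
    rintro ⟨y, hy⟩
    obtain ⟨h, rfl⟩ := hφ y
    have hhP : h ∉ P := by
      rw [← hQ]; exact hy
    change IsUnit (ψ₀ (φ h))
    rw [hψ₀]
    change IsUnit ((Ideal.Quotient.mk K₁) (algebraMap S S' h))
    exact (IsLocalization.map_units S' (⟨h, hhP⟩ : P.primeCompl)).map _
  let ψ : R' →ₐ[A] (S' ⧸ K₁) := IsLocalization.liftAlgHom (M := Q.primeCompl) (f := ψ₀) hunit
  have hψ : ∀ b : B, ψ (algebraMap B R' b) = ψ₀ b := by
    intro b
    change IsLocalization.lift hunit (algebraMap B R' b) = _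
    rw [IsLocalization.lift_eq]
    rfl
  let σ : R' →ₐ[A] (S' ⧸ (𝔪 * K₁)) := Algebra.FormallySmooth.liftOfSurjective ψ gfac hgfac_surj hnil
  have hσ : ∀ r, gfac (σ r) = ψ r :=
    Algebra.FormallySmooth.liftOfSurjective_apply ψ gfac hgfac_surj hnil
  let α : S →ₐ[A] (S' ⧸ (𝔪 * K₁)) :=
    (Ideal.Quotient.mkₐ A (𝔪 * K₁)).comp (IsScalarTower.toAlgHom A S S')
  let β : S →ₐ[A] (S' ⧸ (𝔪 * K₁)) := σ.comp ((IsScalarTower.toAlgHom A B R').comp φ)
  have hαβ : ∀ h : S, gfac (α h - β h) = 0 := by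
    intro h
    rw [map_sub, sub_eq_zero]
    change _ = gfac (σ (algebraMap B R' (φ h)))
    rw [hσ, hψ, hψ₀]
    rfl
  -- α u kills the kernel for u ∈ P
  have hα_kill : ∀ u ∈ P, ∀ z, gfac z = 0 → α u * z = 0 := by
    intro u hu z hz
    obtain ⟨b, hb, rfl⟩ := hker z hz
    exact hmk0 _ (hP𝔪 u hu) b hb
  have hβ_kill : ∀ u ∈ P, ∀ z, gfac z = 0 → β u * z = 0 := by
    intro u hu z hz
    have : β u = α u - (α u - β u) := by ring
    rw [this, sub_mul, hα_kill u hu z hz, hker_sq _ _ (hαβ u) hz, sub_zero]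
  have hprod : ∀ u ∈ I₀, ∀ v ∈ I₀, α (u * v) = β (u * v) := by
    intro u hu v hv
    rw [← sub_eq_zero]
    have : α (u * v) - β (u * v) = α v * (α u - β u) + β u * (α v - β v) := by
      rw [map_mul, map_mul]; ring
    rw [this, hα_kill v (hP hv) _ (hαβ u), hβ_kill u (hP hu) _ (hαβ v), add_zero]
  have hsq : ∀ w ∈ I₀ ^ 2, α w = β w := by
    intro w hw
    rw [pow_two] at hw
    induction hw using Submodule.mul_induction_on' with
    | mem_mul_mem m hm n hn => exact hprod m hm n hn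
    | add x _ y _ hx hy => rw [map_add, map_add, hx, hy]
  have hαK : ∀ w ∈ K, algebraMap S S' w ∈ 𝔪 * K₁ := by
    intro w hw
    have h1 : α w = β w := hsq w (hK hw)
    have h2 : β w = 0 := by
      change σ (algebraMap B R' (φ w)) = 0
      rw [show φ w = 0 from hw, map_zero, map_zero]
    rw [h2] at h1
    exact Ideal.Quotient.eq_zero_iff_mem.mp h1
  have hK₁le : K₁ ≤ 𝔪 • K₁ := by
    rw [smul_eq_mul]
    exact Ideal.map_le_iff_le_comap.mpr fun w hw => hαK w hw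
  have hK₁fg : (K₁ : Submodule S' S').FG := Ideal.FG.map (IsNoetherian.noetherian K) _
  have hK₁bot : K₁ = ⊥ :=
    Submodule.eq_bot_of_le_smul_of_le_jacobson_bot 𝔪 K₁ hK₁fg hK₁le
      (IsLocalRing.maximalIdeal_le_jacobson _)
  have hf0 : algebraMap S S' f = 0 := by
    have : algebraMap S S' f ∈ K₁ := Ideal.mem_map_of_mem _ hf
    rwa [hK₁bot, Ideal.mem_bot] at this
  obtain ⟨⟨g, hg⟩, hgf⟩ := (IsLocalization.map_eq_zero_iff P.primeCompl S' f).mp hf0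
  exact ⟨g, hg, hgf⟩

end Groth.Agent.Lib.Helper95.GradedSmooth
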