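import Mathlib
import Groth.Agent.Lib.Helper95.GradedSmoothA
import Groth.Agent.Lib.Helper95.GradedSmoothB

/-!
# Helper95: pieces for S18961, Part C: injectivity of a surjection from a polynomial ring
onto an algebra which is smooth along the "zero section".
-/

set_option autoImplicit false

namespace Groth.Agent.Lib.Helper95.GradedSmooth

open MvPolynomial

theorem injective_of_smooth_along_zero {A B σ : Type*} [Finite σ] [CommRing A] [CommRing B]
    [Algebra A B] [IsNoetherianRing A] (φ : MvPolynomial σ A →ₐ[A] B)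
    (hφ : Function.Surjective φ)
    (hK : RingHom.ker φ ≤ (Ideal.span (Set.range (X : σ → MvPolynomial σ A))) ^ 2)
    (hsm : ∀ (Q : Ideal B) [Q.IsPrime],
      Ideal.span (Set.range (X : σ → MvPolynomial σ A)) ≤ Q.comap φ →
        Algebra.FormallySmooth A (Localization.AtPrime Q)) :
    Function.Injective φ := by
  classical
  set I₀ : Ideal (MvPolynomial σ A) := Ideal.span (Set.range (X : σ → MvPolynomial σ A)) with hI₀
  rw [injective_iff_map_eq_zero]
  intro f hf
  have hfK : f ∈ RingHom.ker φ := hf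
  let 𝔞 : Ideal (MvPolynomial σ A) := LinearMap.ker (LinearMap.toSpanSingleton (MvPolynomial σ A) (MvPolynomial σ A) f)
  have h𝔞 : ∀ g, g ∈ 𝔞 ↔ g * f = 0 := by
    intro g
    simp [𝔞, LinearMap.mem_ker, LinearMap.toSpanSingleton_apply]
  have hI₀cc : ∀ h ∈ I₀, constantCoeff h = 0 := by
    intro h hh
    have : I₀ ≤ RingHom.ker (constantCoeff : MvPolynomial σ A →+* A) := by
      rw [hI₀, Ideal.span_le]
      rintro _ ⟨i, rfl⟩
      simp [RingHom.mem_ker]
    exact this hh
  have htop : 𝔞 ⊔ I₀ = ⊤ := by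
    by_contra hne
    obtain ⟨M, hMmax, hM⟩ := Ideal.exists_le_maximal _ hne
    have hMprime : M.IsPrime := hMmax.isPrime
    have hI₀M : I₀ ≤ M := le_sup_right.trans hM
    have hKM : RingHom.ker φ ≤ M := hK.trans ((Ideal.pow_le_self two_ne_zero).trans hI₀M)
    have hQprime : (M.map φ).IsPrime := Ideal.map_isPrime_of_surjective hφ hKM
    have hcomap : (M.map φ).comap φ = M := by
      rw [Ideal.comap_map_of_surjective φ hφ]
      exact sup_eq_left.mpr hKM
    have hfs : Algebra.FormallySmooth A (Localization.AtPrime (M.map φ)) :=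
      hsm (M.map φ) (by rw [hcomap]; exact hI₀M)
    obtain ⟨g, hgM, hgf⟩ := exists_notMem_mul_eq_zero φ hφ I₀ hK M hI₀M (M.map φ) hcomap f hfK
    exact hgM (hM (Ideal.mem_sup_left ((h𝔞 g).mpr hgf)))
  have h1 : (1 : MvPolynomial σ A) ∈ 𝔞 ⊔ I₀ := by rw [htop]; trivial
  obtain ⟨g, hg, h, hh, hgh⟩ := Submodule.mem_sup.mp h1
  have hcc : constantCoeff g = 1 := by
    have := congrArg constantCoeff hgh
    rw [map_add, hI₀cc h hh, add_zero, map_one] at this
    exact this
  exact eq_zero_of_mul_eq_zero_of_constantCoeff_eq_one g f hcc ((h𝔞 g).mp hg)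

end Groth.Agent.Lib.Helper95.GradedSmooth
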