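import Mathlib

/-!
# Helper95: pieces for S18961, Part D: graded sections.

`B` an `ℕ`-graded `A`-algebra, `I = B₊` the irrelevant ideal, `N = I/I²`.
-/

set_option autoImplicit false

namespace Groth.Agent.Lib.Helper95.GradedSmooth

open DirectSum

section

variable {A B : Type*} [CommRing A] [CommRing B] [Algebra A B]
  (𝒜 : ℕ → Submodule A B) [GradedAlgebra 𝒜]

/-- the irrelevant ideal -/
abbrev irr : Ideal B := (HomogeneousIdeal.irrelevant 𝒜).toIdeal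

theorem proj_mem (d : ℕ) (b : B) : GradedAlgebra.proj 𝒜 d b ∈ 𝒜 d := by
  rw [GradedAlgebra.proj_apply]; exact SetLike.coe_mem _

theorem proj_of_mem {d : ℕ} {b : B} (hb : b ∈ 𝒜 d) : GradedAlgebra.proj 𝒜 d b = b := by
  rw [GradedAlgebra.proj_apply, DirectSum.decompose_of_mem_same 𝒜 hb]

theorem proj_of_mem_ne {d d' : ℕ} {b : B} (hb : b ∈ 𝒜 d) (h : d ≠ d') :
    GradedAlgebra.proj 𝒜 d' b = 0 := by
  rw [GradedAlgebra.proj_apply, DirectSum.decompose_of_mem_ne 𝒜 hb h]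

theorem proj_proj (d d' : ℕ) (b : B) :
    GradedAlgebra.proj 𝒜 d (GradedAlgebra.proj 𝒜 d' b) =
      if d' = d then GradedAlgebra.proj 𝒜 d b else 0 := by
  split_ifs with h
  · subst h; exact proj_of_mem 𝒜 (proj_mem 𝒜 _ b)
  · exact proj_of_mem_ne 𝒜 (proj_mem 𝒜 d' b) h

theorem mem_irr_iff (b : B) : b ∈ irr 𝒜 ↔ GradedAlgebra.proj 𝒜 0 b = 0 := by
  rw [irr, HomogeneousIdeal.mem_iff, HomogeneousIdeal.mem_irrelevant_iff]
  rfl

theorem proj_mem_irr {b : B} (hb : b ∈ irr 𝒜) (d : ℕ) : GradedAlgebra.proj 𝒜 d b ∈ irr 𝒜 := by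
  rw [GradedAlgebra.proj_apply]
  exact (HomogeneousIdeal.irrelevant 𝒜).isHomogeneous d hb

theorem proj_mem_irr_sq {b : B} (hb : b ∈ irr 𝒜 ^ 2) (d : ℕ) :
    GradedAlgebra.proj 𝒜 d b ∈ irr 𝒜 ^ 2 := by
  rw [GradedAlgebra.proj_apply]
  have h : (irr 𝒜 ^ 2).IsHomogeneous 𝒜 := by
    rw [pow_two]
    exact Ideal.IsHomogeneous.mul (HomogeneousIdeal.irrelevant 𝒜).isHomogeneous
      (HomogeneousIdeal.irrelevant 𝒜).isHomogeneous
  exact h d hb

theorem sub_proj_zero_mem (b : B) : b - GradedAlgebra.proj 𝒜 0 b ∈ irr 𝒜 := by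
  rw [mem_irr_iff, map_sub, proj_proj, if_pos rfl, sub_self]

theorem sum_proj_eq (b : B) (D : Finset ℕ) (hD : ∀ d, GradedAlgebra.proj 𝒜 d b ≠ 0 → d ∈ D) :
    ∑ d ∈ D, GradedAlgebra.proj 𝒜 d b = b := by
  classical
  conv_rhs => rw [← DirectSum.sum_support_decompose 𝒜 b]
  symm
  apply Finset.sum_subset
  · intro d hd
    apply hD
    rw [GradedAlgebra.proj_apply]
    rw [DFinsupp.mem_support_toFun] at hd
    intro h
    apply hd
    exact Subtype.ext h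
  · intro d _ hd
    rw [DFinsupp.mem_support_toFun, not_not] at hd
    rw [hd]; rfl

theorem proj_mul (d : ℕ) (u v : B) :
    GradedAlgebra.proj 𝒜 d (u * v) =
      ∑ ij ∈ Finset.HasAntidiagonal.antidiagonal d,
        GradedAlgebra.proj 𝒜 ij.1 u * GradedAlgebra.proj 𝒜 ij.2 v := by
  simp only [GradedAlgebra.proj_apply]
  rw [DirectSum.decompose_mul, DirectSum.coe_mul_apply_eq_sum_antidiagonal]

/-- The canonical `A`-linear map `B → B₊/B₊²`, `b ↦ [b - b₀]`. -/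
noncomputable def Qmap : B →ₗ[A] (irr 𝒜).Cotangent where
  toFun b := (irr 𝒜).toCotangent ⟨b - GradedAlgebra.proj 𝒜 0 b, sub_proj_zero_mem 𝒜 b⟩
  map_add' b c := by
    rw [← map_add]; congr 1; ext
    simp only [map_add, Submodule.coe_add]
    abel
  map_smul' a b := by
    rw [RingHom.id_apply]
    have := ((irr 𝒜).toCotangent.restrictScalars A).map_smul a
      ⟨b - GradedAlgebra.proj 𝒜 0 b, sub_proj_zero_mem 𝒜 b⟩
    rw [LinearMap.restrictScalars_apply, LinearMap.restrictScalars_apply] at this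
    rw [← this]
    congr 1; ext
    simp only [map_smul]
    rw [Submodule.coe_smul_of_tower, smul_sub]

theorem Qmap_apply_of_mem {b : B} (hb : b ∈ irr 𝒜) :
    Qmap 𝒜 b = (irr 𝒜).toCotangent ⟨b, hb⟩ := by
  change (irr 𝒜).toCotangent _ = _
  congr 1; ext
  simp only
  rw [(mem_irr_iff 𝒜 b).mp hb, sub_zero]

theorem Qmap_surjective : Function.Surjective (Qmap 𝒜) := by
  intro n
  obtain ⟨⟨b, hb⟩, rfl⟩ := (irr 𝒜).toCotangent_surjective n
  exact ⟨b, Qmap_apply_of_mem 𝒜 hb⟩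

theorem Qmap_eq_zero_iff (b : B) :
    Qmap 𝒜 b = 0 ↔ b - GradedAlgebra.proj 𝒜 0 b ∈ irr 𝒜 ^ 2 := by
  change (irr 𝒜).toCotangent _ = 0 ↔ _
  rw [Ideal.toCotangent_eq_zero]

theorem Qmap_proj_eq_zero_of_Qmap_eq_zero {b : B} (hb : Qmap 𝒜 b = 0) (d : ℕ) :
    Qmap 𝒜 (GradedAlgebra.proj 𝒜 d b) = 0 := by
  rw [Qmap_eq_zero_iff] at hb ⊢
  have := proj_mem_irr_sq 𝒜 hb d
  rw [map_sub, proj_proj] at this
  rw [proj_proj]
  by_cases hd : d = 0
  · subst hd
    simp only [if_true, sub_self] at this ⊢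
    exact Ideal.zero_mem _
  · rw [if_neg (Ne.symm hd)] at this
    rw [if_neg hd]
    exact this

end

end Groth.Agent.Lib.Helper95.GradedSmooth
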