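import Mathlib
import Groth.Agent.Lib.Helper95.GradedSmoothD

/-!
# Helper95: pieces for S18961, Part E: existence of a graded section of `B₊ → B₊/B₊²`
when the target is a finite free `A`-module; generation of `B` by the image.
-/

set_option autoImplicit false

namespace Groth.Agent.Lib.Helper95.GradedSmooth

open DirectSum

section

variable {A B : Type*} [CommRing A] [CommRing B] [Algebra A B]
  (𝒜 : ℕ → Submodule A B) [GradedAlgebra 𝒜]

theorem exists_graded_section [Module.Free A (irr 𝒜).Cotangent]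
    [Module.Finite A (irr 𝒜).Cotangent] :
    ∃ (t : (irr 𝒜).Cotangent →ₗ[A] B)
      (π : ℕ → (irr 𝒜).Cotangent →ₗ[A] (irr 𝒜).Cotangent),
      (∀ n, Qmap 𝒜 (t n) = n) ∧
      (∀ d n, GradedAlgebra.proj 𝒜 d (t n) = t (π d n)) ∧
      (∀ n, t n ∈ irr 𝒜) := by
  classical
  let e := Module.Free.chooseBasis A (irr 𝒜).Cotangent
  choose b₀ hb₀ using fun i => Qmap_surjective 𝒜 (e i)
  let t₀ : (irr 𝒜).Cotangent →ₗ[A] B := e.constr A b₀
  have ht₀e : ∀ i, t₀ (e i) = b₀ i := fun i => e.constr_basis A b₀ i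
  have hQt₀ : ∀ n, Qmap 𝒜 (t₀ n) = n := by
    have : (Qmap 𝒜) ∘ₗ t₀ = LinearMap.id :=
      e.ext (fun i => by rw [LinearMap.comp_apply, ht₀e, hb₀, LinearMap.id_apply])
    intro n; exact LinearMap.congr_fun this n
  let π : ℕ → (irr 𝒜).Cotangent →ₗ[A] (irr 𝒜).Cotangent :=
    fun d => (Qmap 𝒜) ∘ₗ (GradedAlgebra.proj 𝒜 d) ∘ₗ t₀
  have hπ_apply : ∀ d n, π d n = Qmap 𝒜 (GradedAlgebra.proj 𝒜 d (t₀ n)) := fun d n => rfl
  have hπQ : ∀ d b, π d (Qmap 𝒜 b) = Qmap 𝒜 (GradedAlgebra.proj 𝒜 d b) := by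
    intro d b
    have hw : Qmap 𝒜 (b - t₀ (Qmap 𝒜 b)) = 0 := by rw [map_sub, hQt₀, sub_self]
    have := Qmap_proj_eq_zero_of_Qmap_eq_zero 𝒜 hw d
    rw [map_sub, map_sub, sub_eq_zero] at this
    rw [hπ_apply]
    exact this.symm
  have hππ : ∀ d d' n, π d (π d' n) = if d' = d then π d n else 0 := by
    intro d d' n
    rw [hπ_apply d' n, hπQ, proj_proj]
    split_ifs with h
    · rw [hπ_apply]
    · rw [map_zero]
  let D : Finset ℕ := Finset.univ.biUnion fun i => (DirectSum.decompose 𝒜 (b₀ i)).support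
  have hD : ∀ i d, GradedAlgebra.proj 𝒜 d (b₀ i) ≠ 0 → d ∈ D := by
    intro i d hd
    rw [Finset.mem_biUnion]
    refine ⟨i, Finset.mem_univ _, ?_⟩
    rw [DFinsupp.mem_support_toFun]
    intro h
    apply hd
    rw [GradedAlgebra.proj_apply, h]; rfl
  have hπ0 : ∀ d, d ∉ D → π d = 0 := by
    intro d hd
    apply e.ext
    intro i
    rw [hπ_apply, ht₀e, LinearMap.zero_apply]
    have : GradedAlgebra.proj 𝒜 d (b₀ i) = 0 := by
      by_contra h
      exact hd (hD i d h)
    rw [this, map_zero]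
  have hsum : ∀ n, ∑ d ∈ D, π d n = n := by
    have : ∑ d ∈ D, π d = LinearMap.id := by
      apply e.ext
      intro i
      rw [LinearMap.sum_apply, LinearMap.id_apply]
      simp only [hπ_apply, ht₀e]
      rw [← map_sum, sum_proj_eq 𝒜 (b₀ i) D (hD i), hb₀]
    intro n
    have h := LinearMap.congr_fun this n
    rwa [LinearMap.sum_apply, LinearMap.id_apply] at h
  let t : (irr 𝒜).Cotangent →ₗ[A] B := ∑ d ∈ D, (GradedAlgebra.proj 𝒜 d) ∘ₗ t₀ ∘ₗ (π d)
  have ht_apply : ∀ n, t n = ∑ d ∈ D, GradedAlgebra.proj 𝒜 d (t₀ (π d n)) := by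
    intro n
    rw [LinearMap.sum_apply]
    rfl
  have hQt : ∀ n, Qmap 𝒜 (t n) = n := by
    intro n
    rw [ht_apply, map_sum]
    conv_rhs => rw [← hsum n]
    apply Finset.sum_congr rfl
    intro d _
    rw [← hπQ, hQt₀, hππ, if_pos rfl]
  have hprt : ∀ d n, GradedAlgebra.proj 𝒜 d (t n) = t (π d n) := by
    intro d n
    rw [ht_apply, ht_apply, map_sum]
    by_cases hd : d ∈ D
    · rw [Finset.sum_eq_single d, Finset.sum_eq_single d]
      · rw [proj_proj, if_pos rfl, hππ, if_pos rfl]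
      · intro d' _ hd'
        rw [hππ, if_neg (Ne.symm hd'), map_zero, map_zero]
      · intro h; exact absurd hd h
      · intro d' _ hd'
        rw [proj_proj, if_neg hd']
      · intro h; exact absurd hd h
    · rw [hπ0 d hd]
      simp only [LinearMap.zero_apply, map_zero, Finset.sum_const_zero]
      apply Finset.sum_eq_zero
      intro d' hd'
      rw [proj_proj, if_neg]
      rintro rfl
      exact hd hd'
  refine ⟨t, π, hQt, hprt, ?_⟩
  intro n
  rw [mem_irr_iff, hprt]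
  have : π 0 n = 0 := by
    rw [hπ_apply, Qmap_eq_zero_iff, proj_proj, if_pos rfl, sub_self]
    exact Ideal.zero_mem _
  rw [this, map_zero]

end

end Groth.Agent.Lib.Helper95.GradedSmooth
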