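import Mathlib
import Groth.Agent.Lib.Helper95.GradedSmoothD

/-!
# Helper95: pieces for S18961, Part F: a subalgebra containing the image of a graded section
of `B₊ → B₊/B₊²` and `B₀ = A` is everything.
-/

set_option autoImplicit false

namespace Groth.Agent.Lib.Helper95.GradedSmooth

open DirectSum

section

variable {A B : Type*} [CommRing A] [CommRing B] [Algebra A B]
  (𝒜 : ℕ → Submodule A B) [GradedAlgebra 𝒜]

theorem subalgebra_eq_top_of_graded_section
    (h0 : ∀ b : B, b ∈ 𝒜 0 → b ∈ Set.range (algebraMap A B))
    (t : (irr 𝒜).Cotangent →ₗ[A] B)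
    (π : ℕ → (irr 𝒜).Cotangent →ₗ[A] (irr 𝒜).Cotangent)
    (hQt : ∀ n, Qmap 𝒜 (t n) = n)
    (hprt : ∀ d n, GradedAlgebra.proj 𝒜 d (t n) = t (π d n))
    (B' : Subalgebra A B) (ht : ∀ n, t n ∈ B') : B' = ⊤ := by
  classical
  have key : ∀ d, ∀ b ∈ 𝒜 d, b ∈ B' := by
    intro d
    induction d using Nat.strong_induction_on with
    | _ d IH =>
      intro b hb
      rcases Nat.eq_zero_or_pos d with hd | hd
      · subst hd
        obtain ⟨a, rfl⟩ := h0 b hb
        exact B'.algebraMap_mem a
      · have hd0 : d ≠ 0 := Nat.pos_iff_ne_zero.mp hd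
        -- products
        have hsq : ∀ w ∈ irr 𝒜 ^ 2, GradedAlgebra.proj 𝒜 d w ∈ B' := by
          intro w hw
          rw [pow_two] at hw
          induction hw using Submodule.mul_induction_on' with
          | mem_mul_mem u hu v hv =>
            rw [proj_mul]
            apply Subalgebra.sum_mem
            rintro ⟨i, j⟩ hij
            rw [Finset.HasAntidiagonal.mem_antidiagonal] at hij
            simp only at hij ⊢
            by_cases hi : i = 0
            · subst hi
              rw [(mem_irr_iff 𝒜 u).mp hu, zero_mul]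
              exact B'.zero_mem
            by_cases hj : j = 0
            · subst hj
              rw [(mem_irr_iff 𝒜 v).mp hv, mul_zero]
              exact B'.zero_mem
            have hi' : i < d := by omega
            have hj' : j < d := by omega
            exact B'.mul_mem (IH i hi' _ (proj_mem 𝒜 i u)) (IH j hj' _ (proj_mem 𝒜 j v))
          | add x _ y _ hx hy =>
            rw [map_add]; exact B'.add_mem hx hy
        set w := b - t (Qmap 𝒜 b) with hw
        have hQw : Qmap 𝒜 w = 0 := by rw [hw, map_sub, hQt, sub_self]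
        have hw2 := (Qmap_eq_zero_iff 𝒜 w).mp hQw
        have h1 := hsq _ hw2
        rw [map_sub, proj_proj, if_neg (Ne.symm hd0), sub_zero] at h1
        have hb' : b = t (π d (Qmap 𝒜 b)) + GradedAlgebra.proj 𝒜 d w := by
          rw [hw, map_sub, hprt, proj_of_mem 𝒜 hb]; abel
        rw [hb']
        exact B'.add_mem (ht _) h1
  rw [eq_top_iff]
  intro b _
  rw [← DirectSum.sum_support_decompose 𝒜 b]
  apply Subalgebra.sum_mem
  intro d _
  exact key d _ (SetLike.coe_mem _)

end

end Groth.Agent.Lib.Helper95.GradedSmooth
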