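import Mathlib
import Groth.Prelude.Def_CycAlg
import Groth.Agent.Lib.Helper95.LengthT

/-!
# The exact hexagon of a short exact sequence of 2-periodic complexes
-/

namespace Groth.Agent.Lib.Helper95.Hexagon

open Function CycAlg

universe u v

variable {R : Type u} [CommRing R]

section single

variable {M N : Type v} [AddCommGroup M] [Module R M] [AddCommGroup N] [Module R N]
  (φ : M →ₗ[R] N) (ψ : N →ₗ[R] M)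

theorem mem_sub (x : LinearMap.ker φ) :
    x ∈ (LinearMap.range ψ).submoduleOf (LinearMap.ker φ) ↔ (x : M) ∈ LinearMap.range ψ :=
  Iff.rfl

/-- `φ̄ : M / range ψ → ker ψ` -/
def phibar (h : IsPeriodic φ ψ) : (M ⧸ LinearMap.range ψ) →ₗ[R] LinearMap.ker ψ :=
  (LinearMap.range ψ).liftQ
    (φ.codRestrict (LinearMap.ker ψ) (fun x => by
      rw [LinearMap.mem_ker]; exact LinearMap.congr_fun h.2 x))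
    (by
      rintro _ ⟨y, rfl⟩
      rw [LinearMap.mem_ker]
      apply Subtype.ext
      exact LinearMap.congr_fun h.1 y)

@[simp] theorem phibar_mk (h : IsPeriodic φ ψ) (m : M) :
    ((phibar φ ψ h (Submodule.Quotient.mk m) : LinearMap.ker ψ) : N) = φ m := rfl

/-- `ι : H⁰ = perH φ ψ → M / range ψ` -/
def iota : perH φ ψ →ₗ[R] (M ⧸ LinearMap.range ψ) :=
  Submodule.mapQ _ _ (LinearMap.ker φ).subtype (le_refl _)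

@[simp] theorem iota_mk (x : LinearMap.ker φ) :
    iota φ ψ (Submodule.Quotient.mk x) = Submodule.Quotient.mk (x : M) := rfl

theorem iota_injective : Injective (iota φ ψ) := by
  rw [← LinearMap.ker_eq_bot, eq_bot_iff]
  intro z hz
  obtain ⟨x, rfl⟩ := Submodule.Quotient.mk_surjective _ z
  rw [LinearMap.mem_ker, iota_mk, Submodule.Quotient.mk_eq_zero] at hz
  rw [Submodule.mem_bot, Submodule.Quotient.mk_eq_zero]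
  exact hz

theorem exact_iota_phibar (h : IsPeriodic φ ψ) : Exact (iota φ ψ) (phibar φ ψ h) := by
  intro z
  obtain ⟨m, rfl⟩ := Submodule.Quotient.mk_surjective _ z
  constructor
  · intro hz
    have hm : φ m = 0 := by
      have := congrArg Subtype.val hz
      simpa using this
    exact ⟨Submodule.Quotient.mk ⟨m, hm⟩, rfl⟩
  · rintro ⟨w, hw⟩
    obtain ⟨x, rfl⟩ := Submodule.Quotient.mk_surjective _ w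
    rw [← hw, iota_mk]
    apply Subtype.ext
    rw [phibar_mk]
    exact x.2

/-- `π : ker ψ → H¹ = perH ψ φ` -/
def pi : LinearMap.ker ψ →ₗ[R] perH ψ φ := Submodule.mkQ _

theorem pi_surjective : Surjective (pi φ ψ) := Submodule.mkQ_surjective _

theorem exact_phibar_pi (h : IsPeriodic φ ψ) : Exact (phibar φ ψ h) (pi φ ψ) := by
  intro y
  rw [pi, Submodule.mkQ_apply, Submodule.Quotient.mk_eq_zero, mem_sub]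
  constructor
  · rintro ⟨m, hm⟩
    exact ⟨Submodule.Quotient.mk m, Subtype.ext (by rw [phibar_mk, hm])⟩
  · rintro ⟨z, rfl⟩
    obtain ⟨m, rfl⟩ := Submodule.Quotient.mk_surjective _ z
    exact ⟨m, (phibar_mk φ ψ h m).symm⟩

end single

section map

variable {M₁ N₁ M₂ N₂ : Type v} [AddCommGroup M₁] [Module R M₁] [AddCommGroup N₁] [Module R N₁]
  [AddCommGroup M₂] [Module R M₂] [AddCommGroup N₂] [Module R N₂]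
  (φ₁ : M₁ →ₗ[R] N₁) (ψ₁ : N₁ →ₗ[R] M₁) (φ₂ : M₂ →ₗ[R] N₂) (ψ₂ : N₂ →ₗ[R] M₂)
  (f : M₁ →ₗ[R] M₂) (g : N₁ →ₗ[R] N₂)
  (cφ : φ₂ ∘ₗ f = g ∘ₗ φ₁) (cψ : ψ₂ ∘ₗ g = f ∘ₗ ψ₁)

include cψ in
theorem range_le : LinearMap.range ψ₁ ≤ (LinearMap.range ψ₂).comap f := by
  rintro _ ⟨y, rfl⟩
  exact ⟨g y, LinearMap.congr_fun cψ y⟩

/-- induced map `M₁ / range ψ₁ → M₂ / range ψ₂` -/
def fX : (M₁ ⧸ LinearMap.range ψ₁) →ₗ[R] (M₂ ⧸ LinearMap.range ψ₂) :=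
  Submodule.mapQ _ _ f (range_le ψ₁ ψ₂ f g cψ)

@[simp] theorem fX_mk (m : M₁) :
    fX ψ₁ ψ₂ f g cψ (Submodule.Quotient.mk m) = Submodule.Quotient.mk (f m) := rfl

include cφ in
theorem ker_maps (x : M₁) (hx : x ∈ LinearMap.ker φ₁) : f x ∈ LinearMap.ker φ₂ := by
  rw [LinearMap.mem_ker] at hx ⊢
  have := LinearMap.congr_fun cφ x
  simp only [LinearMap.comp_apply] at this
  rw [this, hx, map_zero]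

/-- restriction `ker φ₁ → ker φ₂` -/
def fK : LinearMap.ker φ₁ →ₗ[R] LinearMap.ker φ₂ :=
  f.restrict (ker_maps φ₁ φ₂ f g cφ)

@[simp] theorem fK_coe (x : LinearMap.ker φ₁) : ((fK φ₁ φ₂ f g cφ x : LinearMap.ker φ₂) : M₂) = f x :=
  rfl

/-- induced map on `H⁰` -/
def Hmap : perH φ₁ ψ₁ →ₗ[R] perH φ₂ ψ₂ :=
  Submodule.mapQ _ _ (fK φ₁ φ₂ f g cφ) (by
    intro x hx
    rw [Submodule.mem_comap, mem_sub, fK_coe]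
    exact range_le ψ₁ ψ₂ f g cψ ((mem_sub φ₁ ψ₁ x).mp hx))

@[simp] theorem Hmap_mk (x : LinearMap.ker φ₁) :
    Hmap φ₁ ψ₁ φ₂ ψ₂ f g cφ cψ (Submodule.Quotient.mk x) =
      Submodule.Quotient.mk (fK φ₁ φ₂ f g cφ x) := rfl

theorem fX_comp_iota :
    (fX ψ₁ ψ₂ f g cψ).comp (iota φ₁ ψ₁) = (iota φ₂ ψ₂).comp (Hmap φ₁ ψ₁ φ₂ ψ₂ f g cφ cψ) := by
  apply LinearMap.ext
  intro z
  obtain ⟨x, rfl⟩ := Submodule.Quotient.mk_surjective _ z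
  rfl

theorem Hmap_comp_pi :
    (Hmap ψ₁ φ₁ ψ₂ φ₂ g f cψ cφ).comp (pi φ₁ ψ₁) = (pi φ₂ ψ₂).comp (fK ψ₁ ψ₂ g f cψ) := by
  apply LinearMap.ext
  intro y
  rfl

include cφ in
theorem phibar_comm (h₁ : IsPeriodic φ₁ ψ₁) (h₂ : IsPeriodic φ₂ ψ₂) :
    (fK ψ₁ ψ₂ g f cψ).comp (phibar φ₁ ψ₁ h₁) = (phibar φ₂ ψ₂ h₂).comp (fX ψ₁ ψ₂ f g cψ) := by
  apply LinearMap.ext
  intro z
  obtain ⟨m, rfl⟩ := Submodule.Quotient.mk_surjective _ z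
  apply Subtype.ext
  simp only [LinearMap.comp_apply, fK_coe, phibar_mk, fX_mk]
  exact (LinearMap.congr_fun cφ m).symm

end map

section ses

variable {M₁ N₁ M₂ N₂ M₃ N₃ : Type v} [AddCommGroup M₁] [Module R M₁] [AddCommGroup N₁]
  [Module R N₁] [AddCommGroup M₂] [Module R M₂] [AddCommGroup N₂] [Module R N₂]
  [AddCommGroup M₃] [Module R M₃] [AddCommGroup N₃] [Module R N₃]
  (φ₁ : M₁ →ₗ[R] N₁) (ψ₁ : N₁ →ₗ[R] M₁) (φ₂ : M₂ →ₗ[R] N₂) (ψ₂ : N₂ →ₗ[R] M₂)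
  (φ₃ : M₃ →ₗ[R] N₃) (ψ₃ : N₃ →ₗ[R] M₃)
  (h₁ : IsPeriodic φ₁ ψ₁) (h₂ : IsPeriodic φ₂ ψ₂) (h₃ : IsPeriodic φ₃ ψ₃)
  (f₁ : M₁ →ₗ[R] M₂) (g₁ : N₁ →ₗ[R] N₂) (f₂ : M₂ →ₗ[R] M₃) (g₂ : N₂ →ₗ[R] N₃)
  (cφ₁ : φ₂ ∘ₗ f₁ = g₁ ∘ₗ φ₁) (cψ₁ : ψ₂ ∘ₗ g₁ = f₁ ∘ₗ ψ₁)
  (cφ₂ : φ₃ ∘ₗ f₂ = g₂ ∘ₗ φ₂) (cψ₂ : ψ₃ ∘ₗ g₂ = f₂ ∘ₗ ψ₂)
  (hf₁ : Injective f₁) (hg₁ : Injective g₁) (hf₂ : Surjective f₂) (hg₂ : Surjective g₂)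
  (hM : LinearMap.range f₁ = LinearMap.ker f₂) (hN : LinearMap.range g₁ = LinearMap.ker g₂)

include hf₂ in
theorem fX_surjective : Surjective (fX ψ₂ ψ₃ f₂ g₂ cψ₂) := by
  intro z
  obtain ⟨m, rfl⟩ := Submodule.Quotient.mk_surjective _ z
  obtain ⟨m', rfl⟩ := hf₂ m
  exact ⟨Submodule.Quotient.mk m', rfl⟩

include hg₂ hM in
theorem exact_fX : Exact (fX ψ₁ ψ₂ f₁ g₁ cψ₁) (fX ψ₂ ψ₃ f₂ g₂ cψ₂) := by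
  intro z
  obtain ⟨m, rfl⟩ := Submodule.Quotient.mk_surjective _ z
  constructor
  · intro hz
    rw [fX_mk, Submodule.Quotient.mk_eq_zero] at hz
    obtain ⟨n₃, hn₃⟩ := hz
    obtain ⟨n₂, rfl⟩ := hg₂ n₃
    have hk : m - ψ₂ n₂ ∈ LinearMap.ker f₂ := by
      rw [LinearMap.mem_ker, map_sub, ← hn₃]
      have := LinearMap.congr_fun cψ₂ n₂
      simp only [LinearMap.comp_apply] at this
      rw [this, sub_self]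
    rw [← hM] at hk
    obtain ⟨m₁, hm₁⟩ := hk
    refine ⟨Submodule.Quotient.mk m₁, ?_⟩
    rw [fX_mk, hm₁, Submodule.Quotient.mk_sub, sub_eq_self, Submodule.Quotient.mk_eq_zero]
    exact ⟨n₂, rfl⟩
  · rintro ⟨w, hw⟩
    obtain ⟨m₁, rfl⟩ := Submodule.Quotient.mk_surjective _ w
    rw [← hw, fX_mk, fX_mk]
    have : f₂ (f₁ m₁) = 0 := by
      have : f₁ m₁ ∈ LinearMap.ker f₂ := hM ▸ ⟨m₁, rfl⟩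
      exact this
    rw [this, Submodule.Quotient.mk_zero]

include hg₁ in
theorem fK_injective : Injective (fK ψ₁ ψ₂ g₁ f₁ cψ₁) := by
  intro x y hxy
  apply Subtype.ext
  apply hg₁
  exact congrArg Subtype.val hxy

include hf₁ hN in
theorem exact_fK : Exact (fK ψ₁ ψ₂ g₁ f₁ cψ₁) (fK ψ₂ ψ₃ g₂ f₂ cψ₂) := by
  intro y
  constructor
  · intro hy
    have hy' : g₂ y.1 = 0 := congrArg Subtype.val hy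
    have : y.1 ∈ LinearMap.range g₁ := by rw [hN]; exact hy'
    obtain ⟨y₁, hy₁⟩ := this
    have hk : ψ₁ y₁ = 0 := by
      apply hf₁
      have := LinearMap.congr_fun cψ₁ y₁
      simp only [LinearMap.comp_apply] at this
      rw [← this, hy₁, map_zero]
      exact y.2
    exact ⟨⟨y₁, hk⟩, Subtype.ext hy₁⟩
  · rintro ⟨x, rfl⟩
    apply Subtype.ext
    have : g₁ x.1 ∈ LinearMap.ker g₂ := hN ▸ ⟨x.1, rfl⟩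
    exact this

include h₂ hf₁ hg₁ hg₂ hM in
/-- exactness at `H⁰₂` -/
theorem exact_Hmap :
    Exact (Hmap φ₁ ψ₁ φ₂ ψ₂ f₁ g₁ cφ₁ cψ₁) (Hmap φ₂ ψ₂ φ₃ ψ₃ f₂ g₂ cφ₂ cψ₂) := by
  intro z
  obtain ⟨x, rfl⟩ := Submodule.Quotient.mk_surjective _ z
  constructor
  · intro hz
    rw [Hmap_mk, Submodule.Quotient.mk_eq_zero, mem_sub, fK_coe] at hz
    obtain ⟨n₃, hn₃⟩ := hz
    obtain ⟨n₂, rfl⟩ := hg₂ n₃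
    have hk : x.1 - ψ₂ n₂ ∈ LinearMap.ker f₂ := by
      rw [LinearMap.mem_ker, map_sub, ← hn₃]
      have := LinearMap.congr_fun cψ₂ n₂
      simp only [LinearMap.comp_apply] at this
      rw [this, sub_self]
    rw [← hM] at hk
    obtain ⟨m₁, hm₁⟩ := hk
    have hm₁k : φ₁ m₁ = 0 := by
      apply hg₁
      have := LinearMap.congr_fun cφ₁ m₁
      simp only [LinearMap.comp_apply] at this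
      rw [← this, hm₁, map_sub, map_zero]
      have h1 : φ₂ x.1 = 0 := x.2
      have h2 : φ₂ (ψ₂ n₂) = 0 := LinearMap.congr_fun h₂.1 n₂
      rw [h1, h2, sub_zero]
    refine ⟨Submodule.Quotient.mk ⟨m₁, hm₁k⟩, ?_⟩
    rw [Hmap_mk, Submodule.Quotient.eq, mem_sub]
    refine ⟨-n₂, ?_⟩
    rw [map_neg]
    change -ψ₂ n₂ = f₁ m₁ - x.1
    rw [hm₁]; abel
  · rintro ⟨w, hw⟩
    obtain ⟨x₁, rfl⟩ := Submodule.Quotient.mk_surjective _ w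
    rw [← hw, Hmap_mk, Hmap_mk]
    have : fK φ₂ φ₃ f₂ g₂ cφ₂ (fK φ₁ φ₂ f₁ g₁ cφ₁ x₁) = 0 := by
      apply Subtype.ext
      have : f₁ x₁.1 ∈ LinearMap.ker f₂ := hM ▸ ⟨x₁.1, rfl⟩
      exact this
    rw [this, Submodule.Quotient.mk_zero]

include h₁ h₂ h₃ hf₁ hg₁ hf₂ hg₂ hM hN in
/-- half of the hexagon: the connecting map `δ : H⁰₃ → H¹₁` and three exactness statements -/
theorem hexagon_half :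
    ∃ δ : perH φ₃ ψ₃ →ₗ[R] perH ψ₁ φ₁,
      Exact (Hmap φ₁ ψ₁ φ₂ ψ₂ f₁ g₁ cφ₁ cψ₁) (Hmap φ₂ ψ₂ φ₃ ψ₃ f₂ g₂ cφ₂ cψ₂) ∧
      Exact (Hmap φ₂ ψ₂ φ₃ ψ₃ f₂ g₂ cφ₂ cψ₂) δ ∧
      Exact δ (Hmap ψ₁ φ₁ ψ₂ φ₂ g₁ f₁ cψ₁ cφ₁) := by
  have hrow₁ := exact_fX ψ₁ ψ₂ ψ₃ f₁ g₁ f₂ g₂ cψ₁ cψ₂ hg₂ hM
  have hrow₂ := exact_fK ψ₁ ψ₂ ψ₃ f₁ g₁ f₂ g₂ cψ₁ cψ₂ hf₁ hN
  have hsurj := fX_surjective ψ₂ ψ₃ f₂ g₂ cψ₂ hf₂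
  have hinj := fK_injective ψ₁ ψ₂ f₁ g₁ cψ₁ hg₁
  have c₁ := phibar_comm φ₁ ψ₁ φ₂ ψ₂ f₁ g₁ cφ₁ cψ₁ h₁ h₂
  have c₂ := phibar_comm φ₂ ψ₂ φ₃ ψ₃ f₂ g₂ cφ₂ cψ₂ h₂ h₃
  refine ⟨SnakeLemma.δ' (phibar φ₁ ψ₁ h₁) (phibar φ₂ ψ₂ h₂) (phibar φ₃ ψ₃ h₃)
    (fX ψ₁ ψ₂ f₁ g₁ cψ₁) (fX ψ₂ ψ₃ f₂ g₂ cψ₂) hrow₁
    (fK ψ₁ ψ₂ g₁ f₁ cψ₁) (fK ψ₂ ψ₃ g₂ f₂ cψ₂) hrow₂ c₁ c₂
    (iota φ₃ ψ₃) (exact_iota_phibar φ₃ ψ₃ h₃) (pi φ₁ ψ₁) (exact_phibar_pi φ₁ ψ₁ h₁) hsurj hinj,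
    exact_Hmap φ₁ ψ₁ φ₂ ψ₂ φ₃ ψ₃ h₂ f₁ g₁ f₂ g₂ cφ₁ cψ₁ cφ₂ cψ₂ hf₁ hg₁ hg₂ hM, ?_, ?_⟩
  · exact SnakeLemma.exact_δ'_right (phibar φ₁ ψ₁ h₁) (phibar φ₂ ψ₂ h₂) (phibar φ₃ ψ₃ h₃)
      (fX ψ₁ ψ₂ f₁ g₁ cψ₁) (fX ψ₂ ψ₃ f₂ g₂ cψ₂) hrow₁
      (fK ψ₁ ψ₂ g₁ f₁ cψ₁) (fK ψ₂ ψ₃ g₂ f₂ cψ₂) hrow₂ c₁ c₂
      (iota φ₂ ψ₂) (exact_iota_phibar φ₂ ψ₂ h₂)
      (iota φ₃ ψ₃) (exact_iota_phibar φ₃ ψ₃ h₃) (pi φ₁ ψ₁) (exact_phibar_pi φ₁ ψ₁ h₁) hsurj hinj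
      (Hmap φ₂ ψ₂ φ₃ ψ₃ f₂ g₂ cφ₂ cψ₂) (fX_comp_iota φ₂ ψ₂ φ₃ ψ₃ f₂ g₂ cφ₂ cψ₂)
      (iota_injective φ₃ ψ₃)
  · exact SnakeLemma.exact_δ'_left (phibar φ₁ ψ₁ h₁) (phibar φ₂ ψ₂ h₂) (phibar φ₃ ψ₃ h₃)
      (fX ψ₁ ψ₂ f₁ g₁ cψ₁) (fX ψ₂ ψ₃ f₂ g₂ cψ₂) hrow₁
      (fK ψ₁ ψ₂ g₁ f₁ cψ₁) (fK ψ₂ ψ₃ g₂ f₂ cψ₂) hrow₂ c₁ c₂
      (iota φ₃ ψ₃) (exact_iota_phibar φ₃ ψ₃ h₃) (pi φ₁ ψ₁) (exact_phibar_pi φ₁ ψ₁ h₁)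
      (pi φ₂ ψ₂) (exact_phibar_pi φ₂ ψ₂ h₂) hsurj hinj
      (Hmap ψ₁ φ₁ ψ₂ φ₂ g₁ f₁ cψ₁ cφ₁) (Hmap_comp_pi φ₁ ψ₁ φ₂ ψ₂ f₁ g₁ cφ₁ cψ₁)
      (pi_surjective φ₁ ψ₁)

end ses

end Groth.Agent.Lib.Helper95.Hexagon
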