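import Mathlib.RingTheory.Invariant.Basic
import Mathlib.Algebra.Polynomial.GroupRingAction

/-! Two ring homomorphisms to a domain agreeing on the invariants of a finite group action
differ by a group element. -/

set_option autoImplicit false
universe u v w

namespace Groth.Agent.Lib.Helper95

open Polynomial

section pointwise

variable {B : Type u} [CommRing B] {G : Type v} [Group G] [Fintype G] [MulSemiringAction G B]
  {D : Type w} [CommRing D] [IsDomain D]

/-- pointwise version -/
theorem exists_smul_eq_pointwise (F₁ F₂ : B →+* D)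
    (h : ∀ b : B, (∀ g : G, g • b = b) → F₁ b = F₂ b) (b : B) :
    ∃ g : G, F₂ b = F₁ (g • b) := by
  have hmap : (MulSemiringAction.charpoly G b).map F₁ = (MulSemiringAction.charpoly G b).map F₂ := by
    ext n
    rw [coeff_map, coeff_map]
    exact h _ (fun g => MulSemiringAction.smul_coeff_charpoly b n g)
  have h2 : ((MulSemiringAction.charpoly G b).map F₂).eval (F₂ b) = 0 := by
    rw [eval_map, eval₂_hom, MulSemiringAction.eval_charpoly, map_zero]
  rw [← hmap, MulSemiringAction.charpoly_eq, Polynomial.map_prod, eval_prod] at h2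
  obtain ⟨g, -, hg⟩ := Finset.prod_eq_zero_iff.mp h2
  refine ⟨g, ?_⟩
  simpa [sub_eq_zero] using hg

end pointwise

section uniform

variable {A : Type u} [CommRing A] {G : Type v} [Group G] [Finite G] [MulSemiringAction G A]
  {K : Type w} [CommRing K] [IsDomain K]

/-- simultaneous version for a `G`-indexed family -/
theorem exists_smul_eq_family (f₁ f₂ : A →+* K)
    (h : ∀ a : A, (∀ g : G, g • a = a) → f₁ a = f₂ a) (s : G → A) :
    ∃ γ : G, ∀ g : G, f₂ (s g) = f₁ (γ • s g) := by
  classical
  cases nonempty_fintype G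
  let e : G ≃ Fin (Fintype.card G) := Fintype.equivFin G
  let P : A[X] := ∑ g : G, monomial (e g : ℕ) (s g)
  have hPcoeff : ∀ g : G, P.coeff (e g : ℕ) = s g := by
    intro g
    simp only [P, finsetSum_coeff, coeff_monomial]
    rw [Finset.sum_eq_single g]
    · simp
    · intro g' _ hne
      have : ((e g' : ℕ) = (e g : ℕ)) ↔ g' = g := by
        rw [← Fin.ext_iff, e.apply_eq_iff_eq]
      simp [this, hne]
    · intro hg; exact absurd (Finset.mem_univ g) hg
  have hF : ∀ b : A[X], (∀ g : G, g • b = b) →
      (mapRingHom f₁) b = (mapRingHom f₂) b := by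
    intro b hb
    ext n
    simp only [coe_mapRingHom, coeff_map]
    apply h
    intro g
    have := congrArg (fun q : A[X] => q.coeff n) (hb g)
    simpa [Polynomial.smul_eq_map, coeff_map] using this
  obtain ⟨γ, hγ⟩ := exists_smul_eq_pointwise (mapRingHom f₁) (mapRingHom f₂) hF P
  refine ⟨γ, fun g => ?_⟩
  have := congrArg (fun q : K[X] => q.coeff (e g : ℕ)) hγ
  simp only [coe_mapRingHom, coeff_map, Polynomial.smul_eq_map] at this
  rw [hPcoeff] at this
  simpa using this

/-- the uniform statement -/
theorem exists_smul_eq_of_eq_on_invariants (f₁ f₂ : A →+* K)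
    (h : ∀ a : A, (∀ g : G, g • a = a) → f₁ a = f₂ a) :
    ∃ γ : G, ∀ a : A, f₂ a = f₁ (γ • a) := by
  by_contra hcon
  push Not at hcon
  choose s hs using hcon
  obtain ⟨γ, hγ⟩ := exists_smul_eq_family f₁ f₂ h s
  exact hs γ (hγ γ)

end uniform

end Groth.Agent.Lib.Helper95
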