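import Mathlib

/-!
# Kernel and comaps of `MvPolynomial.killCompl`; ideals generated by variables
-/

namespace Groth.Agent.Lib.Helper95.KillCompl

open MvPolynomial

variable {R : Type*} [CommRing R] {σ τ : Type*} {f : σ → τ} (hf : Function.Injective f)

lemma killCompl_X_of_mem (j : σ) : killCompl hf (X (f j) : MvPolynomial τ R) = X j := by
  rw [← rename_X f j]; exact killCompl_rename_app hf (X j)

lemma killCompl_X_of_notMem {i : τ} (hi : i ∉ Set.range f) :
    killCompl hf (X i : MvPolynomial τ R) = 0 := by
  rw [killCompl, aeval_X, dif_neg hi]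

lemma sub_rename_killCompl_mem (p : MvPolynomial τ R) :
    p - rename f (killCompl hf p) ∈
      Ideal.span (X '' (Set.range f)ᶜ : Set (MvPolynomial τ R)) := by
  induction p using MvPolynomial.induction_on with
  | C a => simp
  | add p q hp hq =>
    have e : p + q - rename f (killCompl hf (p + q)) =
        (p - rename f (killCompl hf p)) + (q - rename f (killCompl hf q)) := by
      rw [map_add, map_add]; ring
    rw [e]; exact Ideal.add_mem _ hp hq
  | mul_X p i hp =>
    by_cases hi : i ∈ Set.range f
    · obtain ⟨j, rfl⟩ := hi
      have e : p * X (f j) - rename f (killCompl hf (p * X (f j))) =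
          (p - rename f (killCompl hf p)) * X (f j) := by
        rw [map_mul, map_mul, killCompl_X_of_mem, rename_X]; ring
      rw [e]; exact Ideal.mul_mem_right _ _ hp
    · rw [map_mul, killCompl_X_of_notMem hf hi, mul_zero, map_zero, sub_zero]
      exact Ideal.mul_mem_left _ _ (Ideal.subset_span ⟨i, hi, rfl⟩)

lemma ker_killCompl :
    RingHom.ker (killCompl hf : MvPolynomial τ R →ₐ[R] MvPolynomial σ R) =
      Ideal.span (X '' (Set.range f)ᶜ) := by
  apply le_antisymm
  · intro p hp
    have := sub_rename_killCompl_mem hf p
    rw [RingHom.mem_ker] at hp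
    rwa [hp, map_zero, sub_zero] at this
  · rw [Ideal.span_le]
    rintro _ ⟨i, hi, rfl⟩
    rw [SetLike.mem_coe, RingHom.mem_ker]
    exact killCompl_X_of_notMem hf hi

lemma comap_killCompl (J : Ideal (MvPolynomial σ R)) :
    Ideal.comap (killCompl hf : MvPolynomial τ R →ₐ[R] MvPolynomial σ R) J =
      Ideal.map (rename f : MvPolynomial σ R →ₐ[R] MvPolynomial τ R) J ⊔
        Ideal.span (X '' (Set.range f)ᶜ) := by
  apply le_antisymm
  · intro p hp
    rw [Ideal.mem_comap] at hp
    have h1 := sub_rename_killCompl_mem hf p
    have h2 : rename f (killCompl hf p) ∈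
        Ideal.map (rename f : MvPolynomial σ R →ₐ[R] MvPolynomial τ R) J :=
      Ideal.mem_map_of_mem _ hp
    have e : p = rename f (killCompl hf p) + (p - rename f (killCompl hf p)) := by ring
    rw [e]
    exact Ideal.add_mem _ (Ideal.mem_sup_left h2) (Ideal.mem_sup_right h1)
  · rw [sup_le_iff]
    constructor
    · rw [Ideal.map_le_iff_le_comap]
      intro x hx
      rw [Ideal.mem_comap, Ideal.mem_comap]
      change killCompl hf (rename f x) ∈ J
      rwa [killCompl_rename_app]
    · rw [← ker_killCompl hf]
      intro p hp
      rw [Ideal.mem_comap, RingHom.mem_ker.mp hp]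
      exact J.zero_mem

lemma killCompl_surjective :
    Function.Surjective (killCompl hf : MvPolynomial τ R →ₐ[R] MvPolynomial σ R) :=
  fun p => ⟨rename f p, killCompl_rename_app hf p⟩

section vars

variable (s : Set τ)

lemma range_val_compl : (Set.range (Subtype.val : {t // t ∉ s} → τ))ᶜ = s := by
  ext t; simp

/-- the ideal generated by a set of variables is prime over a domain -/
lemma span_X_image_isPrime [IsDomain R] :
    (Ideal.span (X '' s : Set (MvPolynomial τ R))).IsPrime := by
  have hf : Function.Injective (Subtype.val : {t // t ∉ s} → τ) := Subtype.val_injective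
  have h := ker_killCompl (R := R) hf
  rw [range_val_compl] at h
  rw [← h]
  exact RingHom.ker_isPrime _

/-- quotient by the ideal generated by a set of variables -/
noncomputable def quotEquiv :
    (MvPolynomial τ R ⧸ Ideal.span (X '' s : Set (MvPolynomial τ R))) ≃ₐ[R]
      MvPolynomial {t // t ∉ s} R :=
  (Ideal.quotientEquivAlgOfEq R (by
    have h := ker_killCompl (R := R) (Subtype.val_injective : Function.Injective
      (Subtype.val : {t // t ∉ s} → τ))
    rw [range_val_compl] at h
    exact h.symm)).trans
  (Ideal.quotientKerAlgEquivOfSurjective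
    (killCompl_surjective (R := R) (Subtype.val_injective : Function.Injective
      (Subtype.val : {t // t ∉ s} → τ))))

instance quot_isIntegrallyClosed (k : Type*) [Field k] :
    IsIntegrallyClosed (MvPolynomial τ k ⧸ Ideal.span (X '' s : Set (MvPolynomial τ k))) :=
  IsIntegrallyClosed.of_equiv (quotEquiv (R := k) s).symm.toRingEquiv

end vars

end Groth.Agent.Lib.Helper95.KillCompl
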