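import Mathlib

/-!
# A Nakayama-type injectivity criterion after localisation at a prime

`u : N → M` linear over `R`, `N` finite, `M_P` projective, `u` surjective after inverting some
`r₀ ∉ P`, and injective modulo an ideal `I ≤ P` (in the sense `u x ∈ I M → x ∈ I N`).
Then `ker u` vanishes at `P`.
-/

set_option autoImplicit false
universe u

namespace Groth.Agent.Helper95.LocalSplitNakayama

variable {R : Type u} [CommRing R] (P : Ideal R) [P.IsPrime] (I : Ideal R)
    {N M : Type u} [AddCommGroup N] [AddCommGroup M] [Module R N] [Module R M]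

lemma mk_mem_map_smul_top (y : N) (hy : y ∈ I • (⊤ : Submodule R N)) (s : P.primeCompl) :
    LocalizedModule.mk y s ∈ (I.map (algebraMap R (Localization.AtPrime P))) •
      (⊤ : Submodule (Localization.AtPrime P) (LocalizedModule P.primeCompl N)) := by
  have h1 : LocalizedModule.mk y s = (Localization.mk 1 s : Localization.AtPrime P) •
      LocalizedModule.mk y (1 : P.primeCompl) := by
    rw [LocalizedModule.mk_smul_mk, one_smul, mul_one]
  rw [h1]
  refine Submodule.smul_mem _ _ ?_
  refine Submodule.smul_induction_on hy ?_ ?_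
  · intro r hr n _
    have h2 : LocalizedModule.mk (r • n) (1 : P.primeCompl) =
        (algebraMap R (Localization.AtPrime P) r) • LocalizedModule.mk n (1 : P.primeCompl) := by
      rw [← Localization.mk_one_eq_algebraMap, LocalizedModule.mk_smul_mk, one_mul]
    rw [h2]
    exact Submodule.smul_mem_smul (Ideal.mem_map_of_mem _ hr) Submodule.mem_top
  · intro a b ha hb
    have : LocalizedModule.mk (a + b) (1 : P.primeCompl) =
        LocalizedModule.mk a (1 : P.primeCompl) + LocalizedModule.mk b (1 : P.primeCompl) := by
      rw [LocalizedModule.mk_add_mk]; simp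
    rw [this]
    exact add_mem ha hb

theorem exists_smul_eq_zero_of_mem_ker [Module.Finite R N] (hI : I ≤ P)
    (u : N →ₗ[R] M)
    (hinj : ∀ x, u x ∈ I • (⊤ : Submodule R M) → x ∈ I • (⊤ : Submodule R N))
    (r₀ : R) (hr₀ : r₀ ∉ P) (hsurj : ∀ ω, r₀ • ω ∈ LinearMap.range u)
    [Module.Projective (Localization.AtPrime P) (LocalizedModule P.primeCompl M)]
    (n : N) (hn : u n = 0) : ∃ r, r ∉ P ∧ r • n = 0 := by
  set S := P.primeCompl with hS
  set T := Localization.AtPrime P with hT
  set uP : LocalizedModule S N →ₗ[T] LocalizedModule S M := LocalizedModule.map S u with huP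
  have hsurjP : Function.Surjective uP := by
    intro m
    induction m using LocalizedModule.induction_on with
    | h m s =>
      obtain ⟨n', hn'⟩ := hsurj m
      refine ⟨LocalizedModule.mk n' (⟨r₀, hr₀⟩ * s), ?_⟩
      rw [huP, LocalizedModule.map_mk, hn']
      exact LocalizedModule.mk_cancel_common_left (⟨r₀, hr₀⟩ : S) s m
  obtain ⟨sec, hsec⟩ := Module.projective_lifting_property uP LinearMap.id hsurjP
  set e : LocalizedModule S N →ₗ[T] LocalizedModule S N := LinearMap.id - sec ∘ₗ uP with he
  have he_ker : ∀ k, uP k = 0 → e k = k := by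
    intro k hk
    simp [he, hk]
  have he_mem : ∀ k, uP (e k) = 0 := by
    intro k
    have := LinearMap.congr_fun hsec (uP k)
    simp only [LinearMap.comp_apply, LinearMap.id_apply] at this
    simp [he, this]
  set J : Ideal T := I.map (algebraMap R T) with hJ
  have hJle : J ≤ Ideal.jacobson ⊥ := by
    rw [IsLocalRing.jacobson_eq_maximalIdeal _ bot_ne_top,
      ← Localization.AtPrime.map_eq_maximalIdeal]
    exact Ideal.map_mono hI
  -- kernel elements lie in `J • ⊤`
  have hker_mem : ∀ k, uP k = 0 → k ∈ J • (⊤ : Submodule T (LocalizedModule S N)) := by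
    intro k hk
    induction k using LocalizedModule.induction_on with
    | h n' s =>
      rw [huP, LocalizedModule.map_mk, ← LocalizedModule.zero_mk s, LocalizedModule.mk_eq] at hk
      obtain ⟨t, ht⟩ := hk
      rw [smul_zero, smul_zero] at ht
      have h2 : ((t * s : S) : R) • n' ∈ I • (⊤ : Submodule R N) := by
        apply hinj
        have : u (((t * s : S) : R) • n') = 0 := by
          rw [map_smul, Submonoid.coe_mul, mul_smul]
          exact ht
        rw [this]; exact zero_mem _
      have h3 : LocalizedModule.mk n' s = LocalizedModule.mk ((t * s) • n') ((t * s) * s) :=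
        (LocalizedModule.mk_cancel_common_left (t * s) s n').symm
      rw [h3]
      exact mk_mem_map_smul_top P I _ h2 _
  set K : Submodule T (LocalizedModule S N) := LinearMap.range e with hK
  have hKfg : K.FG := by
    rw [hK, LinearMap.range_eq_map]
    exact Submodule.FG.map _ (Module.Finite.fg_top)
  have hKle : K ≤ J • K := by
    rintro _ ⟨k, rfl⟩
    have h1 := hker_mem _ (he_mem k)
    have h2 : e (e k) = e k := he_ker _ (he_mem k)
    rw [← h2]
    refine Submodule.smul_induction_on h1 ?_ ?_
    · intro j hj m _
      rw [map_smul]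
      exact Submodule.smul_mem_smul hj ⟨m, rfl⟩
    · intro a b ha hb
      rw [map_add]; exact add_mem ha hb
  have hKbot : K = ⊥ := Submodule.eq_bot_of_le_smul_of_le_jacobson_bot J K hKfg hKle hJle
  have h0 : uP (LocalizedModule.mk n 1) = 0 := by
    rw [huP, LocalizedModule.map_mk, hn, LocalizedModule.zero_mk]
  have h1 : LocalizedModule.mk n (1 : S) ∈ K := ⟨_, he_ker _ h0⟩
  rw [hKbot, Submodule.mem_bot, ← LocalizedModule.zero_mk (1 : S), LocalizedModule.mk_eq] at h1
  obtain ⟨t, ht⟩ := h1
  refine ⟨t, t.2, ?_⟩
  have : t • n = 0 := by simpa using ht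
  exact this

end Groth.Agent.Helper95.LocalSplitNakayama
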