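import Mathlib

/-!
# Mittag-Leffler lifting for inverse systems of Artinian modules indexed by `ℕ`
-/

namespace Groth.Agent.Lib.Helper95.MLLift

variable {R : Type*} [CommRing R]

/-- Given an inverse system `(P n, T)` of Artinian modules, an inverse system `(Z n, S)`, a compatible
family of linear maps `u n : P n → Z n` and a compatible family `y n ∈ Z n` with each `y n` in the
range of `u n`, there is a compatible family `x n ∈ P n` with `u n (x n) = y n`. -/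
theorem ml_lift
    {P Z : ℕ → Type*} [∀ n, AddCommGroup (P n)] [∀ n, Module R (P n)]
    [∀ n, AddCommGroup (Z n)] [∀ n, Module R (Z n)] [∀ n, IsArtinian R (P n)]
    (T : ∀ n m, n ≤ m → (P m →ₗ[R] P n))
    (hT0 : ∀ n (x : P n), T n n le_rfl x = x)
    (hT : ∀ n m k (h1 : n ≤ m) (h2 : m ≤ k) (x : P k),
      T n m h1 (T m k h2 x) = T n k (h1.trans h2) x)
    (S : ∀ n m, n ≤ m → (Z m →ₗ[R] Z n))
    (u : ∀ n, P n →ₗ[R] Z n)
    (hu : ∀ n m (h : n ≤ m) (x : P m), u n (T n m h x) = S n m h (u m x))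
    (y : ∀ n, Z n) (hy : ∀ n m (h : n ≤ m), S n m h (y m) = y n)
    (hyr : ∀ n, ∃ x, u n x = y n) :
    ∃ x : ∀ n, P n, (∀ n m (h : n ≤ m), T n m h (x m) = x n) ∧ ∀ n, u n (x n) = y n := by
  classical
  -- kernels map to kernels
  have hK : ∀ n m (h : n ≤ m) (x : P m), u m x = 0 → u n (T n m h x) = 0 := by
    intro n m h x hx
    rw [hu, hx, map_zero]
  -- the images of the kernels
  let I : ∀ n m, n ≤ m → Submodule R (P n) := fun n m h => (LinearMap.ker (u m)).map (T n m h)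
  have hI_anti : ∀ n m k (h1 : n ≤ m) (h2 : m ≤ k), I n k (h1.trans h2) ≤ I n m h1 := by
    intro n m k h1 h2 z hz
    obtain ⟨x, hx, rfl⟩ := hz
    refine ⟨T m k h2 x, ?_, hT n m k h1 h2 x⟩
    exact hK m k h2 x hx
  have hstab : ∀ n, ∃ m₀, ∃ h0 : n ≤ m₀, ∀ m (h : m₀ ≤ m), I n m (h0.trans h) = I n m₀ h0 := by
    intro n
    let f : ℕ →o (Submodule R (P n))ᵒᵈ :=
      { toFun := fun j => OrderDual.toDual (I n (n + j) (Nat.le_add_right n j))
        monotone' := by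
          intro j j' hjj'
          change I n (n + j') _ ≤ I n (n + j) _
          exact hI_anti n (n + j) (n + j') (Nat.le_add_right n j) (Nat.add_le_add_left hjj' n) }
    obtain ⟨j₀, hj₀⟩ := IsArtinian.monotone_stabilizes f
    refine ⟨n + j₀, Nat.le_add_right n j₀, ?_⟩
    intro m hm
    obtain ⟨j, rfl⟩ : ∃ j, m = n + j := ⟨m - n, by omega⟩
    have := hj₀ j (by omega)
    exact (congrArg OrderDual.ofDual this).symm
  choose m₀ hm₀ hm₀' using hstab
  let Q : ∀ m, Set (P m) := fun m => {x | u m x = y m}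
  have hQT : ∀ n m (h : n ≤ m) (x : P m), x ∈ Q m → T n m h x ∈ Q n := by
    intro n m h x hx
    change u n (T n m h x) = y n
    rw [hu, hx, hy]
  have c1 : ∀ n m (h : m₀ n ≤ m) (x : P (m₀ n)), x ∈ Q (m₀ n) →
      ∃ x' ∈ Q m, T n m ((hm₀ n).trans h) x' = T n (m₀ n) (hm₀ n) x := by
    intro n m h x hx
    obtain ⟨q, hq⟩ := hyr m
    have hd : x - T (m₀ n) m h q ∈ LinearMap.ker (u (m₀ n)) := by
      rw [LinearMap.mem_ker, map_sub, hu, hq, hy, hx, sub_self]
    have hd' : T n (m₀ n) (hm₀ n) (x - T (m₀ n) m h q) ∈ I n m ((hm₀ n).trans h) := by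
      rw [hm₀' n m h]
      exact ⟨_, hd, rfl⟩
    obtain ⟨k, hk, hk'⟩ := hd'
    refine ⟨q + k, ?_, ?_⟩
    · change u m (q + k) = y m
      rw [map_add, hq, LinearMap.mem_ker.mp hk, add_zero]
    · rw [map_add, hk', map_sub, hT]
      abel
  let Q' : ∀ n, Set (P n) := fun n => {z | ∃ x ∈ Q (m₀ n), T n (m₀ n) (hm₀ n) x = z}
  have c2 : ∀ n (z : P n), z ∈ Q' n → ∃ z' ∈ Q' (n + 1), T n (n + 1) (Nat.le_succ n) z' = z := by
    intro n z hz
    obtain ⟨x, hx, rfl⟩ := hz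
    have hmax1 : m₀ n ≤ max (m₀ n) (m₀ (n + 1)) := le_max_left _ _
    have hmax2 : m₀ (n + 1) ≤ max (m₀ n) (m₀ (n + 1)) := le_max_right _ _
    obtain ⟨x', hx', hx'e⟩ := c1 n _ hmax1 x hx
    refine ⟨T (n + 1) _ ((hm₀ (n + 1)).trans hmax2) x', ?_, ?_⟩
    · refine ⟨T (m₀ (n + 1)) _ hmax2 x', hQT _ _ _ _ hx', ?_⟩
      rw [hT]
    · rw [hT]
      exact hx'e
  have h0 : ∃ z, z ∈ Q' 0 := by
    obtain ⟨q, hq⟩ := hyr (m₀ 0)
    exact ⟨_, q, hq, rfl⟩
  let xs : ∀ n, {z : P n // z ∈ Q' n} := fun n =>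
    Nat.rec (motive := fun n => {z : P n // z ∈ Q' n}) ⟨h0.choose, h0.choose_spec⟩
      (fun n prev => ⟨(c2 n prev.1 prev.2).choose, (c2 n prev.1 prev.2).choose_spec.1⟩) n
  have hstep : ∀ n, T n (n + 1) (Nat.le_succ n) (xs (n + 1)).1 = (xs n).1 := by
    intro n
    exact (c2 n (xs n).1 (xs n).2).choose_spec.2
  refine ⟨fun n => (xs n).1, ?_, ?_⟩
  · intro n m h
    induction m, h using Nat.le_induction with
    | base => exact hT0 n _
    | succ m hnm ih =>
      rw [← hT n m (m + 1) hnm (Nat.le_succ m), hstep, ih]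
  · intro n
    obtain ⟨x, hx, hxe⟩ := (xs n).2
    have := hQT n (m₀ n) (hm₀ n) x hx
    rw [hxe] at this
    exact this

end Groth.Agent.Lib.Helper95.MLLift
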