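import Mathlib

/-!
Abstract horizontal composition of base change (mate) maps.
-/

set_option autoImplicit false

namespace Groth.Agent.Lib.Helper95.MatesHorizontal

open CategoryTheory

universe v u

variable {𝒳 𝒴 𝒵 𝒰 𝒱 𝒲 : Type u} [Category.{v} 𝒳] [Category.{v} 𝒴] [Category.{v} 𝒵]
  [Category.{v} 𝒰] [Category.{v} 𝒱] [Category.{v} 𝒲]

theorem main
    {Fs : 𝒴 ⥤ 𝒳} {Fp : 𝒳 ⥤ 𝒴} (adjF : Fs ⊣ Fp)
    {Gs : 𝒵 ⥤ 𝒴} {Gp : 𝒴 ⥤ 𝒵} (adjG : Gs ⊣ Gp)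
    {FGs : 𝒵 ⥤ 𝒳} {FGp : 𝒳 ⥤ 𝒵} (adjFG : FGs ⊣ FGp)
    {Φs : 𝒱 ⥤ 𝒰} {Φp : 𝒰 ⥤ 𝒱} (adjΦ : Φs ⊣ Φp)
    {Ψs : 𝒲 ⥤ 𝒱} {Ψp : 𝒱 ⥤ 𝒲} (adjΨ : Ψs ⊣ Ψp)
    {ΦΨs : 𝒲 ⥤ 𝒰} {ΦΨp : 𝒰 ⥤ 𝒲} (adjΦΨ : ΦΨs ⊣ ΦΨp)
    (αfg : Gs ⋙ Fs ≅ FGs) (pfg : Fp ⋙ Gp ≅ FGp)
    (hfg : conjugateEquiv (adjG.comp adjF) adjFG αfg.inv = pfg.hom)
    (αφψ : Ψs ⋙ Φs ≅ ΦΨs) (pφψ : Φp ⋙ Ψp ≅ ΦΨp)
    (hφψ : conjugateEquiv (adjΨ.comp adjΦ) adjΦΨ αφψ.inv = pφψ.hom)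
    (ξp : 𝒳 ⥤ 𝒰) (ηp : 𝒴 ⥤ 𝒱) (ζp : 𝒵 ⥤ 𝒲)
    (θ₁ : Fp ⋙ ηp ⟶ ξp ⋙ Φp) (θ₂ : Gp ⋙ ζp ⟶ ηp ⋙ Ψp) (θ₃ : FGp ⋙ ζp ⟶ ξp ⋙ ΦΨp)
    (hθ : ∀ N : 𝒳, ζp.map (pfg.hom.app N) ≫ θ₃.app N ≫ pφψ.inv.app (ξp.obj N) =
      θ₂.app (Fp.obj N) ≫ Ψp.map (θ₁.app N))
    (L : 𝒵) :
    αφψ.hom.app (ζp.obj L) ≫ (adjΦΨ.homEquiv (ζp.obj L) (ξp.obj (FGs.obj L))).symm
        (ζp.map (adjFG.unit.app L) ≫ θ₃.app (FGs.obj L)) =
      Φs.map ((adjΨ.homEquiv (ζp.obj L) (ηp.obj (Gs.obj L))).symm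
          (ζp.map (adjG.unit.app L) ≫ θ₂.app (Gs.obj L))) ≫
        (adjΦ.homEquiv (ηp.obj (Gs.obj L)) (ξp.obj (Fs.obj (Gs.obj L)))).symm
          (ηp.map (adjF.unit.app (Gs.obj L)) ≫ θ₁.app (Fs.obj (Gs.obj L))) ≫
        ξp.map (αfg.hom.app L) := by
  set A := ζp.obj L with hA
  set N := Fs.obj (Gs.obj L) with hN
  set B := ξp.obj (FGs.obj L) with hB
  set a := αfg.hom.app L with ha
  set kg := ζp.map (adjG.unit.app L) ≫ θ₂.app (Gs.obj L) with hkg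
  set kf := ηp.map (adjF.unit.app (Gs.obj L)) ≫ θ₁.app N with hkf
  set kfg := ζp.map (adjFG.unit.app L) ≫ θ₃.app (FGs.obj L) with hkfg
  set βg := (adjΨ.homEquiv A (ηp.obj (Gs.obj L))).symm kg with hβg
  set βf := (adjΦ.homEquiv (ηp.obj (Gs.obj L)) (ξp.obj N)).symm kf with hβf
  set βfg := (adjΦΨ.homEquiv A B).symm kfg with hβfg
  -- transposes
  have eg : adjΨ.unit.app A ≫ Ψp.map βg = kg :=
    (adjΨ.homEquiv_unit _ _ _).symm.trans (Equiv.apply_symm_apply _ _)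
  have ef : adjΦ.unit.app (ηp.obj (Gs.obj L)) ≫ Φp.map βf = kf :=
    (adjΦ.homEquiv_unit _ _ _).symm.trans (Equiv.apply_symm_apply _ _)
  have efg : adjΦΨ.unit.app A ≫ ΦΨp.map βfg = kfg :=
    (adjΦΨ.homEquiv_unit _ _ _).symm.trans (Equiv.apply_symm_apply _ _)
  -- the composite adjunction
  let C := adjΨ.comp adjΦ
  have hCu : C.unit.app A = adjΨ.unit.app A ≫ Ψp.map (adjΦ.unit.app (Ψs.obj A)) := by
    simp [C]
  apply (C.homEquiv A B).injective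
  rw [Adjunction.homEquiv_unit, Adjunction.homEquiv_unit]
  apply (cancel_mono (pφψ.hom.app B)).1
  -- left side
  have hL : (C.unit.app A ≫ (Φp ⋙ Ψp).map (αφψ.hom.app A ≫ βfg)) ≫ pφψ.hom.app B = kfg := by
    have h1 := unit_conjugateEquiv C adjΦΨ αφψ.inv A
    rw [hφψ] at h1
    rw [Category.assoc, pφψ.hom.naturality, ← Category.assoc, h1, Category.assoc,
      ← ΦΨp.map_comp, ← Category.assoc (αφψ.inv.app A), Iso.inv_hom_id_app, Category.id_comp, efg]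
  -- right side
  have hR : (C.unit.app A ≫ (Φp ⋙ Ψp).map (Φs.map βg ≫ βf ≫ ξp.map a)) ≫ pφψ.hom.app B =
      kfg := by
    have h2 : C.unit.app A ≫ (Φp ⋙ Ψp).map (Φs.map βg ≫ βf ≫ ξp.map a) =
        kg ≫ Ψp.map kf ≫ Ψp.map (Φp.map (ξp.map a)) := by
      have hn : adjΦ.unit.app (Ψs.obj A) ≫ Φp.map (Φs.map βg) =
          βg ≫ adjΦ.unit.app (ηp.obj (Gs.obj L)) := (adjΦ.unit.naturality βg).symm
      calc C.unit.app A ≫ (Φp ⋙ Ψp).map (Φs.map βg ≫ βf ≫ ξp.map a)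
          = adjΨ.unit.app A ≫ Ψp.map ((adjΦ.unit.app (Ψs.obj A) ≫ Φp.map (Φs.map βg)) ≫
              Φp.map βf ≫ Φp.map (ξp.map a)) := by
            rw [hCu]; simp only [Functor.comp_map, Functor.map_comp, Category.assoc]
        _ = adjΨ.unit.app A ≫ Ψp.map (βg ≫ kf ≫ Φp.map (ξp.map a)) := by
            rw [hn, Category.assoc, ← Category.assoc (adjΦ.unit.app _), ef]
        _ = _ := by
            rw [Ψp.map_comp, ← Category.assoc, eg, Ψp.map_comp]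
    rw [h2]
    -- kfg expansion
    have h3 := unit_conjugateEquiv (adjG.comp adjF) adjFG αfg.inv L
    rw [hfg] at h3
    have hCu' : (adjG.comp adjF).unit.app L =
        adjG.unit.app L ≫ Gp.map (adjF.unit.app (Gs.obj L)) := by simp
    have h4 : adjFG.unit.app L =
        adjG.unit.app L ≫ Gp.map (adjF.unit.app (Gs.obj L)) ≫ pfg.hom.app N ≫ FGp.map a := by
      have : adjFG.unit.app L = (adjFG.unit.app L ≫ FGp.map (αfg.inv.app L)) ≫ FGp.map a := by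
        rw [Category.assoc, ← FGp.map_comp, Iso.inv_hom_id_app]; simp
      rw [this, ← h3, hCu']; simp only [Category.assoc]; rfl
    have hθ₂ : θ₂.app (Gs.obj L) ≫ Ψp.map (ηp.map (adjF.unit.app (Gs.obj L))) =
        ζp.map (Gp.map (adjF.unit.app (Gs.obj L))) ≫ θ₂.app (Fp.obj N) :=
      (θ₂.naturality (adjF.unit.app (Gs.obj L))).symm
    have hθ₃ : ζp.map (FGp.map a) ≫ θ₃.app (FGs.obj L) = θ₃.app N ≫ ΦΨp.map (ξp.map a) :=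
      θ₃.naturality a
    have hp : Ψp.map (Φp.map (ξp.map a)) ≫ pφψ.hom.app B =
        pφψ.hom.app (ξp.obj N) ≫ ΦΨp.map (ξp.map a) :=
      pφψ.hom.naturality (ξp.map a)
    calc (kg ≫ Ψp.map kf ≫ Ψp.map (Φp.map (ξp.map a))) ≫ pφψ.hom.app B
        = ζp.map (adjG.unit.app L) ≫ (θ₂.app (Gs.obj L) ≫
            Ψp.map (ηp.map (adjF.unit.app (Gs.obj L)))) ≫ Ψp.map (θ₁.app N) ≫
            (Ψp.map (Φp.map (ξp.map a)) ≫ pφψ.hom.app B) := by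
          rw [hkg, hkf]; simp only [Functor.map_comp, Category.assoc]
      _ = ζp.map (adjG.unit.app L) ≫ ζp.map (Gp.map (adjF.unit.app (Gs.obj L))) ≫
            (θ₂.app (Fp.obj N) ≫ Ψp.map (θ₁.app N)) ≫ pφψ.hom.app (ξp.obj N) ≫
            ΦΨp.map (ξp.map a) := by
          rw [hθ₂, hp]; simp only [Category.assoc]
      _ = ζp.map (adjG.unit.app L) ≫ ζp.map (Gp.map (adjF.unit.app (Gs.obj L))) ≫
            ζp.map (pfg.hom.app N) ≫ θ₃.app N ≫ ΦΨp.map (ξp.map a) := by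
          rw [← hθ N]; simp only [Category.assoc, Iso.inv_hom_id_app_assoc]
      _ = ζp.map (adjG.unit.app L) ≫ ζp.map (Gp.map (adjF.unit.app (Gs.obj L))) ≫
            ζp.map (pfg.hom.app N) ≫ ζp.map (FGp.map a) ≫ θ₃.app (FGs.obj L) := by
          rw [hθ₃]
      _ = kfg := by
          rw [hkfg, h4]; simp only [Functor.map_comp, Category.assoc]
  rw [hL, hR]

end Groth.Agent.Lib.Helper95.MatesHorizontal
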