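import Groth.Prelude.Def_GSzMilK

/-! Helper lemmas on the Milnor K-groups `MilK.K` of the prelude. -/

set_option autoImplicit false
universe u v w

namespace Groth.Agent.Lib.Helper95

open MilK

section Basic

variable {F : Type u} [Field F]

/-- Two additive maps out of `K F n` agreeing on symbols agree. -/
theorem milK_hom_ext {M : Type w} [AddCommGroup M] {n : ℕ} (f g : K F n →+ M)
    (h : ∀ x : Fin n → Fˣ, f (symbol x) = g (symbol x)) : f = g := by
  have key : (f.comp (mk F n)).toIntLinearMap = (g.comp (mk F n)).toIntLinearMap := by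
    apply PiTensorProduct.ext
    ext x
    simp only [LinearMap.compMultilinearMap_apply, AddMonoidHom.coe_toIntLinearMap,
      AddMonoidHom.comp_apply]
    exact h fun i => (x i).toMul
  ext y
  obtain ⟨t, rfl⟩ := mk_surjective F n y
  have := congrArg (fun l : T F n →ₗ[ℤ] M => l t) key
  simpa using this

/-- The symbol is multiplicative in each entry. -/
theorem symbol_update_mul {n : ℕ} (x : Fin n → Fˣ) (i : Fin n) (a b : Fˣ) :
    symbol (Function.update x i (a * b)) =
      symbol (Function.update x i a) + symbol (Function.update x i b) := by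
  classical
  have h := (PiTensorProduct.tprod ℤ (s := fun _ : Fin n => Additive Fˣ)).map_update_add
    (fun j => Additive.ofMul (x j)) i (Additive.ofMul a) (Additive.ofMul b)
  have e : ∀ c : Fˣ, (fun j => Additive.ofMul (Function.update x i c j)) =
      Function.update (fun j => Additive.ofMul (x j)) i (Additive.ofMul c) := by
    intro c
    ext j
    by_cases hj : j = i
    · subst hj; simp
    · simp [Function.update_of_ne hj]
  simp only [symbol]
  rw [e, e, e, ofMul_mul, h, map_add]

/-- The symbol `{a b, y}` is `{a, y} + {b, y}`. -/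
theorem symbol_cons_mul {n : ℕ} (a b : Fˣ) (y : Fin n → Fˣ) :
    symbol (Fin.cons (a * b) y : Fin (n + 1) → Fˣ) =
      symbol (Fin.cons a y : Fin (n + 1) → Fˣ) + symbol (Fin.cons b y : Fin (n + 1) → Fˣ) := by
  have h := symbol_update_mul (Fin.cons a y : Fin (n + 1) → Fˣ) 0 a b
  simpa [Fin.update_cons_zero] using h

end Basic

section Valuation

variable (B : Type u) [CommRing B] [IsDomain B] [IsDiscreteValuationRing B]
  (F : Type v) [Field F] [Algebra B F] [IsFractionRing B F]

/-- A tame symbol kills symbols of units. -/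
theorem tame_units {n : ℕ} (d : K F (n + 1) →+ K (IsLocalRing.ResidueField B) n)
    (hd : IsTameSymbol B F n d) (u₀ : Bˣ) (u : Fin n → Bˣ) :
    d (symbol (Fin.cons (unitToFrac B F u₀) fun i => unitToFrac B F (u i))) = 0 := by
  obtain ⟨ϖ, hϖ⟩ := IsDiscreteValuationRing.exists_irreducible B
  have hϖ' : Irreducible ((u₀ : B) * ϖ) := (irreducible_units_mul u₀).mpr hϖ
  have h1 := hd ϖ hϖ u
  have h2 := hd _ hϖ' u
  have e : unitFrac B F ((u₀ : B) * ϖ) hϖ'.ne_zero = unitToFrac B F u₀ * unitFrac B F ϖ hϖ.ne_zero := by
    ext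
    simp [unitToFrac]
  rw [e, symbol_cons_mul, map_add, h1] at h2
  exact add_eq_right.mp h2

end Valuation

end Groth.Agent.Lib.Helper95
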