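import Groth.Agent.Lib.Helper95.NagataStep
import Groth.Agent.Lib.Helper95.KillCompl
import Groth.Agent.Lib.Helper11.IntegralDim

/-!
# Noether normalization adapted to an ideal (Nagata elimination keeping a lifted polynomial part)
-/

namespace Groth.Agent.Lib.Helper95.NNChain

open MvPolynomial

variable {k : Type*} [Field k] {A : Type*} [CommRing A] [Algebra k A]

/-- Eliminate the `I`-variables one by one until the map becomes injective, keeping integrality,
the `I`-variables in `I` and the remaining variables congruent to `t` mod `I`. -/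
theorem lfin (I : Ideal A) (m : ℕ) (t : Fin m → A)
    (ht : AlgebraicIndependent k (fun j => Ideal.Quotient.mk I (t j))) :
    ∀ (n : ℕ) (π : MvPolynomial (Fin (m + n)) k →ₐ[k] A), π.toRingHom.IsIntegral →
      (∀ i : Fin (m + n), (i : ℕ) < n → π (X i) ∈ I) →
      (∀ j : Fin m, π (X ⟨n + j, by omega⟩) - t j ∈ I) →
      ∃ (n' : ℕ) (π' : MvPolynomial (Fin (m + n')) k →ₐ[k] A), π'.toRingHom.IsIntegral ∧
        Function.Injective π' ∧ (∀ i : Fin (m + n'), (i : ℕ) < n' → π' (X i) ∈ I) ∧
        (∀ j : Fin m, π' (X ⟨n' + j, by omega⟩) - t j ∈ I) := by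
  intro n
  induction n with
  | zero =>
    intro π hπ hU hT
    refine ⟨0, π, hπ, ?_, hU, hT⟩
    have hg : (Ideal.Quotient.mkₐ k I).comp π =
        aeval (fun j : Fin (m + 0) => Ideal.Quotient.mk I (t j)) := by
      apply MvPolynomial.algHom_ext
      intro j
      rw [AlgHom.comp_apply, aeval_X, Ideal.Quotient.mkₐ_eq_mk, Ideal.Quotient.eq]
      have := hT j
      have e : (⟨0 + (j : ℕ), by omega⟩ : Fin (m + 0)) = j := Fin.ext (by simp)
      rwa [e] at this
    have hinj : Function.Injective ((Ideal.Quotient.mkₐ k I).comp π) := by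
      rw [hg]; exact ht
    exact Function.Injective.of_comp (f := Ideal.Quotient.mkₐ k I) hinj
  | succ n ih =>
    intro π hπ hU hT
    by_cases hinj : Function.Injective π
    · exact ⟨n + 1, π, hπ, hinj, hU, hT⟩
    · rw [injective_iff_map_eq_zero] at hinj
      push Not at hinj
      obtain ⟨f, hf0, hfne⟩ := hinj
      obtain ⟨π', e, hπ', he, hX⟩ := NagataStep.step (N := m + n) π hπ f hfne hf0
      have h0 : π (X 0) ∈ I := hU 0 (by simp)
      apply ih π' hπ'
      · intro i hi
        rw [hX]
        refine I.sub_mem (hU i.succ (by simp; omega)) ?_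
        exact Ideal.pow_mem_of_mem I h0 _ (he i)
      · intro j
        rw [hX]
        have e1 : (⟨n + (j : ℕ), by omega⟩ : Fin (m + n)).succ =
            (⟨n + 1 + (j : ℕ), by omega⟩ : Fin (m + (n + 1))) := Fin.ext (by simp; omega)
        rw [e1]
        have h1 := hT j
        have e2 : π (X ⟨n + 1 + (j : ℕ), by omega⟩) - π (X 0) ^ e ⟨n + (j : ℕ), by omega⟩ - t j =
            (π (X ⟨n + 1 + (j : ℕ), by omega⟩) - t j) - π (X 0) ^ e ⟨n + (j : ℕ), by omega⟩ := by
          ring
        rw [e2]
        exact I.sub_mem h1 (Ideal.pow_mem_of_mem I h0 _ (he _))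

/-- Initial lift: from an integral map `φ'` into `A ⧸ I`, produce an integral map into `A` from a
polynomial ring with extra variables mapping into `I`. -/
theorem init [Algebra.FiniteType k A] (I : Ideal A) (m : ℕ)
    (φ' : MvPolynomial (Fin m) k →ₐ[k] A ⧸ I) (hφ' : φ'.toRingHom.IsIntegral) (t : Fin m → A)
    (ht : ∀ j, Ideal.Quotient.mk I (t j) = φ' (X j)) :
    ∃ (n : ℕ) (π : MvPolynomial (Fin (m + n)) k →ₐ[k] A), π.toRingHom.IsIntegral ∧
      (∀ i : Fin (m + n), (i : ℕ) < n → π (X i) ∈ I) ∧
      (∀ j : Fin m, π (X ⟨n + j, by omega⟩) - t j ∈ I) := by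
  classical
  obtain ⟨n, f, fsurj⟩ := Algebra.FiniteType.iff_quotient_mvPolynomial''.mp
    (inferInstance : Algebra.FiniteType k A)
  -- monic polynomials of positive degree killing the generators mod `I`
  have hP : ∀ i : Fin n, ∃ P : Polynomial (MvPolynomial (Fin m) k), P.Monic ∧ 1 ≤ P.natDegree ∧
      Polynomial.eval₂ φ'.toRingHom (Ideal.Quotient.mk I (f (X i))) P = 0 := by
    intro i
    obtain ⟨P, hPm, hP0⟩ := hφ' (Ideal.Quotient.mk I (f (X i)))
    refine ⟨P * Polynomial.X, hPm.mul Polynomial.monic_X, ?_, ?_⟩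
    · rw [Polynomial.natDegree_mul_X hPm.ne_zero]; omega
    · rw [Polynomial.eval₂_mul, hP0, zero_mul]
  choose P hPm hPd hP0 using hP
  have hcomp : ((Ideal.Quotient.mk I).comp (aeval t : MvPolynomial (Fin m) k →ₐ[k] A).toRingHom) =
      φ'.toRingHom := by
    have : ((Ideal.Quotient.mkₐ k I).comp (aeval t : MvPolynomial (Fin m) k →ₐ[k] A)) = φ' := by
      apply MvPolynomial.algHom_ext
      intro j
      rw [AlgHom.comp_apply, aeval_X, Ideal.Quotient.mkₐ_eq_mk, ht]
    refine RingHom.ext (fun x => ?_)
    exact DFunLike.congr_fun this x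
  set u : Fin n → A := fun i =>
    Polynomial.eval₂ (aeval t : MvPolynomial (Fin m) k →ₐ[k] A).toRingHom (f (X i)) (P i) with hu
  have huI : ∀ i, u i ∈ I := by
    intro i
    rw [← Ideal.Quotient.eq_zero_iff_mem, hu]
    change Ideal.Quotient.mk I (Polynomial.eval₂ _ (f (X i)) (P i)) = 0
    rw [Polynomial.hom_eval₂, hcomp]
    exact hP0 i
  set z : Fin (m + n) → A := fun l =>
    if hl : (l : ℕ) < n then u ⟨l, hl⟩ else t ⟨(l : ℕ) - n, by omega⟩ with hz
  refine ⟨n, aeval z, ?_, ?_, ?_⟩
  · -- integrality
    set ρ : MvPolynomial (Fin m) k →ₐ[k] MvPolynomial (Fin (m + n)) k :=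
      rename (fun j : Fin m => (⟨n + j, by omega⟩ : Fin (m + n))) with hρ
    have hπρ : (aeval z : MvPolynomial (Fin (m + n)) k →ₐ[k] A).toRingHom.comp ρ.toRingHom =
        (aeval t : MvPolynomial (Fin m) k →ₐ[k] A).toRingHom := by
      have : (aeval z : MvPolynomial (Fin (m + n)) k →ₐ[k] A).comp ρ = aeval t := by
        apply MvPolynomial.algHom_ext
        intro j
        rw [AlgHom.comp_apply, hρ, rename_X, aeval_X, aeval_X, hz]
        have hlt : ¬ (n + (j : ℕ) < n) := by omega
        simp only [hlt, dif_neg, not_false_eq_true]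
        congr 1
        exact Fin.ext (by simp)
      refine RingHom.ext (fun x => ?_)
      exact DFunLike.congr_fun this x
    have hgen : ∀ i : Fin n,
        (aeval z : MvPolynomial (Fin (m + n)) k →ₐ[k] A).toRingHom.IsIntegralElem (f (X i)) := by
      intro i
      refine ⟨(P i).map ρ.toRingHom - Polynomial.C (X ⟨i, by omega⟩), ?_, ?_⟩
      · apply Polynomial.Monic.sub_of_left ((hPm i).map _)
        rw [Polynomial.degree_eq_natDegree ((hPm i).map _).ne_zero,
          (hPm i).natDegree_map]
        refine lt_of_le_of_lt Polynomial.degree_C_le ?_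
        exact_mod_cast (hPd i)
      · rw [Polynomial.eval₂_sub, Polynomial.eval₂_map, Polynomial.eval₂_C, hπρ]
        change u i - aeval z (X ⟨i, by omega⟩) = 0
        rw [aeval_X, hz]
        have hlt : ((⟨i, by omega⟩ : Fin (m + n)) : ℕ) < n := i.2
        simp only [hlt, dif_pos]
        exact sub_self _
    intro a
    obtain ⟨p, rfl⟩ := fsurj a
    induction p using MvPolynomial.induction_on with
    | C c =>
      have : f (C c) = (aeval z : MvPolynomial (Fin (m + n)) k →ₐ[k] A).toRingHom (C c) := by
        change f (C c) = aeval z (C c)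
        rw [← MvPolynomial.algebraMap_eq, AlgHom.commutes]
        exact (AlgHom.commutes (aeval z) c).symm
      rw [this]
      exact RingHom.isIntegralElem_map _
    | add p q hp hq =>
      rw [map_add]; exact RingHom.IsIntegralElem.add _ hp hq
    | mul_X p i hp =>
      rw [map_mul]; exact RingHom.IsIntegralElem.mul _ hp (hgen i)
  · intro i hi
    rw [aeval_X, hz]
    simp only [hi, dif_pos]
    exact huI _
  · intro j
    rw [aeval_X, hz]
    have hlt : ¬ (n + (j : ℕ) < n) := by omega
    simp only [hlt, dif_neg, not_false_eq_true]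
    have e : (⟨n + (j : ℕ) - n, by omega⟩ : Fin m) = j := Fin.ext (by simp)
    rw [e, sub_self]
    exact I.zero_mem

/-- dimension count for an integral injective map from a polynomial ring -/
lemma dim_eq_of_integral_injective {s : ℕ} (g : MvPolynomial (Fin s) k →ₐ[k] A)
    (hint : g.toRingHom.IsIntegral) (hinj : Function.Injective g) :
    ringKrullDim A = (s : WithBot ℕ∞) := by
  letI := g.toRingHom.toAlgebra
  haveI : Algebra.IsIntegral (MvPolynomial (Fin s) k) A := ⟨hint⟩
  rw [Groth.Agent.Lib.Helper11.IntegralDim.ringKrullDim_eq_of_isIntegral_of_injective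
    (R := MvPolynomial (Fin s) k) (S := A) hinj,
    MvPolynomial.ringKrullDim_of_isNoetherianRing, ringKrullDim_eq_zero_of_field]
  simp

/-- Part 1: Noether normalization adapted to a chain of primes (integral version). -/
theorem part1 (k : Type*) [Field k] : ∀ (r : ℕ) (A : Type*) [CommRing A] [IsDomain A] [Algebra k A]
    [Algebra.FiniteType k A] (d : ℕ) (_ : ringKrullDim A = (d : WithBot ℕ∞))
    (q : Fin r → PrimeSpectrum A) (_ : StrictMono q) (h : Fin r → ℕ) (_ : ∀ i, h i ≤ d)
    (_ : ∀ i, ringKrullDim (A ⧸ (q i).asIdeal) = ((d - h i : ℕ) : WithBot ℕ∞)),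
    ∃ φ : MvPolynomial (Fin d) k →ₐ[k] A, φ.toRingHom.IsIntegral ∧ Function.Injective φ ∧
      ∀ i, (q i).asIdeal.comap φ = Ideal.span (X '' {l : Fin d | (l : ℕ) < h i}) := by
  intro r
  induction r with
  | zero =>
    intro A _ _ _ _ d hd q hq h hh hdim
    obtain ⟨s, g, hinj, hint⟩ := exists_integral_inj_algHom_of_fg k A
    have hds := dim_eq_of_integral_injective g hint hinj
    rw [hd] at hds
    have hds' : d = s := by exact_mod_cast hds
    subst hds'
    exact ⟨g, hint, hinj, fun i => i.elim0⟩
  | succ r ih =>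
    intro A _ _ _ _ d hd q hq h hh hdim
    set I : Ideal A := (q 0).asIdeal with hI
    haveI : I.IsPrime := (q 0).isPrime
    have hIle : ∀ j : Fin r, I ≤ (q j.succ).asIdeal := fun j => hq.monotone (Fin.zero_le _)
    have hh0 : ∀ j : Fin r, h 0 ≤ h j.succ := by
      intro j
      have hsurj := Ideal.Quotient.factor_surjective (hIle j)
      have h1 := ringKrullDim_le_of_surjective (Ideal.Quotient.factor (hIle j)) hsurj
      rw [hdim, hdim] at h1
      have h2 : d - h j.succ ≤ d - h 0 := by exact_mod_cast h1
      have := hh j.succ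
      have := hh 0
      omega
    obtain ⟨m, hm⟩ : ∃ m, m = d - h 0 := ⟨_, rfl⟩
    set q' : Fin r → PrimeSpectrum (A ⧸ I) := fun j =>
      ⟨(q j.succ).asIdeal.map (Ideal.Quotient.mk I),
        Ideal.map_isPrime_of_surjective Ideal.Quotient.mk_surjective
          (by rw [Ideal.mk_ker]; exact hIle j)⟩ with hq'def
    have hq' : StrictMono q' := by
      intro a b hab
      have hlt : q a.succ < q b.succ := hq (Fin.succ_lt_succ_iff.mpr hab)
      rw [lt_iff_le_not_ge] at hlt ⊢
      constructor
      · exact Ideal.map_mono hlt.1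
      · intro hle
        apply hlt.2
        intro x hx
        have h1 : Ideal.Quotient.mk I x ∈ (q b.succ).asIdeal.map (Ideal.Quotient.mk I) :=
          Ideal.mem_map_of_mem _ hx
        have h2 := hle h1
        exact (Ideal.mem_quotient_iff_mem (hIle a)).mp h2
    set h' : Fin r → ℕ := fun j => h j.succ - h 0 with hh'def
    have hh' : ∀ j, h' j ≤ m := by
      intro j
      have := hh j.succ
      have := hh0 j
      simp only [hh'def]
      omega
    have hdim' : ∀ j, ringKrullDim ((A ⧸ I) ⧸ (q' j).asIdeal) =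
        ((m - h' j : ℕ) : WithBot ℕ∞) := by
      intro j
      rw [ringKrullDim_eq_of_ringEquiv (DoubleQuot.quotQuotEquivQuotOfLE (hIle j)), hdim]
      have := hh j.succ
      have := hh0 j
      have := hh 0
      have e : d - h j.succ = m - h' j := by
        simp only [hh'def]; omega
      rw [e]
    have hdB : ringKrullDim (A ⧸ I) = (m : WithBot ℕ∞) := by
      rw [hm]; exact hdim 0
    obtain ⟨φ', hφ'int, hφ'inj, hφ'c⟩ := ih (A ⧸ I) m hdB q' hq' h' hh' hdim'
    have hsurj : ∀ j : Fin m, ∃ a : A, Ideal.Quotient.mk I a = φ' (X j) :=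
      fun j => Ideal.Quotient.mk_surjective _
    choose t ht using hsurj
    have htalg : AlgebraicIndependent k (fun j => Ideal.Quotient.mk I (t j)) := by
      have e : (aeval (fun j => Ideal.Quotient.mk I (t j)) :
          MvPolynomial (Fin m) k →ₐ[k] A ⧸ I) = φ' := by
        apply MvPolynomial.algHom_ext
        intro j
        rw [aeval_X, ht]
      rw [algebraicIndependent_iff_injective_aeval, e]
      exact hφ'inj
    obtain ⟨n, π, hπ, hU, hT⟩ := init I m φ' hφ'int t ht
    obtain ⟨n', π', hπ', hinj', hU', hT'⟩ := lfin I m t htalg n π hπ hU hT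
    have hdA := dim_eq_of_integral_injective π' hπ' hinj'
    rw [hd] at hdA
    have hdeq : d = m + n' := by exact_mod_cast hdA
    have hn' : n' = h 0 := by
      have := hh 0
      omega
    subst hdeq
    refine ⟨π', hπ', hinj', ?_⟩
    have hf : Function.Injective (fun j : Fin m => (⟨n' + j, by omega⟩ : Fin (m + n'))) := by
      intro a b hab
      have := congrArg Fin.val hab
      simp only at this
      exact Fin.ext (by omega)
    set f : Fin m → Fin (m + n') := fun j => ⟨n' + j, by omega⟩ with hfdef
    have hκ : (Ideal.Quotient.mkₐ k I).comp π' = φ'.comp (killCompl hf) := by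
      apply MvPolynomial.algHom_ext
      intro l
      rw [AlgHom.comp_apply, AlgHom.comp_apply, Ideal.Quotient.mkₐ_eq_mk]
      by_cases hl : (l : ℕ) < n'
      · have hnot : l ∉ Set.range f := by
          rintro ⟨j, rfl⟩
          simp only [hfdef] at hl
          omega
        rw [KillCompl.killCompl_X_of_notMem hf hnot, map_zero, Ideal.Quotient.eq_zero_iff_mem]
        exact hU' l hl
      · obtain ⟨j, rfl⟩ : ∃ j, f j = l :=
          ⟨⟨l - n', by omega⟩, Fin.ext (by simp only [hfdef]; omega)⟩
        rw [KillCompl.killCompl_X_of_mem hf, ← ht, Ideal.Quotient.eq]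
        exact hT' j
    have hcm : ∀ J' : Ideal (A ⧸ I), Ideal.comap π' (Ideal.comap (Ideal.Quotient.mk I) J') =
        Ideal.comap (killCompl hf : MvPolynomial (Fin (m + n')) k →ₐ[k] MvPolynomial (Fin m) k)
          (Ideal.comap φ' J') := by
      intro J'
      ext x
      simp only [Ideal.mem_comap]
      have h1 := DFunLike.congr_fun hκ x
      simp only [AlgHom.comp_apply, Ideal.Quotient.mkₐ_eq_mk] at h1
      rw [h1]
    have hrange : (Set.range f)ᶜ = {l : Fin (m + n') | (l : ℕ) < n'} := by
      ext l
      simp only [Set.mem_compl_iff, Set.mem_range, Set.mem_ofPred_eq]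
      constructor
      · intro hl
        by_contra hcon
        exact hl ⟨⟨l - n', by omega⟩, Fin.ext (by simp only [hfdef]; omega)⟩
      · rintro hl ⟨j, rfl⟩
        simp only [hfdef] at hl
        omega
    intro i
    induction i using Fin.cases with
    | zero =>
      have e0 : (q 0).asIdeal = Ideal.comap (Ideal.Quotient.mk I) ⊥ := by
        rw [← RingHom.ker_eq_comap_bot, Ideal.mk_ker]
      rw [e0, hcm]
      have e1 : Ideal.comap φ' (⊥ : Ideal (A ⧸ I)) = ⊥ := by
        rw [← RingHom.ker_eq_comap_bot]
        exact (RingHom.injective_iff_ker_eq_bot _).mp hφ'inj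
      rw [e1, ← RingHom.ker_eq_comap_bot, KillCompl.ker_killCompl hf, hrange, hn']
    | succ j =>
      have e0 : (q j.succ).asIdeal = Ideal.comap (Ideal.Quotient.mk I) (q' j).asIdeal := by
        ext x
        rw [Ideal.mem_comap]
        exact (Ideal.mem_quotient_iff_mem (hIle j)).symm
      rw [e0, hcm, hφ'c j, KillCompl.comap_killCompl hf, Ideal.map_span, ← Ideal.span_union]
      congr 1
      have e2 : (rename f : MvPolynomial (Fin m) k →ₐ[k] MvPolynomial (Fin (m + n')) k) ''
          (X '' {l : Fin m | (l : ℕ) < h' j}) = X '' (f '' {l : Fin m | (l : ℕ) < h' j}) := by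
        rw [Set.image_image, Set.image_image]
        apply Set.image_congr
        intro a _
        exact rename_X f a
      rw [e2, ← Set.image_union, hrange]
      congr 1
      ext l
      have := hh0 j
      simp only [Set.mem_union, Set.mem_image, Set.mem_ofPred_eq, hh'def]
      constructor
      · rintro (⟨a, ha, rfl⟩ | hl)
        · simp only [hfdef]; omega
        · omega
      · intro hl
        by_cases hl' : (l : ℕ) < n'
        · exact Or.inr hl'
        · refine Or.inl ⟨⟨l - n', by omega⟩, ?_, Fin.ext (by simp only [hfdef]; omega)⟩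
          simp only
          omega

end Groth.Agent.Lib.Helper95.NNChain
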