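import Groth.Agent.Lib.Helper95.KillCompl

/-!
# Extending a chain of primes along a Noether normalization (going-up / going-down)
-/

namespace Groth.Agent.Lib.Helper95.NNChain2

open MvPolynomial

section general

variable {R A : Type*} [CommRing R] [CommRing A] [Algebra R A] [Algebra.IsIntegral R A]

/-- incomparability -/
lemma inc (Q1 Q2 : Ideal A) [Q1.IsPrime] (hle : Q1 ≤ Q2)
    (hc : Q1.comap (algebraMap R A) = Q2.comap (algebraMap R A)) : Q1 = Q2 := by
  by_contra hne
  obtain ⟨x, hx2, hx1⟩ := SetLike.exists_of_lt (lt_of_le_of_ne hle hne)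
  have := Ideal.comap_lt_comap_of_integral_mem_sdiff (R := R) hle ⟨hx2, hx1⟩
    (Algebra.IsIntegral.isIntegral x)
  rw [hc] at this
  exact lt_irrefl _ this

/-- relative going-down: insert a prime between `Q ≤ Q'` over a prescribed intermediate prime,
provided the quotient of the base by `Q ∩ R` is integrally closed. -/
theorem between (p p₁ p' : Ideal R) [p.IsPrime] [p₁.IsPrime] [p'.IsPrime]
    [IsIntegrallyClosed (R ⧸ p)] (hpp₁ : p ≤ p₁) (hne : p ≠ p₁) (hp₁p' : p₁ ≤ p')
    (Q Q' : Ideal A) [Q.IsPrime] [Q'.IsPrime] (hQ : Q.comap (algebraMap R A) = p)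
    (hQ' : Q'.comap (algebraMap R A) = p') (hQQ' : Q ≤ Q') :
    ∃ Q'' : Ideal A, Q''.IsPrime ∧ Q < Q'' ∧ Q'' ≤ Q' ∧ Q''.comap (algebraMap R A) = p₁ := by
  have : Q.LiesOver p := ⟨hQ.symm⟩
  have hpp' : p ≤ p' := hpp₁.trans hp₁p'
  have hpb1 : (p₁.map (Ideal.Quotient.mk p)).IsPrime :=
    Ideal.map_isPrime_of_surjective Ideal.Quotient.mk_surjective (by rw [Ideal.mk_ker]; exact hpp₁)
  have hpbp : (p'.map (Ideal.Quotient.mk p)).IsPrime :=
    Ideal.map_isPrime_of_surjective Ideal.Quotient.mk_surjective (by rw [Ideal.mk_ker]; exact hpp')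
  have hQbp : (Q'.map (Ideal.Quotient.mk Q)).IsPrime :=
    Ideal.map_isPrime_of_surjective Ideal.Quotient.mk_surjective (by rw [Ideal.mk_ker]; exact hQQ')
  have : (Q'.map (Ideal.Quotient.mk Q)).LiesOver (p'.map (Ideal.Quotient.mk p)) := by
    constructor
    ext x
    obtain ⟨x, rfl⟩ := Ideal.Quotient.mk_surjective x
    rw [Ideal.under, Ideal.mem_comap, Ideal.Quotient.algebraMap_mk_of_liesOver,
      Ideal.mem_quotient_iff_mem hpp', Ideal.mem_quotient_iff_mem hQQ', ← hQ', Ideal.mem_comap]
  obtain ⟨Pb, hPble, hPbp, hPbo⟩ := Ideal.exists_ideal_le_liesOver_of_le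
    (p := p₁.map (Ideal.Quotient.mk p)) (q := p'.map (Ideal.Quotient.mk p))
    (Q'.map (Ideal.Quotient.mk Q)) (Ideal.map_mono hp₁p')
  have hcm : (Pb.comap (Ideal.Quotient.mk Q)).comap (algebraMap R A) = p₁ := by
    ext x
    rw [Ideal.mem_comap, Ideal.mem_comap, ← Ideal.Quotient.algebraMap_mk_of_liesOver Q p,
      ← Ideal.mem_comap]
    have := hPbo.over
    rw [Ideal.under] at this
    rw [← this, Ideal.mem_quotient_iff_mem hpp₁]
  have hle : Q ≤ Pb.comap (Ideal.Quotient.mk Q) := by
    intro x hx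
    rw [Ideal.mem_comap, Ideal.Quotient.eq_zero_iff_mem.mpr hx]
    exact Pb.zero_mem
  refine ⟨Pb.comap (Ideal.Quotient.mk Q), Ideal.comap_isPrime _ _, lt_of_le_of_ne hle ?_, ?_, hcm⟩
  · intro e
    apply hne
    rw [← hQ, ← hcm, ← e]
  · intro x hx
    rw [Ideal.mem_comap] at hx
    exact (Ideal.mem_quotient_iff_mem hQQ').mp (hPble hx)

end general

section chain

variable {k : Type*} [Field k] {A : Type*} [CommRing A] [IsDomain A] [Algebra k A]

/-- the ideal of the first `j` variables -/
noncomputable def Pv (k : Type*) [Field k] (d j : ℕ) : Ideal (MvPolynomial (Fin d) k) :=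
  Ideal.span (X '' {l : Fin d | (l : ℕ) < j})

instance Pv_isPrime (d j : ℕ) : (Pv k d j).IsPrime := KillCompl.span_X_image_isPrime _

instance Pv_quot_isIntegrallyClosed (d j : ℕ) :
    IsIntegrallyClosed (MvPolynomial (Fin d) k ⧸ Pv k d j) :=
  KillCompl.quot_isIntegrallyClosed _ k

lemma Pv_mono (d : ℕ) {j j' : ℕ} (hjj' : j ≤ j') : Pv k d j ≤ Pv k d j' := by
  apply Ideal.span_mono
  apply Set.image_mono
  intro l hl
  simp only [Set.mem_ofPred_eq] at hl ⊢
  omega

lemma Pv_ne (d : ℕ) {n : ℕ} (hn : n < d) : Pv k d n ≠ Pv k d (n + 1) := by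
  intro e
  have h1 : (X ⟨n, hn⟩ : MvPolynomial (Fin d) k) ∈ Pv k d (n + 1) :=
    Ideal.subset_span ⟨⟨n, hn⟩, by simp, rfl⟩
  rw [← e, Pv, mem_ideal_span_X_image] at h1
  obtain ⟨i, hi, hne⟩ := h1 (Finsupp.single ⟨n, hn⟩ 1) (by
    rw [MvPolynomial.mem_support_iff, MvPolynomial.coeff_X, if_pos rfl]; exact one_ne_zero (α := k))
  simp only [Set.mem_ofPred_eq] at hi
  rw [Finsupp.single_apply] at hne
  split_ifs at hne with h2
  · rw [← h2] at hi; simp at hi
  · exact hne rfl

lemma Pv_zero (d : ℕ) : Pv k d 0 = ⊥ := by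
  rw [Pv]
  have : {l : Fin d | (l : ℕ) < 0} = ∅ := by ext l; simp
  rw [this, Set.image_empty, Ideal.span_empty]

/-- Part 2: the chain extends. -/
theorem part2 (d : ℕ) (r : ℕ) (q : Fin r → PrimeSpectrum A) (hq : StrictMono q) (h : Fin r → ℕ)
    (hh : ∀ i, h i ≤ d) (φ : MvPolynomial (Fin d) k →ₐ[k] A) (hφ : φ.toRingHom.IsIntegral)
    (hinj : Function.Injective φ)
    (hc : ∀ i, (q i).asIdeal.comap φ = Ideal.span (X '' {l : Fin d | (l : ℕ) < h i})) :
    ∃ Q : ℕ → PrimeSpectrum A,
      (∀ j, j ≤ d → (Q j).asIdeal.comap φ = Ideal.span (X '' {l : Fin d | (l : ℕ) < j})) ∧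
      (∀ j, j < d → Q j < Q (j + 1)) ∧ (∀ i, Q (h i) = q i) := by
  let _ := φ.toRingHom.toAlgebra
  have : Algebra.IsIntegral (MvPolynomial (Fin d) k) A := ⟨hφ⟩
  have hc' : ∀ i, (q i).asIdeal.comap (algebraMap (MvPolynomial (Fin d) k) A) = Pv k d (h i) := hc
  have hinj' : Function.Injective (algebraMap (MvPolynomial (Fin d) k) A) := hinj
  have key : ∀ n, n ≤ d → ∃ Q : ℕ → PrimeSpectrum A,
      (∀ j, j ≤ n → (Q j).asIdeal.comap (algebraMap (MvPolynomial (Fin d) k) A) = Pv k d j) ∧
      (∀ j, j < n → Q j < Q (j + 1)) ∧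
      (∀ i, h i ≤ n → Q (h i) = q i) ∧
      (∀ i, n ≤ h i → Q n ≤ q i) := by
    intro n
    induction n with
    | zero =>
      intro _
      refine ⟨fun _ => ⟨⊥, Ideal.isPrime_bot⟩, ?_, ?_, ?_, ?_⟩
      · intro j hj
        obtain rfl : j = 0 := by omega
        rw [Pv_zero]
        change Ideal.comap (algebraMap (MvPolynomial (Fin d) k) A) ⊥ = ⊥
        rw [← RingHom.ker_eq_comap_bot]
        exact (RingHom.injective_iff_ker_eq_bot _).mp hinj'
      · intro j hj; omega
      · intro i hi
        have h0 : h i = 0 := by omega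
        have h1 := hc' i
        rw [h0, Pv_zero] at h1
        have h2 := Ideal.eq_bot_of_comap_eq_bot h1
        apply PrimeSpectrum.ext
        exact h2.symm
      · intro i _
        exact bot_le (a := (q i).asIdeal)
    | succ n ih =>
      intro hn
      obtain ⟨Q, ha, hb, hcc, hdd⟩ := ih (by omega)
      have hex : ∃ Q'' : PrimeSpectrum A, Q n < Q'' ∧
          Q''.asIdeal.comap (algebraMap (MvPolynomial (Fin d) k) A) = Pv k d (n + 1) ∧
          ∀ i, n + 1 ≤ h i → Q'' ≤ q i := by
        by_cases hT : ∃ i, n + 1 ≤ h i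
        · obtain ⟨i₀, hi₀, hmin⟩ : ∃ i₀, n + 1 ≤ h i₀ ∧ ∀ i, n + 1 ≤ h i → i₀ ≤ i := by
            classical
            have hTne : (Finset.univ.filter (fun i : Fin r => n + 1 ≤ h i)).Nonempty := by
              obtain ⟨i, hi⟩ := hT
              exact ⟨i, by simp only [Finset.mem_filter, Finset.mem_univ, true_and]; exact hi⟩
            refine ⟨(Finset.univ.filter (fun i : Fin r => n + 1 ≤ h i)).min' hTne, ?_, ?_⟩
            · have := Finset.min'_mem _ hTne
              simp only [Finset.mem_filter, Finset.mem_univ, true_and] at this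
              exact this
            · intro i hi
              exact Finset.min'_le _ i (by simp only [Finset.mem_filter, Finset.mem_univ, true_and]; exact hi)
          obtain ⟨Q'', hQ''p, hlt, hle, hcm⟩ := between (Pv k d n) (Pv k d (n + 1)) (Pv k d (h i₀))
            (Pv_mono d (by omega)) (Pv_ne d (by omega)) (Pv_mono d hi₀)
            (Q n).asIdeal (q i₀).asIdeal (ha n le_rfl) (hc' i₀) (hdd i₀ (by omega))
          refine ⟨⟨Q'', hQ''p⟩, hlt, hcm, ?_⟩
          intro i hi
          exact le_trans (show (⟨Q'', hQ''p⟩ : PrimeSpectrum A) ≤ q i₀ from hle)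
            (hq.monotone (hmin i hi))
        · push Not at hT
          obtain ⟨Q'', hge, hQ''p, hcm⟩ := Ideal.exists_ideal_over_prime_of_isIntegral_of_isPrime
            (Pv k d (n + 1)) (Q n).asIdeal (by rw [ha n le_rfl]; exact Pv_mono d (by omega))
          refine ⟨⟨Q'', hQ''p⟩, ?_, hcm, ?_⟩
          · refine lt_of_le_of_ne (show Q n ≤ (⟨Q'', hQ''p⟩ : PrimeSpectrum A) from hge) ?_
            intro e
            apply Pv_ne (k := k) d (show n < d by omega)
            rw [← ha n le_rfl, ← hcm, e]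
          · intro i hi
            have := hT i
            omega
      obtain ⟨Q'', hlt, hcm, hle⟩ := hex
      refine ⟨Function.update Q (n + 1) Q'', ?_, ?_, ?_, ?_⟩
      · intro j hj
        by_cases hjn : j = n + 1
        · subst hjn
          rw [Function.update_self]
          exact hcm
        · rw [Function.update_of_ne hjn]
          exact ha j (by omega)
      · intro j hj
        by_cases hjn : j = n
        · subst hjn
          rw [Function.update_self, Function.update_of_ne (by omega)]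
          exact hlt
        · rw [Function.update_of_ne (by omega), Function.update_of_ne (by omega)]
          exact hb j (by omega)
      · intro i hi
        by_cases hin : h i = n + 1
        · rw [hin, Function.update_self]
          have h1 : Q'' ≤ q i := hle i (by omega)
          have h2 : Q''.asIdeal = (q i).asIdeal := by
            apply inc (R := MvPolynomial (Fin d) k) _ _ h1
            rw [hcm, hc' i, hin]
          exact PrimeSpectrum.ext h2
        · rw [Function.update_of_ne hin]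
          exact hcc i (by omega)
      · intro i hi
        rw [Function.update_self]
        exact hle i hi
  obtain ⟨Q, ha, hb, hcc, -⟩ := key d le_rfl
  exact ⟨Q, ha, hb, fun i => hcc i (hh i)⟩

end chain

end Groth.Agent.Lib.Helper95.NNChain2
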