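import Groth.Agent.Lib.Helper95.NodeNormal

/-!
# Gluing two node charts along Laurent polynomials

For `p q : R` and `n : ℤ`, the pairs `(g, f) ∈ R[s,y]/(sy-q) × R[t,x]/(tx-p)` with
`g = s^n f` in `R[s,s⁻¹]` (where `t = s⁻¹`, `y = q s⁻¹`, `x = p s`) form, for `-1 ≤ n`, the image of
an explicit injective linear map `G` from `ℤ →₀ R`.
-/

namespace Groth.Agent.Lib.Helper95.NodeNormal

open LaurentPolynomial

variable {R : Type*} [CommRing R] (p q : R) (n : ℤ)

/-- parametrization of the glued sections -/
noncomputable def G : (ℤ →₀ R) →ₗ[R] (Nd R q × Nd R p) :=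
  Finsupp.linearCombination R
    (fun j : ℤ => ((p ^ (j - n).toNat) • E q j, (q ^ (-j).toNat) • E p (n - j)))

lemma G_single (j : ℤ) (r : R) :
    G p q n (Finsupp.single j r) =
      r • ((p ^ (j - n).toNat) • E q j, (q ^ (-j).toNat) • E p (n - j)) := by
  simp [G]

lemma coord_G_fst (l : ℤ →₀ R) (j : ℤ) :
    coord q (G p q n l).1 j = l j * p ^ (j - n).toNat := by
  induction l using Finsupp.induction_linear with
  | zero => simp
  | add f g hf hg => simp only [map_add, Prod.fst_add, Finsupp.add_apply, hf, hg, add_mul]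
  | single j' r =>
    rw [G_single, Prod.smul_fst, smul_smul, coord_smul_E, Finsupp.single_apply]
    by_cases h : j' = j
    · subst h; simp
    · simp [h]

lemma coord_G_snd (l : ℤ →₀ R) (k : ℤ) :
    coord p (G p q n l).2 k = l (n - k) * q ^ (k - n).toNat := by
  induction l using Finsupp.induction_linear with
  | zero => simp
  | add f g hf hg => simp only [map_add, Prod.snd_add, Finsupp.add_apply, hf, hg, add_mul]
  | single j' r =>
    rw [G_single, Prod.smul_snd, smul_smul, coord_smul_E, Finsupp.single_apply]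
    by_cases h : n - j' = k
    · have h' : j' = n - k := by omega
      subst h'
      simp
    · have h' : ¬ j' = n - k := by omega
      simp [h, h']

lemma G_injective (hn : -1 ≤ n) : Function.Injective (G p q n) := by
  rw [injective_iff_map_eq_zero]
  intro l hl
  ext j
  rw [Finsupp.zero_apply]
  by_cases hj : j ≤ n
  · have h1 := coord_G_fst p q n l j
    rw [hl] at h1
    have e : (j - n).toNat = 0 := by omega
    rw [e, pow_zero, mul_one] at h1
    rw [← h1]; simp
  · have h1 := coord_G_snd p q n l (n - j)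
    rw [hl] at h1
    have e : (n - j - n).toNat = 0 := by omega
    rw [e, pow_zero, mul_one, sub_sub_cancel] at h1
    rw [← h1]; simp

/-- image of a basis vector under a chart restriction map -/
lemma hom_E (c : R) (e : ℤ) (g : Nd R c →ₐ[R] R[T;T⁻¹]) (h1 : g (xN c) = T e)
    (h2 : g (yN c) = C c * T (-e)) (j : ℤ) :
    g (E c j) = C (c ^ (-j).toNat) * T (e * j) := by
  rw [E, map_mul, map_pow, map_pow, h1, h2, mul_pow, T_pow, T_pow, ← map_pow,
    mul_comm (T _), mul_assoc, ← T_add]
  congr 2
  have := Int.toNat_sub_toNat_neg j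
  linear_combination e * this

lemma gU_emb (gU : Nd R q →ₐ[R] R[T;T⁻¹]) (h1 : gU (xN q) = T 1)
    (h2 : gU (yN q) = C q * T (-1)) (l : ℤ →₀ R) (j : ℤ) :
    (gU (emb q l)).coeff j = l j * q ^ (-j).toNat := by
  induction l using Finsupp.induction_linear with
  | zero => simp
  | add f g hf hg =>
    simp only [map_add, AddMonoidAlgebra.coeff_add, Finsupp.add_apply, hf, hg, add_mul]
  | single j' r =>
    rw [emb_single, map_smul, hom_E q 1 gU h1 h2, one_mul, ← single_eq_C_mul_T,
      AddMonoidAlgebra.coeff_smul, AddMonoidAlgebra.coeff_single, Finsupp.smul_apply,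
      Finsupp.single_apply, Finsupp.single_apply, smul_eq_mul]
    by_cases h : j' = j
    · subst h; simp
    · simp [h]

lemma gU_coeff (gU : Nd R q →ₐ[R] R[T;T⁻¹]) (h1 : gU (xN q) = T 1)
    (h2 : gU (yN q) = C q * T (-1)) (z : Nd R q) (j : ℤ) :
    (gU z).coeff j = coord q z j * q ^ (-j).toNat := by
  have := gU_emb q gU h1 h2 (coord q z) j
  rwa [emb_coord] at this

lemma gV_emb (gV : Nd R p →ₐ[R] R[T;T⁻¹]) (h1 : gV (xN p) = T (-1))
    (h2 : gV (yN p) = C p * T 1) (l : ℤ →₀ R) (m : ℤ) :
    (gV (emb p l)).coeff m = l (-m) * p ^ m.toNat := by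
  induction l using Finsupp.induction_linear with
  | zero => simp
  | add f g hf hg =>
    simp only [map_add, AddMonoidAlgebra.coeff_add, Finsupp.add_apply, hf, hg, add_mul]
  | single j' r =>
    have h2' : gV (yN p) = C p * T (-(-1)) := by rw [neg_neg]; exact h2
    rw [emb_single, map_smul, hom_E p (-1) gV h1 h2', ← single_eq_C_mul_T,
      AddMonoidAlgebra.coeff_smul, AddMonoidAlgebra.coeff_single, Finsupp.smul_apply,
      Finsupp.single_apply, Finsupp.single_apply, smul_eq_mul]
    by_cases h : -1 * j' = m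
    · have h' : j' = -m := by omega
      subst h'; simp
    · have h' : ¬ j' = -m := by omega
      have h'' : ¬ -j' = m := by omega
      simp [h', h'']

lemma gV_coeff (gV : Nd R p →ₐ[R] R[T;T⁻¹]) (h1 : gV (xN p) = T (-1))
    (h2 : gV (yN p) = C p * T 1) (z : Nd R p) (m : ℤ) :
    (gV z).coeff m = coord p z (-m) * p ^ m.toNat := by
  have := gV_emb p gV h1 h2 (coord p z) m
  rwa [emb_coord] at this

/-- every `G l` is a glued pair -/
lemma G_glued (gU : Nd R q →ₐ[R] R[T;T⁻¹]) (hU1 : gU (xN q) = T 1)
    (hU2 : gU (yN q) = C q * T (-1))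
    (gV : Nd R p →ₐ[R] R[T;T⁻¹]) (hV1 : gV (xN p) = T (-1))
    (hV2 : gV (yN p) = C p * T 1) (l : ℤ →₀ R) :
    gU (G p q n l).1 = T n * gV (G p q n l).2 := by
  induction l using Finsupp.induction_linear with
  | zero => simp
  | add f g hf hg => simp only [map_add, Prod.fst_add, Prod.snd_add, hf, hg, mul_add]
  | single j r =>
    have hV2' : gV (yN p) = C p * T (-(-1)) := by rw [neg_neg]; exact hV2
    rw [G_single, Prod.smul_fst, Prod.smul_snd, map_smul, map_smul, map_smul, map_smul,
      hom_E q 1 gU hU1 hU2, hom_E p (-1) gV hV1 hV2', mul_smul_comm, mul_smul_comm]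
    have hT : (T (1 * j) : R[T;T⁻¹]) = T n * T (-1 * (n - j)) := by
      rw [← T_add]; congr 1; ring
    have ha' : (-(n - j)).toNat = (j - n).toNat := by rw [neg_sub]
    rw [hT, ha']
    simp only [Algebra.smul_def, ← C_eq_algebraMap]
    ring

/-- glued pairs are in the range of `G` (needs `-1 ≤ n`) -/
lemma exists_G_eq (hn : -1 ≤ n) (gU : Nd R q →ₐ[R] R[T;T⁻¹]) (hU1 : gU (xN q) = T 1)
    (hU2 : gU (yN q) = C q * T (-1))
    (gV : Nd R p →ₐ[R] R[T;T⁻¹]) (hV1 : gV (xN p) = T (-1))
    (hV2 : gV (yN p) = C p * T 1) (g : Nd R q) (f : Nd R p) (h : gU g = T n * gV f) :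
    ∃ l, G p q n l = (g, f) := by
  classical
  set a := coord q g with ha
  set b := coord p f with hb
  have key : ∀ j : ℤ, a j * q ^ (-j).toNat = b (n - j) * p ^ (j - n).toNat := by
    intro j
    have h1 : (gU g).coeff j = (T n * gV f).coeff j := by rw [h]
    rw [gU_coeff q gU hU1 hU2, T, AddMonoidAlgebra.coeff_single_mul_apply, one_mul,
      gV_coeff p gV hV1 hV2] at h1
    rw [← ha, ← hb] at h1
    rw [h1]
    congr 2 <;> ring_nf
  let l : ℤ →₀ R := Finsupp.onFinset (a.support ∪ b.support.image (fun k => n - k))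
    (fun j => if j ≤ n then a j else b (n - j)) (by
      intro j hj
      by_cases hjn : j ≤ n
      · rw [if_pos hjn] at hj
        exact Finset.mem_union_left _ (Finsupp.mem_support_iff.mpr hj)
      · rw [if_neg hjn] at hj
        refine Finset.mem_union_right _ (Finset.mem_image.mpr ⟨n - j, ?_, by ring⟩)
        exact Finsupp.mem_support_iff.mpr hj)
  have hl : ∀ j, l j = if j ≤ n then a j else b (n - j) := fun j => rfl
  refine ⟨l, Prod.ext ?_ ?_⟩
  · apply coord_injective
    ext j
    rw [coord_G_fst, hl]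
    by_cases hjn : j ≤ n
    · have e : (j - n).toNat = 0 := by omega
      rw [if_pos hjn, e, pow_zero, mul_one]
    · have e : (-j).toNat = 0 := by omega
      have := key j
      rw [e, pow_zero, mul_one] at this
      rw [if_neg hjn, ← this]
  · apply coord_injective
    ext k
    rw [coord_G_snd, hl]
    by_cases hk : n - k ≤ n
    · have := key (n - k)
      have e : (n - k - n).toNat = 0 := by omega
      rw [e, pow_zero, mul_one, sub_sub_cancel, neg_sub] at this
      rw [if_pos hk, this]
    · have e : (k - n).toNat = 0 := by omega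
      rw [if_neg hk, e, pow_zero, mul_one, sub_sub_cancel]

end Groth.Agent.Lib.Helper95.NodeNormal
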