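import Mathlib

/-!
# Normal form of `R[x,y]/(xy - c)`

`Nd R c = R[X₀,X₁]/(X₀X₁ - c)` is a free `R`-module on `E j` (`j : ℤ`), where `E j = x^j` for
`j ≥ 0` and `E j = y^(-j)` for `j < 0`.
-/

namespace Groth.Agent.Lib.Helper95.NodeNormal

open MvPolynomial

variable {R : Type*} [CommRing R]

/-- The ring `R[x,y]/(xy - c)`. -/
abbrev Nd (R : Type*) [CommRing R] (c : R) : Type _ :=
  MvPolynomial (Fin 2) R ⧸
    Ideal.span {(MvPolynomial.X 0 * MvPolynomial.X 1 - MvPolynomial.C c : MvPolynomial (Fin 2) R)}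

variable (c : R)

/-- class of first variable -/
noncomputable abbrev xN : Nd R c := Ideal.Quotient.mk _ (X 0)
/-- class of second variable -/
noncomputable abbrev yN : Nd R c := Ideal.Quotient.mk _ (X 1)

lemma xN_mul_yN : xN c * yN c = algebraMap R (Nd R c) c := by
  change Ideal.Quotient.mk _ (X 0) * Ideal.Quotient.mk _ (X 1) = Ideal.Quotient.mk _ (C c)
  rw [← map_mul, Ideal.Quotient.eq]
  exact Ideal.subset_span rfl

lemma smul_eq (r : R) (z : Nd R c) : r • z = algebraMap R (Nd R c) r * z := Algebra.smul_def r z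

/-- coordinates on the polynomial ring -/
noncomputable def coordP : MvPolynomial (Fin 2) R →ₗ[R] (ℤ →₀ R) :=
  (basisMonomials (Fin 2) R).constr R
    (fun m => Finsupp.single ((m 0 : ℤ) - (m 1 : ℤ)) (c ^ min (m 0) (m 1)))

lemma coordP_monomial (m : Fin 2 →₀ ℕ) (a : R) :
    coordP c (monomial m a) =
      Finsupp.single ((m 0 : ℤ) - (m 1 : ℤ)) (a * c ^ min (m 0) (m 1)) := by
  have h : monomial m a = a • (basisMonomials (Fin 2) R) m := by
    rw [coe_basisMonomials]; simp [smul_monomial]
  rw [h, map_smul, coordP, Module.Basis.constr_basis, Finsupp.smul_single, smul_eq_mul]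

lemma coordP_mul_rel (f : MvPolynomial (Fin 2) R) :
    coordP c (f * (X 0 * X 1 - C c)) = 0 := by
  induction f using MvPolynomial.induction_on' with
  | monomial m a =>
    have h : monomial m a * (X 0 * X 1 - C c) =
        monomial (m + Finsupp.single 0 1 + Finsupp.single 1 1) a - monomial m (a * c) := by
      rw [mul_sub, ← mul_assoc, X, X, monomial_mul, monomial_mul, C_apply, monomial_mul]
      simp
    rw [h, map_sub, coordP_monomial, coordP_monomial]
    have e0 : (m + Finsupp.single 0 1 + Finsupp.single 1 1 : Fin 2 →₀ ℕ) 0 = m 0 + 1 := by simp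
    have e1 : (m + Finsupp.single 0 1 + Finsupp.single 1 1 : Fin 2 →₀ ℕ) 1 = m 1 + 1 := by simp
    rw [e0, e1, Nat.add_min_add_right, pow_succ]
    push_cast
    rw [add_sub_add_right_eq_sub, sub_eq_zero]
    congr 1
    ring
  | add p q hp hq => rw [add_mul, map_add, hp, hq, add_zero]

/-- coordinates on `Nd R c` -/
noncomputable def coord : Nd R c →ₗ[R] (ℤ →₀ R) :=
  (Submodule.liftQ ((Ideal.span {(X 0 * X 1 - C c : MvPolynomial (Fin 2) R)}).restrictScalars R)
    (coordP c) (by
      intro z hz
      rw [Submodule.restrictScalars_mem] at hz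
      obtain ⟨a, rfl⟩ := Ideal.mem_span_singleton'.mp hz
      exact coordP_mul_rel c a)) ∘ₗ
  (Submodule.Quotient.restrictScalarsEquiv R
    (Ideal.span {(X 0 * X 1 - C c : MvPolynomial (Fin 2) R)})).symm.toLinearMap

lemma coord_mk (f : MvPolynomial (Fin 2) R) :
    coord c (Ideal.Quotient.mk _ f) = coordP c f := by
  change coord c (Submodule.Quotient.mk f) = _
  rw [coord, LinearMap.comp_apply, LinearEquiv.coe_coe,
    Submodule.Quotient.restrictScalarsEquiv_symm_mk, Submodule.liftQ_apply]

/-- the basis vectors -/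
noncomputable def E (j : ℤ) : Nd R c := xN c ^ j.toNat * yN c ^ (-j).toNat

lemma E_natCast (d : ℕ) : E c (d : ℤ) = xN c ^ d := by
  simp [E]

lemma E_neg_natCast (d : ℕ) : E c (-(d : ℤ)) = yN c ^ d := by
  simp [E]

lemma E_zero : E c 0 = 1 := by simp [E]

lemma coord_E (j : ℤ) : coord c (E c j) = Finsupp.single j 1 := by
  have h : E c j = Ideal.Quotient.mk _
      (monomial (Finsupp.single 0 j.toNat + Finsupp.single 1 (-j).toNat) (1 : R)) := by
    rw [E, xN, yN, ← map_pow, ← map_pow, ← map_mul, X_pow_eq_monomial, X_pow_eq_monomial,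
      monomial_mul, one_mul]
  rw [h, coord_mk, coordP_monomial]
  have e0 : (Finsupp.single (0 : Fin 2) j.toNat + Finsupp.single 1 (-j).toNat : Fin 2 →₀ ℕ) 0 = j.toNat := by
    simp
  have e1 : (Finsupp.single (0 : Fin 2) j.toNat + Finsupp.single 1 (-j).toNat : Fin 2 →₀ ℕ) 1 = (-j).toNat := by
    simp
  rw [e0, e1, Int.toNat_sub_toNat_neg]
  have : min j.toNat (-j).toNat = 0 := by omega
  rw [this, pow_zero, mul_one]

/-- the inverse of `coord` -/
noncomputable def emb : (ℤ →₀ R) →ₗ[R] Nd R c := Finsupp.linearCombination R (E c)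

lemma emb_single (j : ℤ) (r : R) : emb c (Finsupp.single j r) = r • E c j := by
  simp [emb]

lemma x_pow_mul_y_pow (a b : ℕ) :
    xN c ^ a * yN c ^ b = (c ^ min a b) • E c ((a : ℤ) - (b : ℤ)) := by
  rcases le_total a b with h | h
  · obtain ⟨d, rfl⟩ := Nat.exists_eq_add_of_le h
    have e : ((a : ℤ) - ((a + d : ℕ) : ℤ)) = -(d : ℤ) := by push_cast; ring
    rw [e, E_neg_natCast, min_eq_left h, pow_add, ← mul_assoc, ← mul_pow, xN_mul_yN,
      smul_eq, map_pow]
  · obtain ⟨d, rfl⟩ := Nat.exists_eq_add_of_le h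
    have e : (((b + d : ℕ) : ℤ) - (b : ℤ)) = (d : ℤ) := by push_cast; ring
    rw [e, E_natCast, min_eq_right h, pow_add, mul_comm (xN c ^ b), mul_assoc, ← mul_pow,
      xN_mul_yN, smul_eq, map_pow, mul_comm]

lemma emb_coord (z : Nd R c) : emb c (coord c z) = z := by
  obtain ⟨f, rfl⟩ := Ideal.Quotient.mk_surjective z
  induction f using MvPolynomial.induction_on' with
  | monomial m a =>
    rw [coord_mk, coordP_monomial, emb_single, mul_smul, ← x_pow_mul_y_pow]
    have h : monomial m a = C a * (X 0 ^ m 0 * X 1 ^ m 1) := by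
      rw [monomial_eq, Finsupp.prod_fintype _ _ (fun i => pow_zero _), Fin.prod_univ_two]
    rw [h, map_mul, map_mul, map_pow, map_pow, smul_eq]
    rfl
  | add p q hp hq => rw [map_add, map_add, map_add, hp, hq]

lemma coord_emb (l : ℤ →₀ R) : coord c (emb c l) = l := by
  induction l using Finsupp.induction_linear with
  | zero => simp
  | add f g hf hg => rw [map_add, map_add, hf, hg]
  | single j r => rw [emb_single, map_smul, coord_E, Finsupp.smul_single, smul_eq_mul, mul_one]

/-- `Nd R c` is free on `E j`. -/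
noncomputable def equiv : Nd R c ≃ₗ[R] (ℤ →₀ R) :=
  LinearEquiv.ofLinearMap (coord c) (emb c)
    (LinearMap.ext fun l => coord_emb c l) (LinearMap.ext fun z => emb_coord c z)

lemma coord_injective : Function.Injective (coord c) := (equiv c).injective

lemma coord_smul_E (r : R) (j k : ℤ) :
    coord c (r • E c j) k = if j = k then r else 0 := by
  rw [map_smul, coord_E, Finsupp.smul_single, smul_eq_mul, mul_one, Finsupp.single_apply]

end Groth.Agent.Lib.Helper95.NodeNormal
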