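import Mathlib
import Groth.Prelude.Def_FlatCA
import Groth.Agent.Lib.Helper95.PureClosedImm
import Groth.Agent.Lib.Helper95.PurePullback

/-!
Helper library for S1226: purity along a fibre is preserved by finite type base changes which are
quasi-finite at the point.
-/

set_option autoImplicit false
set_option linter.style.haveILetI false
universe u

namespace Groth.Agent.Lib.Helper95.PureQF

open TensorProduct

section AD

variable {R R' : Type*} [CommRing R] [CommRing R'] [Algebra R R'] [Module.Free R R']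
  [IsNoetherianRing R]
  {M M' : Type*} [AddCommGroup M] [Module R M] [AddCommGroup M'] [Module R M'] [Module R' M']
  [IsScalarTower R R' M'] (φ : M →ₗ[R] M') (hφ : IsBaseChange R' φ)

include hφ in
/-- Associated primes descend along a free base change. -/
theorem isAssociatedPrime_comap_of_free (Q : Ideal R') (hQ : IsAssociatedPrime Q M') :
    IsAssociatedPrime (Q.comap (algebraMap R R')) M := by
  classical
  have h1 : IsAssociatedPrime (Q.comap (algebraMap R R')) M' :=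
    PureClosedImm.isAssociatedPrime_comap_of (algebraMap R R') (AddEquiv.refl M')
      (fun r m => (algebraMap_smul R' r m).symm) Q hQ
  let b := Module.Free.chooseBasis R R'
  let e : M' ≃ₗ[R] (Module.Free.ChooseBasisIndex R R' →₀ M) :=
    (hφ.equiv.symm.restrictScalars R) ≪≫ₗ TensorProduct.equivFinsuppOfBasisLeft b
  have h2 := (LinearEquiv.isAssociatedPrime_iff e).mp h1
  obtain ⟨hqp, y, hy⟩ := isAssociatedPrime_iff.mp h2
  have hmem : ∀ r : R, r ∈ Q.comap (algebraMap R R') ↔ ∀ i ∈ y.support, r • y i = 0 := by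
    intro r
    rw [hy, Submodule.mem_colon_singleton, Submodule.mem_bot]
    constructor
    · intro h i _
      have := DFunLike.congr_fun h i
      simpa using this
    · intro h
      ext i
      by_cases hi : i ∈ y.support
      · simpa using h i hi
      · simp [Finsupp.notMem_support_iff.mp hi]
  have hle : (y.support.inf fun i => Submodule.colon (⊥ : Submodule R M) {y i}) ≤
      Q.comap (algebraMap R R') := by
    intro r hr
    rw [hmem]
    intro i hi
    have := (Finset.inf_le hi : (y.support.inf fun i => Submodule.colon (⊥ : Submodule R M) {y i})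
      ≤ Submodule.colon (⊥ : Submodule R M) {y i}) hr
    rwa [Submodule.mem_colon_singleton, Submodule.mem_bot] at this
  obtain ⟨i, hi, hile⟩ := (Ideal.IsPrime.inf_le' hqp).mp hle
  refine isAssociatedPrime_iff.mpr ⟨hqp, y i, le_antisymm ?_ hile⟩
  intro r hr
  rw [Submodule.mem_colon_singleton, Submodule.mem_bot]
  exact (hmem r).mp hr i hi

end AD

section Descend

attribute [local instance] Algebra.TensorProduct.rightAlgebra

open PureClosedImm PurePullback

variable {A₁ A₂ : Type u} (B₁ B₂ : Type u) [CommRing A₁] [CommRing A₂] [CommRing B₁] [CommRing B₂]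
  [Algebra A₁ A₂] [Algebra A₁ B₁] [Algebra A₂ B₂] [Algebra B₁ B₂] [Algebra A₁ B₂]
  [IsScalarTower A₁ B₁ B₂] [IsScalarTower A₁ A₂ B₂]

/-- Descent of the impurity conditions along an integral base change with a unique point over the
base point. -/
theorem impCond_descend (hpo : Algebra.IsPushout A₁ B₁ A₂ B₂) [Algebra.FiniteType A₁ B₁]
    [Algebra.IsIntegral A₁ A₂]
    (N₁ N₂ : Type u) [AddCommGroup N₁] [Module B₁ N₁] [Module A₁ N₁] [IsScalarTower A₁ B₁ N₁]
    [AddCommGroup N₂] [Module B₂ N₂] [Module A₂ N₂] [IsScalarTower A₂ B₂ N₂]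
    [Module B₁ N₂] [IsScalarTower B₁ B₂ N₂]
    (f : N₁ →ₗ[B₁] N₂) (hf : IsBaseChange B₂ f)
    (t₁' t₁ : Ideal A₁) [t₁'.IsPrime] [t₁.IsPrime] (t₂' t₂ : Ideal A₂) [t₂'.IsPrime] [t₂.IsPrime]
    [t₂'.LiesOver t₁'] [t₂.LiesOver t₁]
    (huniq : ∀ (s : Ideal A₂) [s.IsPrime], s.LiesOver t₁ → s = t₂)
    (P₂ : Ideal B₂) [P₂.IsPrime] (h : ImpCond B₂ N₂ t₂' t₂ P₂) :
    ImpCond B₁ N₁ t₁' t₁ (P₂.comap (algebraMap B₁ B₂)) := by
  obtain ⟨h1, h2, h3⟩ := h
  let κm := kappaMap t₁' t₂'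
  let θ := theta B₁ B₂ t₁' t₂'
  letI algκ : Algebra t₁'.ResidueField t₂'.ResidueField := κm.toRingHom.toAlgebra
  letI algF : Algebra (t₁'.Fiber B₁) (t₂'.Fiber B₂) := θ.toRingHom.toAlgebra
  letI algBF : Algebra B₁ (t₂'.Fiber B₂) :=
    ((algebraMap B₂ (t₂'.Fiber B₂)).comp (algebraMap B₁ B₂)).toAlgebra
  have hθ_def : ∀ x, algebraMap (t₁'.Fiber B₁) (t₂'.Fiber B₂) x = θ x := fun _ => rfl
  -- towers
  haveI : IsScalarTower A₁ t₁'.ResidueField t₂'.ResidueField :=
    IsScalarTower.of_algebraMap_eq fun a => (κm.commutes a).symm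
  haveI : IsScalarTower t₁'.ResidueField t₂'.ResidueField (t₂'.Fiber B₂) := inferInstance
  haveI : IsScalarTower B₁ B₂ (t₂'.Fiber B₂) := IsScalarTower.of_algebraMap_eq fun _ => rfl
  haveI : IsScalarTower A₁ B₂ (t₂'.Fiber B₂) := IsScalarTower.of_algebraMap_eq fun a => by
    rw [IsScalarTower.algebraMap_apply A₁ A₂ (t₂'.Fiber B₂),
      IsScalarTower.algebraMap_apply A₂ B₂ (t₂'.Fiber B₂),
      ← IsScalarTower.algebraMap_apply A₁ A₂ B₂]
  haveI : IsScalarTower A₁ B₁ (t₂'.Fiber B₂) := IsScalarTower.of_algebraMap_eq fun a => by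
    rw [IsScalarTower.algebraMap_apply A₁ B₂ (t₂'.Fiber B₂),
      IsScalarTower.algebraMap_apply A₁ B₁ B₂,
      ← IsScalarTower.algebraMap_apply B₁ B₂ (t₂'.Fiber B₂)]
  haveI : IsScalarTower t₁'.ResidueField (t₁'.Fiber B₁) (t₂'.Fiber B₂) :=
    IsScalarTower.of_algebraMap_eq (R := t₁'.ResidueField) (S := t₁'.Fiber B₁)
        (A := t₂'.Fiber B₂) fun k => by
      have e : algebraMap t₁'.ResidueField (t₁'.Fiber B₁) k = k ⊗ₜ[A₁] (1 : B₁) := rfl
      rw [hθ_def, e, theta_tmul, map_one]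
      rfl
  haveI : IsScalarTower B₁ (t₁'.Fiber B₁) (t₂'.Fiber B₂) :=
    IsScalarTower.of_algebraMap_eq (R := B₁) (S := t₁'.Fiber B₁)
        (A := t₂'.Fiber B₂) fun b => by
      rw [hθ_def, Algebra.TensorProduct.right_algebraMap_apply, theta_tmul, map_one]
      rfl
  haveI : IsScalarTower A₁ (t₁'.Fiber B₁) (t₂'.Fiber B₂) :=
    IsScalarTower.of_algebraMap_eq (R := A₁) (S := t₁'.Fiber B₁)
        (A := t₂'.Fiber B₂) fun a => (θ.commutes a).symm
  -- pushouts
  haveI hpo' : Algebra.IsPushout A₁ A₂ B₁ B₂ := hpo.symm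
  have hp1 : Algebra.IsPushout A₁ t₂'.ResidueField B₁ (t₂'.Fiber B₂) :=
    (Algebra.IsPushout.comp_iff A₁ A₂ B₁ (S' := B₂) (T := t₂'.ResidueField)
      (T' := t₂'.Fiber B₂)).mpr inferInstance
  have hp2 : Algebra.IsPushout t₁'.ResidueField t₂'.ResidueField (t₁'.Fiber B₁) (t₂'.Fiber B₂) :=
    (Algebra.IsPushout.comp_iff A₁ t₁'.ResidueField B₁ (S' := t₁'.Fiber B₁)
      (T := t₂'.ResidueField) (T' := t₂'.Fiber B₂)).mp hp1
  have hbcF : IsBaseChange (t₁'.Fiber B₁)
      (IsScalarTower.toAlgHom t₁'.ResidueField t₂'.ResidueField (t₂'.Fiber B₂)).toLinearMap :=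
    hp2.symm.out
  haveI : Module.Flat (t₁'.Fiber B₁) (t₂'.Fiber B₂) :=
    Module.Flat.isBaseChange t₁'.ResidueField (t₁'.Fiber B₁) t₂'.ResidueField (t₂'.Fiber B₂) hbcF
  haveI : Module.FaithfullyFlat (t₁'.Fiber B₁) (t₂'.Fiber B₂) :=
    Module.FaithfullyFlat.of_linearEquiv _ _ hbcF.equiv.symm
  -- noetherianity
  haveI : Algebra.FiniteType A₂ B₂ :=
    Algebra.FiniteType.equiv inferInstance (Algebra.IsPushout.equiv A₁ A₂ B₁ B₂)
  haveI : IsNoetherianRing (t₁'.Fiber B₁) :=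
    Algebra.FiniteType.isNoetherianRing t₁'.ResidueField _
  haveI : IsNoetherianRing (t₂'.Fiber B₂) :=
    Algebra.FiniteType.isNoetherianRing t₂'.ResidueField _
  -- module structures on the second fibre module
  haveI : IsScalarTower B₂ (t₂'.Fiber B₂) (FlatCA.fiberMod t₂' B₂ N₂) :=
    inferInstanceAs (IsScalarTower B₂ (t₂'.Fiber B₂) ((t₂'.Fiber B₂) ⊗[B₂] N₂))
  haveI : IsScalarTower B₁ (t₁'.Fiber B₁) (FlatCA.fiberMod t₁' B₁ N₁) :=
    inferInstanceAs (IsScalarTower B₁ (t₁'.Fiber B₁) ((t₁'.Fiber B₁) ⊗[B₁] N₁))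
  letI modF₁M₂ : Module (t₁'.Fiber B₁) (FlatCA.fiberMod t₂' B₂ N₂) :=
    Module.compHom _ (algebraMap (t₁'.Fiber B₁) (t₂'.Fiber B₂))
  haveI : IsScalarTower (t₁'.Fiber B₁) (t₂'.Fiber B₂) (FlatCA.fiberMod t₂' B₂ N₂) :=
    IsScalarTower.of_algebraMap_smul fun _ _ => rfl
  letI modB₁M₂ : Module B₁ (FlatCA.fiberMod t₂' B₂ N₂) := Module.compHom _ (algebraMap B₁ B₂)
  haveI : IsScalarTower B₁ B₂ (FlatCA.fiberMod t₂' B₂ N₂) :=
    IsScalarTower.of_algebraMap_smul fun _ _ => rfl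
  haveI : IsScalarTower B₁ (t₂'.Fiber B₂) (FlatCA.fiberMod t₂' B₂ N₂) :=
    IsScalarTower.of_algebraMap_smul fun b x => by
      rw [IsScalarTower.algebraMap_apply B₁ B₂ (t₂'.Fiber B₂), algebraMap_smul, algebraMap_smul]
  haveI : IsScalarTower B₁ (t₁'.Fiber B₁) (FlatCA.fiberMod t₂' B₂ N₂) :=
    IsScalarTower.of_algebraMap_smul fun b x => by
      rw [← algebraMap_smul (t₂'.Fiber B₂) (algebraMap B₁ (t₁'.Fiber B₁) b) x,
        ← IsScalarTower.algebraMap_apply B₁ (t₁'.Fiber B₁) (t₂'.Fiber B₂), algebraMap_smul]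
  -- the map of fibre modules
  have hmk₁ : IsBaseChange (t₁'.Fiber B₁) (FlatCA.toFiberMod t₁' B₁ N₁) :=
    TensorProduct.isBaseChange B₁ N₁ (t₁'.Fiber B₁)
  have hmk₂ : IsBaseChange (t₂'.Fiber B₂) (FlatCA.toFiberMod t₂' B₂ N₂) :=
    TensorProduct.isBaseChange B₂ N₂ (t₂'.Fiber B₂)
  have hcomp : IsBaseChange (t₂'.Fiber B₂)
      (((FlatCA.toFiberMod t₂' B₂ N₂).restrictScalars B₁).comp f) := IsBaseChange.comp hf hmk₂
  let ψ : FlatCA.fiberMod t₁' B₁ N₁ →ₗ[t₁'.Fiber B₁] FlatCA.fiberMod t₂' B₂ N₂ :=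
    hmk₁.lift (((FlatCA.toFiberMod t₂' B₂ N₂).restrictScalars B₁).comp f)
  have hψ : IsBaseChange (t₂'.Fiber B₂) ψ := by
    refine IsBaseChange.of_comp hmk₁ ?_
    have : (ψ.restrictScalars B₁).comp (FlatCA.toFiberMod t₁' B₁ N₁) =
        ((FlatCA.toFiberMod t₂' B₂ N₂).restrictScalars B₁).comp f := hmk₁.lift_comp _
    rw [this]
    exact hcomp
  -- freeness
  haveI : Module.Free (t₁'.Fiber B₁) (t₂'.Fiber B₂) := Module.Free.of_equiv hbcF.equiv
  haveI hP₂t : P₂.LiesOver t₂' := h1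
  have hunder : ∀ I : Ideal B₂, (I.comap (algebraMap B₁ B₂)).under A₁ = (I.under A₂).under A₁ := by
    intro I
    ext a
    simp only [Ideal.under, Ideal.mem_comap, ← IsScalarTower.algebraMap_apply]
  refine ⟨⟨?_⟩, ?_, ?_⟩
  · rw [hunder, ← h1.over]
    exact Ideal.LiesOver.over
  · have hass := isAssociatedPrime_comap_of_free ψ hψ _ h2
    haveI h𝔮 : ((FlatCA.fiberIdeal t₂' P₂).comap
        (algebraMap (t₁'.Fiber B₁) (t₂'.Fiber B₂))).IsPrime := hass.isPrime
    have hP₂ : (FlatCA.fiberIdeal t₂' P₂).comap (Algebra.TensorProduct.includeRight (R := A₂)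
        (A := t₂'.ResidueField) (B := B₂)).toRingHom = P₂ :=
      le_antisymm (comap_fiberIdeal_le t₂' B₂ P₂) Ideal.le_comap_map
    have hcc : ((FlatCA.fiberIdeal t₂' P₂).comap
        (algebraMap (t₁'.Fiber B₁) (t₂'.Fiber B₂))).comap
        (Algebra.TensorProduct.includeRight (R := A₁) (A := t₁'.ResidueField)
          (B := B₁)).toRingHom = P₂.comap (algebraMap B₁ B₂) := by
      conv_rhs => rw [← hP₂]
      ext b
      simp only [Ideal.mem_comap]
      change algebraMap (t₁'.Fiber B₁) (t₂'.Fiber B₂) (algebraMap B₁ (t₁'.Fiber B₁) b) ∈ _ ↔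
        algebraMap B₂ (t₂'.Fiber B₂) (algebraMap B₁ B₂ b) ∈ _
      rw [← IsScalarTower.algebraMap_apply B₁ (t₁'.Fiber B₁) (t₂'.Fiber B₂),
        IsScalarTower.algebraMap_apply B₁ B₂ (t₂'.Fiber B₂)]
    have := fiberIdeal_comap_includeRight t₁' B₁ ((FlatCA.fiberIdeal t₂' P₂).comap
        (algebraMap (t₁'.Fiber B₁) (t₂'.Fiber B₂)))
    rw [hcc] at this
    rw [this]
    exact hass
  · intro Q' hQ' hle hQ't
    haveI : Algebra.IsIntegral B₁ B₂ := Algebra.IsPushout.isIntegral' (R := A₁) (S := A₂) (A := B₁) (SA := B₂)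
    obtain ⟨P₂', hP₂'le, hP₂'p, hP₂'c⟩ :=
      Ideal.exists_ideal_over_prime_of_isIntegral_of_isPrime Q' P₂ hle
    haveI := hP₂'p
    have hs : (P₂'.under A₂).LiesOver t₁ := ⟨by
      rw [← hunder, hP₂'c]
      exact hQ't.over⟩
    have := huniq (P₂'.under A₂) hs
    exact h3 P₂' hP₂'le ⟨this.symm⟩

end Descend

section MainQF

attribute [local instance] Algebra.TensorProduct.rightAlgebra

open PureClosedImm PurePullback

theorem isPureAlong_baseChange_of_quasiFiniteAt {A B : Type u} [CommRing A] [CommRing B] [Algebra A B] [Algebra.FiniteType A B]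
    (N : Type u) [AddCommGroup N] [Module B N] (p : Ideal A) [p.IsPrime]
    (A' B' N' : Type u) [CommRing A'] [CommRing B'] [Algebra A A'] [Algebra B B'] [Algebra A' B'] [Algebra A B']
    [IsScalarTower A B B'] [IsScalarTower A A' B'] (hpo : Algebra.IsPushout A B A' B')
    [AddCommGroup N'] [Module B' N'] [Module B N'] [IsScalarTower B B' N'] (f : N →ₗ[B] N') (hf : IsBaseChange B' f)
    (p' : Ideal A') [p'.IsPrime] [hp'p : p'.LiesOver p] [Algebra.FiniteType A A'] [Algebra.QuasiFiniteAt A p']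
    (h : FlatCA.IsPureAlong A B N p) : FlatCA.IsPureAlong A' B' N' p' := by
  intro A₁ B₁ N₁ _ _ _ _ _ _ _ _ _ _ _ _ _ _ f₁ t' t _ _ P _ het himp
  obtain ⟨hpo₁, hf₁, htt, htp', hPt, hass, hcl⟩ := himp
  obtain ⟨hetale, htp'', hbij₁⟩ := het
  -- Step 1: structures over `A`
  letI algAA₁ : Algebra A A₁ := ((algebraMap A' A₁).comp (algebraMap A A')).toAlgebra
  haveI : IsScalarTower A A' A₁ := IsScalarTower.of_algebraMap_eq fun _ => rfl
  letI algBB₁ : Algebra B B₁ := ((algebraMap B' B₁).comp (algebraMap B B')).toAlgebra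
  haveI : IsScalarTower B B' B₁ := IsScalarTower.of_algebraMap_eq fun _ => rfl
  letI algAB₁ : Algebra A B₁ := ((algebraMap A' B₁).comp (algebraMap A A')).toAlgebra
  haveI : IsScalarTower A A' B₁ := IsScalarTower.of_algebraMap_eq fun _ => rfl
  haveI : IsScalarTower A A₁ B₁ := IsScalarTower.of_algebraMap_eq fun a => by
    rw [IsScalarTower.algebraMap_apply A A' B₁, IsScalarTower.algebraMap_apply A' A₁ B₁,
      ← IsScalarTower.algebraMap_apply A A' A₁]
  haveI : IsScalarTower A B' B₁ := IsScalarTower.of_algebraMap_eq fun a => by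
    rw [IsScalarTower.algebraMap_apply A A' B₁, IsScalarTower.algebraMap_apply A' B' B₁,
      ← IsScalarTower.algebraMap_apply A A' B']
  haveI : IsScalarTower A B B₁ := IsScalarTower.of_algebraMap_eq fun a => by
    rw [IsScalarTower.algebraMap_apply A B' B₁, IsScalarTower.algebraMap_apply A B B',
      ← IsScalarTower.algebraMap_apply B B' B₁]
  letI modBN₁ : Module B N₁ := Module.compHom N₁ (algebraMap B B')
  haveI : IsScalarTower B B' N₁ := IsScalarTower.of_algebraMap_smul fun _ _ => rfl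
  haveI : IsScalarTower B B₁ N₁ := IsScalarTower.of_algebraMap_smul fun b x => by
    rw [IsScalarTower.algebraMap_apply B B' B₁, algebraMap_smul, algebraMap_smul]
  haveI hpoS : Algebra.IsPushout A A' B B' := hpo.symm
  haveI hpo₁S : Algebra.IsPushout A' A₁ B' B₁ := hpo₁.symm
  have hpoA : Algebra.IsPushout A A₁ B B₁ :=
    (Algebra.IsPushout.comp_iff A A' B (S' := B') (T := A₁) (T' := B₁)).mpr inferInstance
  have hpoA' : Algebra.IsPushout A B A₁ B₁ := hpoA.symm
  have hfA : IsBaseChange B₁ ((f₁.restrictScalars B).comp f) := IsBaseChange.comp hf hf₁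
  haveI htp : t.LiesOver p := ⟨by
    have e1 : t.under A = (t.under A').under A := by
      ext a
      simp only [Ideal.under, Ideal.mem_comap, ← IsScalarTower.algebraMap_apply]
    rw [e1, ← htp'.over]
    exact hp'p.over⟩
  have himpA : FlatCA.IsImpurity A B N p A₁ B₁ N₁ ((f₁.restrictScalars B).comp f) t' t P :=
    ⟨hpoA', hfA, htt, htp, hPt, hass, hcl⟩
  -- Step 2: `A₁` is of finite type over `A` and quasi-finite at `t`
  haveI := hetale
  haveI hftA₁ : Algebra.FiniteType A A₁ := Algebra.FiniteType.trans (S := A') inferInstance inferInstance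
  haveI := htp'
  haveI hqf : Algebra.QuasiFiniteAt A t := by
    letI := Localization.AtPrime.algebraOfLiesOver p' t
    haveI : Algebra.QuasiFinite A' (Localization.AtPrime t) :=
      Algebra.QuasiFinite.trans (R := A') (S := A₁) (T := Localization.AtPrime t)
    haveI : Algebra.QuasiFinite (Localization.AtPrime p') (Localization.AtPrime t) :=
      Algebra.QuasiFinite.of_restrictScalars (R := A') (S := Localization.AtPrime p')
        (T := Localization.AtPrime t)
    exact Algebra.QuasiFinite.trans (R := A) (S := Localization.AtPrime p')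
      (T := Localization.AtPrime t)
  -- Step 3: the etale-local splitting
  obtain ⟨R', _, _, hetR', P₀, _, hP₀p, e, he, P', hP'prime, hP'P₀, hP't, heP', hbijR', hfin, huniq⟩ :=
    Algebra.exists_etale_isIdempotentElem_forall_liesOver_eq (R := A) (S := A₁) p t
  haveI := hetR'
  haveI := hP'prime
  haveI := hP'P₀
  haveI := hP₀p
  -- Step 4: the finite part `D` and its primes
  haveI hflatE : Module.Flat A₁ (R' ⊗[A] A₁) :=
    Module.Flat.isBaseChange A A₁ R' (R' ⊗[A] A₁)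
      (TensorProduct.isPushout' (R := A) (S := R') (T := A₁)).out
  haveI hflatD : Module.Flat A₁ (Localization.Away e) :=
    Module.Flat.trans A₁ (R' ⊗[A] A₁) (Localization.Away e)
  have hdisj : Disjoint (Submonoid.powers e : Set (R' ⊗[A] A₁)) P' :=
    (Ideal.disjoint_powers_iff_notMem_of_isPrime e).mpr heP'
  let σ : Ideal (Localization.Away e) := P'.map (algebraMap (R' ⊗[A] A₁) (Localization.Away e))
  haveI hσp : σ.IsPrime :=
    IsLocalization.isPrime_of_isPrime_disjoint (Submonoid.powers e) _ _ hP'prime hdisj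
  haveI hσP' : σ.LiesOver P' :=
    IsLocalization.liesOver_map_of_isPrime_disjoint (Submonoid.powers e) _ hdisj
  haveI hP't' : P'.LiesOver t := ⟨hP't.symm⟩
  haveI hσt : σ.LiesOver t := Ideal.LiesOver.trans σ P' t
  haveI hσP₀ : σ.LiesOver P₀ := Ideal.LiesOver.trans σ P' P₀
  obtain ⟨σ', hσ'le, hσ'p, hσ't'⟩ :=
    Ideal.exists_ideal_le_liesOver_of_le (p := t') (q := t) σ htt
  haveI := hσ'p
  haveI := hσ't'
  have huniqD : ∀ (s : Ideal (Localization.Away e)) [s.IsPrime], s.LiesOver P₀ → s = σ := by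
    intro s hs hsP₀
    have h1 : (s.under (R' ⊗[A] A₁)).LiesOver P₀ := ⟨by
      have e1 : (s.under (R' ⊗[A] A₁)).under R' = s.under R' := by
        ext a
        simp only [Ideal.under, Ideal.mem_comap, ← IsScalarTower.algebraMap_apply]
      rw [e1]
      exact hsP₀.over⟩
    have h2 : e ∉ s.under (R' ⊗[A] A₁) := by
      intro hmem
      have hu : IsUnit (algebraMap (R' ⊗[A] A₁) (Localization.Away e) e) :=
        IsLocalization.Away.algebraMap_isUnit e
      exact hs.ne_top (Ideal.eq_top_of_isUnit_mem _ hmem hu)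
    have h3 := huniq (s.under (R' ⊗[A] A₁)) inferInstance h1 h2
    rw [← IsLocalization.map_under (Submonoid.powers e) (Localization.Away e) s, h3]
  -- Step 5: pull the impurity back to `D`
  have hpoR : Algebra.IsPushout A B R' (R' ⊗[A] B) := inferInstance
  have hfR : IsBaseChange (R' ⊗[A] B) (TensorProduct.mk B (R' ⊗[A] B) N 1) :=
    TensorProduct.isBaseChange B N (R' ⊗[A] B)
  have hpoD : Algebra.IsPushout R' (R' ⊗[A] B) (Localization.Away e)
      ((Localization.Away e) ⊗[R'] (R' ⊗[A] B)) := inferInstance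
  have hfD : IsBaseChange ((Localization.Away e) ⊗[R'] (R' ⊗[A] B))
      (TensorProduct.mk (R' ⊗[A] B) ((Localization.Away e) ⊗[R'] (R' ⊗[A] B))
        ((R' ⊗[A] B) ⊗[B] N) 1) :=
    TensorProduct.isBaseChange (R' ⊗[A] B) ((R' ⊗[A] B) ⊗[B] N)
      ((Localization.Away e) ⊗[R'] (R' ⊗[A] B))
  have key := exists_impurity_pullback N p R' (R' ⊗[A] B) ((R' ⊗[A] B) ⊗[B] N)
    (TensorProduct.mk B (R' ⊗[A] B) N 1) P₀ A₁ B₁ N₁ ((f₁.restrictScalars B).comp f) t' t P
    (Localization.Away e) ((Localization.Away e) ⊗[R'] (R' ⊗[A] B))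
    (((Localization.Away e) ⊗[R'] (R' ⊗[A] B)) ⊗[R' ⊗[A] B] ((R' ⊗[A] B) ⊗[B] N))
    (TensorProduct.mk (R' ⊗[A] B) ((Localization.Away e) ⊗[R'] (R' ⊗[A] B))
        ((R' ⊗[A] B) ⊗[B] N) 1) σ' σ
  have key2 := key hpoR hfR
  have key3 := key2 hpoD hfD hσ'le
  obtain ⟨P₃, hP₃, himpD⟩ := key3 himpA
  obtain ⟨-, -, -, -, hc1, hc2, hc3⟩ := himpD
  -- Step 6: descend along the finite map `R' → D`
  haveI := hfin
  have d1 := impCond_descend (A₁ := R') (A₂ := Localization.Away e) (R' ⊗[A] B)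
    ((Localization.Away e) ⊗[R'] (R' ⊗[A] B))
  have d2 := d1 hpoD
  have d3 := d2 ((R' ⊗[A] B) ⊗[B] N)
    (((Localization.Away e) ⊗[R'] (R' ⊗[A] B)) ⊗[R' ⊗[A] B] ((R' ⊗[A] B) ⊗[B] N))
  have d4 := d3 (TensorProduct.mk (R' ⊗[A] B) ((Localization.Away e) ⊗[R'] (R' ⊗[A] B))
        ((R' ⊗[A] B) ⊗[B] N) 1) hfD
  have d5 := d4 (σ'.under R') P₀ σ' σ
  have d6 := d5 huniqD P₃
  have hdesc2 := d6 ⟨hc1, hc2, hc3⟩
  -- Step 7: conclude
  have hle' : σ'.under R' ≤ P₀ := by
    rw [hσP₀.over]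
    exact Ideal.comap_mono hσ'le
  have hfin1 := h R' (R' ⊗[A] B) ((R' ⊗[A] B) ⊗[B] N) (TensorProduct.mk B (R' ⊗[A] B) N 1)
    (σ'.under R') P₀ (P₃.comap (algebraMap (R' ⊗[A] B) ((Localization.Away e) ⊗[R'] (R' ⊗[A] B))))
  have hfin2 := hfin1 ⟨hetR', hP₀p, hbijR'⟩
  exact hfin2 ⟨hpoR, hfR, hle', hP₀p, hdesc2.1, hdesc2.2.1, hdesc2.2.2⟩

end MainQF

section MainQF2

attribute [local instance] Algebra.TensorProduct.rightAlgebra

open PureClosedImm PurePullback

theorem exists_etale_impurity_of_quasiFiniteAt {A B : Type u} [CommRing A] [CommRing B] [Algebra A B]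
    [Algebra.FiniteType A B] (N : Type u) [AddCommGroup N] [Module B N] (p : Ideal A) [p.IsPrime]
    (A₁ B₁ N₁ : Type u) [CommRing A₁] [CommRing B₁] [Algebra A A₁] [Algebra B B₁] [Algebra A₁ B₁]
    [Algebra A B₁] [IsScalarTower A B B₁] [IsScalarTower A A₁ B₁]
    [AddCommGroup N₁] [Module B₁ N₁] [Module B N₁] [IsScalarTower B B₁ N₁] [Module A₁ N₁]
    [IsScalarTower A₁ B₁ N₁]
    (f₁ : N →ₗ[B] N₁) (t' t : Ideal A₁) [t'.IsPrime] [t.IsPrime] (P : Ideal B₁) [P.IsPrime]
    [Algebra.FiniteType A A₁] [Algebra.QuasiFiniteAt A t]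
    (himpA : FlatCA.IsImpurity A B N p A₁ B₁ N₁ f₁ t' t P) :
    FlatCA.HasImpurity A B N p (fun A' _ _ t => ∃ _ : t.IsPrime, FlatCA.IsEtaleNhd A A' p t) := by
  have htt : t' ≤ t := himpA.2.2.1
  haveI htp : t.LiesOver p := himpA.2.2.2.1
  -- Step 3: the etale-local splitting
  obtain ⟨R', _, _, hetR', P₀, _, hP₀p, e, he, P', hP'prime, hP'P₀, hP't, heP', hbijR', hfin, huniq⟩ :=
    Algebra.exists_etale_isIdempotentElem_forall_liesOver_eq (R := A) (S := A₁) p t
  haveI := hetR'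
  haveI := hP'prime
  haveI := hP'P₀
  haveI := hP₀p
  -- Step 4: the finite part `D` and its primes
  haveI hflatE : Module.Flat A₁ (R' ⊗[A] A₁) :=
    Module.Flat.isBaseChange A A₁ R' (R' ⊗[A] A₁)
      (TensorProduct.isPushout' (R := A) (S := R') (T := A₁)).out
  haveI hflatD : Module.Flat A₁ (Localization.Away e) :=
    Module.Flat.trans A₁ (R' ⊗[A] A₁) (Localization.Away e)
  have hdisj : Disjoint (Submonoid.powers e : Set (R' ⊗[A] A₁)) P' :=
    (Ideal.disjoint_powers_iff_notMem_of_isPrime e).mpr heP'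
  let σ : Ideal (Localization.Away e) := P'.map (algebraMap (R' ⊗[A] A₁) (Localization.Away e))
  haveI hσp : σ.IsPrime :=
    IsLocalization.isPrime_of_isPrime_disjoint (Submonoid.powers e) _ _ hP'prime hdisj
  haveI hσP' : σ.LiesOver P' :=
    IsLocalization.liesOver_map_of_isPrime_disjoint (Submonoid.powers e) _ hdisj
  haveI hP't' : P'.LiesOver t := ⟨hP't.symm⟩
  haveI hσt : σ.LiesOver t := Ideal.LiesOver.trans σ P' t
  haveI hσP₀ : σ.LiesOver P₀ := Ideal.LiesOver.trans σ P' P₀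
  obtain ⟨σ', hσ'le, hσ'p, hσ't'⟩ :=
    Ideal.exists_ideal_le_liesOver_of_le (p := t') (q := t) σ htt
  haveI := hσ'p
  haveI := hσ't'
  have huniqD : ∀ (s : Ideal (Localization.Away e)) [s.IsPrime], s.LiesOver P₀ → s = σ := by
    intro s hs hsP₀
    have h1 : (s.under (R' ⊗[A] A₁)).LiesOver P₀ := ⟨by
      have e1 : (s.under (R' ⊗[A] A₁)).under R' = s.under R' := by
        ext a
        simp only [Ideal.under, Ideal.mem_comap, ← IsScalarTower.algebraMap_apply]
      rw [e1]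
      exact hsP₀.over⟩
    have h2 : e ∉ s.under (R' ⊗[A] A₁) := by
      intro hmem
      have hu : IsUnit (algebraMap (R' ⊗[A] A₁) (Localization.Away e) e) :=
        IsLocalization.Away.algebraMap_isUnit e
      exact hs.ne_top (Ideal.eq_top_of_isUnit_mem _ hmem hu)
    have h3 := huniq (s.under (R' ⊗[A] A₁)) inferInstance h1 h2
    rw [← IsLocalization.map_under (Submonoid.powers e) (Localization.Away e) s, h3]
  -- Step 5: pull the impurity back to `D`
  have hpoR : Algebra.IsPushout A B R' (R' ⊗[A] B) := inferInstance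
  have hfR : IsBaseChange (R' ⊗[A] B) (TensorProduct.mk B (R' ⊗[A] B) N 1) :=
    TensorProduct.isBaseChange B N (R' ⊗[A] B)
  have hpoD : Algebra.IsPushout R' (R' ⊗[A] B) (Localization.Away e)
      ((Localization.Away e) ⊗[R'] (R' ⊗[A] B)) := inferInstance
  have hfD : IsBaseChange ((Localization.Away e) ⊗[R'] (R' ⊗[A] B))
      (TensorProduct.mk (R' ⊗[A] B) ((Localization.Away e) ⊗[R'] (R' ⊗[A] B))
        ((R' ⊗[A] B) ⊗[B] N) 1) :=
    TensorProduct.isBaseChange (R' ⊗[A] B) ((R' ⊗[A] B) ⊗[B] N)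
      ((Localization.Away e) ⊗[R'] (R' ⊗[A] B))
  have key := exists_impurity_pullback N p R' (R' ⊗[A] B) ((R' ⊗[A] B) ⊗[B] N)
    (TensorProduct.mk B (R' ⊗[A] B) N 1) P₀ A₁ B₁ N₁ f₁ t' t P
    (Localization.Away e) ((Localization.Away e) ⊗[R'] (R' ⊗[A] B))
    (((Localization.Away e) ⊗[R'] (R' ⊗[A] B)) ⊗[R' ⊗[A] B] ((R' ⊗[A] B) ⊗[B] N))
    (TensorProduct.mk (R' ⊗[A] B) ((Localization.Away e) ⊗[R'] (R' ⊗[A] B))
        ((R' ⊗[A] B) ⊗[B] N) 1) σ' σ
  have key2 := key hpoR hfR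
  have key3 := key2 hpoD hfD hσ'le
  obtain ⟨P₃, hP₃, himpD⟩ := key3 himpA
  obtain ⟨-, -, -, -, hc1, hc2, hc3⟩ := himpD
  -- Step 6: descend along the finite map `R' → D`
  haveI := hfin
  have d1 := impCond_descend (A₁ := R') (A₂ := Localization.Away e) (R' ⊗[A] B)
    ((Localization.Away e) ⊗[R'] (R' ⊗[A] B))
  have d2 := d1 hpoD
  have d3 := d2 ((R' ⊗[A] B) ⊗[B] N)
    (((Localization.Away e) ⊗[R'] (R' ⊗[A] B)) ⊗[R' ⊗[A] B] ((R' ⊗[A] B) ⊗[B] N))
  have d4 := d3 (TensorProduct.mk (R' ⊗[A] B) ((Localization.Away e) ⊗[R'] (R' ⊗[A] B))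
        ((R' ⊗[A] B) ⊗[B] N) 1) hfD
  have d5 := d4 (σ'.under R') P₀ σ' σ
  have d6 := d5 huniqD P₃
  have hdesc2 := d6 ⟨hc1, hc2, hc3⟩
  -- Step 7: conclude
  have hle' : σ'.under R' ≤ P₀ := by
    rw [hσP₀.over]
    exact Ideal.comap_mono hσ'le
  refine ⟨R', R' ⊗[A] B, (R' ⊗[A] B) ⊗[B] N, inferInstance, inferInstance, inferInstance,
    inferInstance, inferInstance, inferInstance, inferInstance, inferInstance, inferInstance,
    inferInstance, inferInstance, inferInstance, inferInstance, inferInstance,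
    TensorProduct.mk B (R' ⊗[A] B) N 1, σ'.under R', P₀, inferInstance, inferInstance,
    P₃.comap (algebraMap (R' ⊗[A] B) ((Localization.Away e) ⊗[R'] (R' ⊗[A] B))), inferInstance,
    ⟨hpoR, hfR, hle', hP₀p, hdesc2.1, hdesc2.2.1, hdesc2.2.2⟩, inferInstance,
    hetR', hP₀p, hbijR'⟩

end MainQF2

end Groth.Agent.Lib.Helper95.PureQF
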