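import Mathlib
import Groth.Prelude.Def_FlatCA
import Groth.Agent.Lib.Helper95.PureQF

/-!
Helper library for S1296: an impurity over a directed colimit of base rings descends to a finite
stage.
-/

set_option autoImplicit false
set_option linter.style.haveILetI false
universe u

namespace Groth.Agent.Lib.Helper95.PureColim

open TensorProduct

section DescAss

attribute [local instance] Algebra.TensorProduct.rightAlgebra

open PureClosedImm PurePullback PureQF

variable {A₁ A₂ : Type u} (B₁ B₂ : Type u) [CommRing A₁] [CommRing A₂] [CommRing B₁] [CommRing B₂]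
  [Algebra A₁ A₂] [Algebra A₁ B₁] [Algebra A₂ B₂] [Algebra B₁ B₂] [Algebra A₁ B₂]
  [IsScalarTower A₁ B₁ B₂] [IsScalarTower A₁ A₂ B₂]

/-- Descent of the first two impurity conditions along an arbitrary base change. -/
theorem liesOver_ass_descend (hpo : Algebra.IsPushout A₁ B₁ A₂ B₂) [Algebra.FiniteType A₁ B₁]
    (N₁ N₂ : Type u) [AddCommGroup N₁] [Module B₁ N₁] [Module A₁ N₁] [IsScalarTower A₁ B₁ N₁]
    [AddCommGroup N₂] [Module B₂ N₂] [Module A₂ N₂] [IsScalarTower A₂ B₂ N₂]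
    [Module B₁ N₂] [IsScalarTower B₁ B₂ N₂]
    (f : N₁ →ₗ[B₁] N₂) (hf : IsBaseChange B₂ f)
    (t₁' : Ideal A₁) [t₁'.IsPrime] (t₂' : Ideal A₂) [t₂'.IsPrime] [t₂'.LiesOver t₁']
    (P₂ : Ideal B₂) [P₂.IsPrime] (h1 : P₂.LiesOver t₂')
    (h2 : FlatCA.fiberIdeal t₂' P₂ ∈
      associatedPrimes (t₂'.Fiber B₂) (FlatCA.fiberMod t₂' B₂ N₂)) :
    (P₂.comap (algebraMap B₁ B₂)).LiesOver t₁' ∧
      FlatCA.fiberIdeal t₁' (P₂.comap (algebraMap B₁ B₂)) ∈
        associatedPrimes (t₁'.Fiber B₁) (FlatCA.fiberMod t₁' B₁ N₁) := by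
  let κm := kappaMap t₁' t₂'
  let θ := theta B₁ B₂ t₁' t₂'
  letI algκ : Algebra t₁'.ResidueField t₂'.ResidueField := κm.toRingHom.toAlgebra
  letI algF : Algebra (t₁'.Fiber B₁) (t₂'.Fiber B₂) := θ.toRingHom.toAlgebra
  letI algBF : Algebra B₁ (t₂'.Fiber B₂) :=
    ((algebraMap B₂ (t₂'.Fiber B₂)).comp (algebraMap B₁ B₂)).toAlgebra
  have hθ_def : ∀ x, algebraMap (t₁'.Fiber B₁) (t₂'.Fiber B₂) x = θ x := fun _ => rfl
  -- towers
  haveI : IsScalarTower A₁ t₁'.ResidueField t₂'.ResidueField :=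
    IsScalarTower.of_algebraMap_eq fun a => (κm.commutes a).symm
  haveI : IsScalarTower t₁'.ResidueField t₂'.ResidueField (t₂'.Fiber B₂) := inferInstance
  haveI : IsScalarTower B₁ B₂ (t₂'.Fiber B₂) := IsScalarTower.of_algebraMap_eq fun _ => rfl
  haveI : IsScalarTower A₁ B₂ (t₂'.Fiber B₂) := IsScalarTower.of_algebraMap_eq fun a => by
    rw [IsScalarTower.algebraMap_apply A₁ A₂ (t₂'.Fiber B₂),
      IsScalarTower.algebraMap_apply A₂ B₂ (t₂'.Fiber B₂),
      ← IsScalarTower.algebraMap_apply A₁ A₂ B₂]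
  haveI : IsScalarTower A₁ B₁ (t₂'.Fiber B₂) := IsScalarTower.of_algebraMap_eq fun a => by
    rw [IsScalarTower.algebraMap_apply A₁ B₂ (t₂'.Fiber B₂),
      IsScalarTower.algebraMap_apply A₁ B₁ B₂,
      ← IsScalarTower.algebraMap_apply B₁ B₂ (t₂'.Fiber B₂)]
  haveI : IsScalarTower t₁'.ResidueField (t₁'.Fiber B₁) (t₂'.Fiber B₂) :=
    IsScalarTower.of_algebraMap_eq (R := t₁'.ResidueField) (S := t₁'.Fiber B₁)
        (A := t₂'.Fiber B₂) fun k => by
      have e : algebraMap t₁'.ResidueField (t₁'.Fiber B₁) k = k ⊗ₜ[A₁] (1 : B₁) := rfl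
      rw [hθ_def, e, theta_tmul, map_one]
      rfl
  haveI : IsScalarTower B₁ (t₁'.Fiber B₁) (t₂'.Fiber B₂) :=
    IsScalarTower.of_algebraMap_eq (R := B₁) (S := t₁'.Fiber B₁)
        (A := t₂'.Fiber B₂) fun b => by
      rw [hθ_def, Algebra.TensorProduct.right_algebraMap_apply, theta_tmul, map_one]
      rfl
  haveI : IsScalarTower A₁ (t₁'.Fiber B₁) (t₂'.Fiber B₂) :=
    IsScalarTower.of_algebraMap_eq (R := A₁) (S := t₁'.Fiber B₁)
        (A := t₂'.Fiber B₂) fun a => (θ.commutes a).symm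
  -- pushouts
  haveI hpo' : Algebra.IsPushout A₁ A₂ B₁ B₂ := hpo.symm
  have hp1 : Algebra.IsPushout A₁ t₂'.ResidueField B₁ (t₂'.Fiber B₂) :=
    (Algebra.IsPushout.comp_iff A₁ A₂ B₁ (S' := B₂) (T := t₂'.ResidueField)
      (T' := t₂'.Fiber B₂)).mpr inferInstance
  have hp2 : Algebra.IsPushout t₁'.ResidueField t₂'.ResidueField (t₁'.Fiber B₁) (t₂'.Fiber B₂) :=
    (Algebra.IsPushout.comp_iff A₁ t₁'.ResidueField B₁ (S' := t₁'.Fiber B₁)
      (T := t₂'.ResidueField) (T' := t₂'.Fiber B₂)).mp hp1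
  have hbcF : IsBaseChange (t₁'.Fiber B₁)
      (IsScalarTower.toAlgHom t₁'.ResidueField t₂'.ResidueField (t₂'.Fiber B₂)).toLinearMap :=
    hp2.symm.out
  haveI : Module.Flat (t₁'.Fiber B₁) (t₂'.Fiber B₂) :=
    Module.Flat.isBaseChange t₁'.ResidueField (t₁'.Fiber B₁) t₂'.ResidueField (t₂'.Fiber B₂) hbcF
  haveI : Module.FaithfullyFlat (t₁'.Fiber B₁) (t₂'.Fiber B₂) :=
    Module.FaithfullyFlat.of_linearEquiv _ _ hbcF.equiv.symm
  -- noetherianity
  haveI : Algebra.FiniteType A₂ B₂ :=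
    Algebra.FiniteType.equiv inferInstance (Algebra.IsPushout.equiv A₁ A₂ B₁ B₂)
  haveI : IsNoetherianRing (t₁'.Fiber B₁) :=
    Algebra.FiniteType.isNoetherianRing t₁'.ResidueField _
  haveI : IsNoetherianRing (t₂'.Fiber B₂) :=
    Algebra.FiniteType.isNoetherianRing t₂'.ResidueField _
  -- module structures on the second fibre module
  haveI : IsScalarTower B₂ (t₂'.Fiber B₂) (FlatCA.fiberMod t₂' B₂ N₂) :=
    inferInstanceAs (IsScalarTower B₂ (t₂'.Fiber B₂) ((t₂'.Fiber B₂) ⊗[B₂] N₂))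
  haveI : IsScalarTower B₁ (t₁'.Fiber B₁) (FlatCA.fiberMod t₁' B₁ N₁) :=
    inferInstanceAs (IsScalarTower B₁ (t₁'.Fiber B₁) ((t₁'.Fiber B₁) ⊗[B₁] N₁))
  letI modF₁M₂ : Module (t₁'.Fiber B₁) (FlatCA.fiberMod t₂' B₂ N₂) :=
    Module.compHom _ (algebraMap (t₁'.Fiber B₁) (t₂'.Fiber B₂))
  haveI : IsScalarTower (t₁'.Fiber B₁) (t₂'.Fiber B₂) (FlatCA.fiberMod t₂' B₂ N₂) :=
    IsScalarTower.of_algebraMap_smul fun _ _ => rfl
  letI modB₁M₂ : Module B₁ (FlatCA.fiberMod t₂' B₂ N₂) := Module.compHom _ (algebraMap B₁ B₂)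
  haveI : IsScalarTower B₁ B₂ (FlatCA.fiberMod t₂' B₂ N₂) :=
    IsScalarTower.of_algebraMap_smul fun _ _ => rfl
  haveI : IsScalarTower B₁ (t₂'.Fiber B₂) (FlatCA.fiberMod t₂' B₂ N₂) :=
    IsScalarTower.of_algebraMap_smul fun b x => by
      rw [IsScalarTower.algebraMap_apply B₁ B₂ (t₂'.Fiber B₂), algebraMap_smul, algebraMap_smul]
  haveI : IsScalarTower B₁ (t₁'.Fiber B₁) (FlatCA.fiberMod t₂' B₂ N₂) :=
    IsScalarTower.of_algebraMap_smul fun b x => by
      rw [← algebraMap_smul (t₂'.Fiber B₂) (algebraMap B₁ (t₁'.Fiber B₁) b) x,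
        ← IsScalarTower.algebraMap_apply B₁ (t₁'.Fiber B₁) (t₂'.Fiber B₂), algebraMap_smul]
  -- the map of fibre modules
  have hmk₁ : IsBaseChange (t₁'.Fiber B₁) (FlatCA.toFiberMod t₁' B₁ N₁) :=
    TensorProduct.isBaseChange B₁ N₁ (t₁'.Fiber B₁)
  have hmk₂ : IsBaseChange (t₂'.Fiber B₂) (FlatCA.toFiberMod t₂' B₂ N₂) :=
    TensorProduct.isBaseChange B₂ N₂ (t₂'.Fiber B₂)
  have hcomp : IsBaseChange (t₂'.Fiber B₂)
      (((FlatCA.toFiberMod t₂' B₂ N₂).restrictScalars B₁).comp f) := IsBaseChange.comp hf hmk₂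
  let ψ : FlatCA.fiberMod t₁' B₁ N₁ →ₗ[t₁'.Fiber B₁] FlatCA.fiberMod t₂' B₂ N₂ :=
    hmk₁.lift (((FlatCA.toFiberMod t₂' B₂ N₂).restrictScalars B₁).comp f)
  have hψ : IsBaseChange (t₂'.Fiber B₂) ψ := by
    refine IsBaseChange.of_comp hmk₁ ?_
    have : (ψ.restrictScalars B₁).comp (FlatCA.toFiberMod t₁' B₁ N₁) =
        ((FlatCA.toFiberMod t₂' B₂ N₂).restrictScalars B₁).comp f := hmk₁.lift_comp _
    rw [this]
    exact hcomp
  -- freeness
  haveI : Module.Free (t₁'.Fiber B₁) (t₂'.Fiber B₂) := Module.Free.of_equiv hbcF.equiv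
  haveI hP₂t : P₂.LiesOver t₂' := h1
  have hunder : ∀ I : Ideal B₂, (I.comap (algebraMap B₁ B₂)).under A₁ = (I.under A₂).under A₁ := by
    intro I
    ext a
    simp only [Ideal.under, Ideal.mem_comap, ← IsScalarTower.algebraMap_apply]
  refine ⟨⟨?_⟩, ?_⟩
  · rw [hunder, ← h1.over]
    exact Ideal.LiesOver.over
  · have hass := isAssociatedPrime_comap_of_free ψ hψ _ h2
    haveI h𝔮 : ((FlatCA.fiberIdeal t₂' P₂).comap
        (algebraMap (t₁'.Fiber B₁) (t₂'.Fiber B₂))).IsPrime := hass.isPrime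
    have hP₂ : (FlatCA.fiberIdeal t₂' P₂).comap (Algebra.TensorProduct.includeRight (R := A₂)
        (A := t₂'.ResidueField) (B := B₂)).toRingHom = P₂ :=
      le_antisymm (comap_fiberIdeal_le t₂' B₂ P₂) Ideal.le_comap_map
    have hcc : ((FlatCA.fiberIdeal t₂' P₂).comap
        (algebraMap (t₁'.Fiber B₁) (t₂'.Fiber B₂))).comap
        (Algebra.TensorProduct.includeRight (R := A₁) (A := t₁'.ResidueField)
          (B := B₁)).toRingHom = P₂.comap (algebraMap B₁ B₂) := by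
      conv_rhs => rw [← hP₂]
      ext b
      simp only [Ideal.mem_comap]
      change algebraMap (t₁'.Fiber B₁) (t₂'.Fiber B₂) (algebraMap B₁ (t₁'.Fiber B₁) b) ∈ _ ↔
        algebraMap B₂ (t₂'.Fiber B₂) (algebraMap B₁ B₂ b) ∈ _
      rw [← IsScalarTower.algebraMap_apply B₁ (t₁'.Fiber B₁) (t₂'.Fiber B₂),
        IsScalarTower.algebraMap_apply B₁ B₂ (t₂'.Fiber B₂)]
    have := fiberIdeal_comap_includeRight t₁' B₁ ((FlatCA.fiberIdeal t₂' P₂).comap
        (algebraMap (t₁'.Fiber B₁) (t₂'.Fiber B₂)))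
    rw [hcc] at this
    rw [this]
    exact hass

end DescAss

section Stage

attribute [local instance] Algebra.TensorProduct.rightAlgebra

open PureClosedImm PurePullback PureQF

theorem exists_impurity_stage {A B : Type u} [CommRing A] [CommRing B] [Algebra A B] [Algebra.FiniteType A B]
    (N : Type u) [AddCommGroup N] [Module B N] (p : Ideal A) [p.IsPrime]
    {ι : Type u} [Preorder ι] (G : ι → Type u) [∀ i, CommRing (G i)] [∀ i, Algebra A (G i)]
    (g : ∀ i j, i ≤ j → G i →ₐ[A] G j)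
    (A' : Type u) [CommRing A'] [Algebra A A'] [∀ i, Algebra (G i) A'] [∀ i, IsScalarTower A (G i) A']
    (hcolim : FlatCA.IsDirectedColimitRing G (fun i j h => (g i j h).toRingHom) A')
    (B' N' : Type u) [CommRing B'] [Algebra B B'] [Algebra A' B'] [Algebra A B'] [IsScalarTower A B B'] [IsScalarTower A A' B']
    [AddCommGroup N'] [Module B' N'] [Module B N'] [IsScalarTower B B' N'] [Module A' N'] [IsScalarTower A' B' N']
    (f : N →ₗ[B] N') (t' t : Ideal A') [t'.IsPrime] [t.IsPrime] (P : Ideal B') [P.IsPrime]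
    (himp : FlatCA.IsImpurity A B N p A' B' N' f t' t P) :
    ∃ i : ι, FlatCA.HasImpurity A B N p (fun A'' _ _ t'' => ∃ e : A'' ≃ₐ[A] G i, t''.map e = t.comap (algebraMap (G i) A')) := by
  obtain ⟨hpo, hf, htt, htp, hPt, hass, hcl⟩ := himp
  obtain ⟨hdir, hne, hid, hcomp, hcompat, hsurj, hinj⟩ := hcolim
  -- algebra structures
  letI algGB' : ∀ j, Algebra (G j) B' := fun j =>
    ((algebraMap A' B').comp (algebraMap (G j) A')).toAlgebra
  haveI towGA'B' : ∀ j, IsScalarTower (G j) A' B' := fun j =>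
    IsScalarTower.of_algebraMap_eq fun _ => rfl
  haveI towAGB' : ∀ j, IsScalarTower A (G j) B' := fun j =>
    IsScalarTower.of_algebraMap_eq fun a => by
      rw [IsScalarTower.algebraMap_apply A A' B', IsScalarTower.algebraMap_apply A (G j) A',
        ← IsScalarTower.algebraMap_apply (G j) A' B']
  let φ : ∀ j, G j ⊗[A] B →ₐ[A] B' := fun j =>
    Algebra.TensorProduct.productMap (IsScalarTower.toAlgHom A (G j) B')
      (IsScalarTower.toAlgHom A B B')
  have hφl : ∀ j (x : G j), φ j (x ⊗ₜ 1) = algebraMap A' B' (algebraMap (G j) A' x) := by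
    intro j x
    simp [φ]
    rfl
  have hφr : ∀ j (b : B), φ j (1 ⊗ₜ b) = algebraMap B B' b := by
    intro j b
    simp [φ]
  let τ : ∀ i j, i ≤ j → G i ⊗[A] B →ₐ[A] G j ⊗[A] B := fun i j h =>
    Algebra.TensorProduct.map (g i j h) (AlgHom.id A B)
  have hcompat' : ∀ i j (h : i ≤ j) (x : G i), algebraMap (G j) A' (g i j h x) =
      algebraMap (G i) A' x := fun i j h x => RingHom.congr_fun (hcompat i j h) x
  have hφτ : ∀ i j (h : i ≤ j) (y : G i ⊗[A] B), φ j (τ i j h y) = φ i y := by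
    intro i j h y
    have : (φ j).comp (τ i j h) = φ i := by
      apply Algebra.TensorProduct.ext'
      intro x b
      simp [φ, τ, IsScalarTower.algebraMap_apply (G j) A' B', hcompat',
        IsScalarTower.algebraMap_apply (G i) A' B']
    exact DFunLike.congr_fun this y
  -- the ideals at each stage
  let tt : ∀ j, Ideal (G j) := fun j => t.comap (algebraMap (G j) A')
  let T : ∀ j, Ideal (G j ⊗[A] B) := fun j => (tt j).map (algebraMap (G j) (G j ⊗[A] B))
  have hτT : ∀ i j (h : i ≤ j) (y : G i ⊗[A] B), y ∈ T i → τ i j h y ∈ T j := by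
    intro i j h y hy
    have hle : T i ≤ (T j).comap (τ i j h).toRingHom := by
      rw [Ideal.map_le_iff_le_comap]
      intro x hx
      rw [Ideal.mem_comap, Ideal.mem_comap]
      have e1 : (τ i j h).toRingHom (algebraMap (G i) (G i ⊗[A] B) x) =
          algebraMap (G j) (G j ⊗[A] B) (g i j h x) := by
        simp [τ, Algebra.TensorProduct.algebraMap_apply]
      rw [e1]
      apply Ideal.mem_map_of_mem
      change algebraMap (G j) A' (g i j h x) ∈ t
      rw [hcompat']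
      exact hx
    exact hle hy
  -- W1: an element outside `t` whose image lies in `tB' + P`
  have hW1 : ∃ s : A', s ∉ t ∧ algebraMap A' B' s ∈ t.map (algebraMap A' B') ⊔ P := by
    by_contra hcon0
    have hcon : ∀ s : A', s ∉ t → algebraMap A' B' s ∉ t.map (algebraMap A' B') ⊔ P :=
      fun s hs hmem => hcon0 ⟨s, hs, hmem⟩
    have hdisj : Disjoint ((t.map (algebraMap A' B') ⊔ P : Ideal B') : Set B')
        ((t.primeCompl.map (algebraMap A' B') : Submonoid B') : Set B') := by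
      rw [Set.disjoint_left]
      rintro x hx ⟨s, hs, rfl⟩
      exact hcon s hs hx
    obtain ⟨Q, hQp, hQle, hQd⟩ := Ideal.exists_le_prime_disjoint _ _ hdisj
    haveI := hQp
    refine hcl Q (le_sup_right.trans hQle) ⟨?_⟩
    apply le_antisymm
    · exact Ideal.map_le_iff_le_comap.mp (le_sup_left.trans hQle)
    · intro a ha
      by_contra hat
      exact Set.disjoint_left.mp hQd (Ideal.mem_comap.mp ha) ⟨a, hat, rfl⟩
  -- W3: every element of `B'` comes from a stage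
  have hW3 : ∀ b' : B', ∃ j, ∃ y : G j ⊗[A] B, φ j y = b' := by
    intro b'
    refine hpo.out.inductionOn b' _ ?_ ?_ ?_ ?_
    · exact ⟨hne.some, 0, map_zero _⟩
    · intro a'
      obtain ⟨j, x, rfl⟩ := hsurj a'
      exact ⟨j, x ⊗ₜ 1, hφl j x⟩
    · rintro b x ⟨j, y, rfl⟩
      refine ⟨j, (1 ⊗ₜ b) * y, ?_⟩
      rw [map_mul, hφr, Algebra.smul_def]
    · rintro x₁ x₂ ⟨j₁, y₁, rfl⟩ ⟨j₂, y₂, rfl⟩
      obtain ⟨k, hk₁, hk₂⟩ := hdir.directed j₁ j₂
      exact ⟨k, τ j₁ k hk₁ y₁ + τ j₂ k hk₂ y₂, by rw [map_add, hφτ, hφτ]⟩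
  -- W2: every element of `tB'` comes from `T j` at some stage
  have hW2 : ∀ x ∈ t.map (algebraMap A' B'), ∃ j, ∃ y ∈ T j, φ j y = x := by
    intro x hx
    refine Submodule.span_induction ?_ ?_ ?_ ?_ hx
    · rintro _ ⟨a, ha, rfl⟩
      obtain ⟨j, xj, rfl⟩ := hsurj a
      exact ⟨j, algebraMap (G j) (G j ⊗[A] B) xj, Ideal.mem_map_of_mem _ ha, hφl j xj⟩
    · exact ⟨hne.some, 0, Ideal.zero_mem _, map_zero _⟩
    · rintro x₁ x₂ _ _ ⟨j₁, y₁, hy₁, rfl⟩ ⟨j₂, y₂, hy₂, rfl⟩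
      obtain ⟨k, hk₁, hk₂⟩ := hdir.directed j₁ j₂
      exact ⟨k, τ j₁ k hk₁ y₁ + τ j₂ k hk₂ y₂,
        Ideal.add_mem _ (hτT _ _ _ _ hy₁) (hτT _ _ _ _ hy₂), by rw [map_add, hφτ, hφτ]⟩
    · rintro b' x _ ⟨j₁, y₁, hy₁, rfl⟩
      obtain ⟨j₂, y₂, rfl⟩ := hW3 b'
      obtain ⟨k, hk₁, hk₂⟩ := hdir.directed j₁ j₂
      refine ⟨k, τ j₂ k hk₂ y₂ * τ j₁ k hk₁ y₁, Ideal.mul_mem_left _ _ (hτT _ _ _ _ hy₁), ?_⟩
      rw [map_mul, hφτ, hφτ, smul_eq_mul]
  -- W4: the witness at a single stage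
  have hW4 : ∃ j, ∃ (s : G j) (y π : G j ⊗[A] B), s ∉ tt j ∧ y ∈ T j ∧ φ j π ∈ P ∧
      algebraMap (G j) (G j ⊗[A] B) s = y + π := by
    obtain ⟨s, hst, hs⟩ := hW1
    obtain ⟨x, hx, π', hπ', hsum⟩ := Submodule.mem_sup.mp hs
    obtain ⟨j₁, y₁, hy₁, hy₁x⟩ := hW2 x hx
    obtain ⟨j₂, s₂, hs₂⟩ := hsurj s
    obtain ⟨k, hk₁, hk₂⟩ := hdir.directed j₁ j₂
    refine ⟨k, g j₂ k hk₂ s₂, τ j₁ k hk₁ y₁,
      algebraMap (G k) (G k ⊗[A] B) (g j₂ k hk₂ s₂) - τ j₁ k hk₁ y₁, ?_, hτT _ _ _ _ hy₁, ?_, ?_⟩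
    · change algebraMap (G k) A' (g j₂ k hk₂ s₂) ∉ t
      rw [hcompat', hs₂]
      exact hst
    · rw [map_sub, hφτ, hy₁x]
      have e1 : φ k (algebraMap (G k) (G k ⊗[A] B) (g j₂ k hk₂ s₂)) = algebraMap A' B' s := by
        rw [Algebra.TensorProduct.algebraMap_apply, Algebra.algebraMap_self, RingHom.id_apply, hφl,
          hcompat', hs₂]
      rw [e1, ← hsum, add_sub_cancel_left]
      exact hπ'
    · ring
  obtain ⟨j, s, y, π, hs, hy, hπ, hsum⟩ := hW4
  -- Step D: the impurity at stage `j`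
  letI algBjB' : Algebra (G j ⊗[A] B) B' := (φ j).toRingHom.toAlgebra
  have hφ_def : ∀ x, algebraMap (G j ⊗[A] B) B' x = φ j x := fun _ => rfl
  haveI : IsScalarTower (G j) (G j ⊗[A] B) B' := IsScalarTower.of_algebraMap_eq fun x => by
    rw [hφ_def, Algebra.TensorProduct.algebraMap_apply, Algebra.algebraMap_self, RingHom.id_apply,
      hφl]
    rfl
  haveI : IsScalarTower B (G j ⊗[A] B) B' := IsScalarTower.of_algebraMap_eq fun b => by
    rw [hφ_def, Algebra.TensorProduct.right_algebraMap_apply, hφr]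
  haveI : IsScalarTower A (G j ⊗[A] B) B' :=
    IsScalarTower.of_algebraMap_eq fun a => ((φ j).commutes a).symm
  haveI hpoS : Algebra.IsPushout A A' B B' := hpo.symm
  have hpj : Algebra.IsPushout (G j) A' (G j ⊗[A] B) B' :=
    (Algebra.IsPushout.comp_iff A (G j) B (S' := G j ⊗[A] B) (T := A') (T' := B')).mp inferInstance
  have hpoj : Algebra.IsPushout (G j) (G j ⊗[A] B) A' B' := hpj.symm
  -- modules
  letI modBjN' : Module (G j ⊗[A] B) N' := Module.compHom N' (algebraMap (G j ⊗[A] B) B')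
  haveI : IsScalarTower (G j ⊗[A] B) B' N' := IsScalarTower.of_algebraMap_smul fun _ _ => rfl
  haveI : IsScalarTower B (G j ⊗[A] B) N' := IsScalarTower.of_algebraMap_smul fun b x => by
    rw [← algebraMap_smul B' (algebraMap B (G j ⊗[A] B) b) x,
      ← IsScalarTower.algebraMap_apply B (G j ⊗[A] B) B', algebraMap_smul]
  have hmk : IsBaseChange (G j ⊗[A] B) (TensorProduct.mk B (G j ⊗[A] B) N 1) :=
    TensorProduct.isBaseChange B N (G j ⊗[A] B)
  let fj : (G j ⊗[A] B) ⊗[B] N →ₗ[G j ⊗[A] B] N' := hmk.lift f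
  have hfj : IsBaseChange B' fj := by
    refine IsBaseChange.of_comp hmk ?_
    have : (fj.restrictScalars B).comp (TensorProduct.mk B (G j ⊗[A] B) N 1) = f :=
      hmk.lift_comp f
    rw [this]
    exact hf
  haveI htjt' : t'.LiesOver (t'.comap (algebraMap (G j) A')) := ⟨rfl⟩
  obtain ⟨hd1, hd2⟩ := liesOver_ass_descend (G j ⊗[A] B) B' hpoj ((G j ⊗[A] B) ⊗[B] N) N' fj hfj
    (t'.comap (algebraMap (G j) A')) t' P hPt hass
  -- closure condition at stage `j`
  have hd3 : ∀ (Q' : Ideal (G j ⊗[A] B)) [Q'.IsPrime],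
      P.comap (algebraMap (G j ⊗[A] B) B') ≤ Q' → ¬ Q'.LiesOver (tt j) := by
    intro Q' hQ' hle hQ't
    apply hs
    rw [hQ't.over]
    change algebraMap (G j) (G j ⊗[A] B) s ∈ Q'
    rw [hsum]
    refine Ideal.add_mem _ ?_ (hle hπ)
    have hTle : T j ≤ Q' := by
      rw [Ideal.map_le_iff_le_comap]
      exact hQ't.over.le
    exact hTle hy
  have htjp : (tt j).LiesOver p := ⟨by
    have e1 : (tt j).under A = t.under A := by
      ext a
      simp only [tt, Ideal.under, Ideal.mem_comap, ← IsScalarTower.algebraMap_apply]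
    rw [e1]
    exact htp.over⟩
  refine ⟨j, G j, G j ⊗[A] B, (G j ⊗[A] B) ⊗[B] N, inferInstance, inferInstance, inferInstance,
    inferInstance, inferInstance, inferInstance, inferInstance, inferInstance, inferInstance,
    inferInstance, inferInstance, inferInstance, inferInstance, inferInstance,
    TensorProduct.mk B (G j ⊗[A] B) N 1, t'.comap (algebraMap (G j) A'), tt j,
    inferInstance, inferInstance, P.comap (algebraMap (G j ⊗[A] B) B'), inferInstance,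
    ⟨inferInstance, hmk, Ideal.comap_mono htt, htjp, hd1, hd2, hd3⟩, AlgEquiv.refl, ?_⟩
  change (tt j).map (RingHom.id (G j)) = tt j
  exact Ideal.map_id _

end Stage

end Groth.Agent.Lib.Helper95.PureColim
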