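import Mathlib
import Groth.Prelude.Def_FlatCA
import Groth.Agent.Lib.Helper8.QuotColim
import Groth.Agent.Lib.Helper95.PureColim

/-!
Helper library for S1245: an impurity can be found over a finitely presented base, based at a point
closed in its fibre.
-/

set_option autoImplicit false
set_option linter.style.haveILetI false
universe u

namespace Groth.Agent.Lib.Helper95.PureFP

open TensorProduct

section Mono

variable {A B : Type u} [CommRing A] [CommRing B] [Algebra A B]
  (N : Type u) [AddCommGroup N] [Module B N] (p : Ideal A) [p.IsPrime]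

theorem hasImpurity_mono {Q Q' : ∀ (A' : Type u) [CommRing A'] [Algebra A A'], Ideal A' → Prop}
    (hQ : ∀ (A' : Type u) [CommRing A'] [Algebra A A'] (t : Ideal A'), Q A' t → Q' A' t)
    (h : FlatCA.HasImpurity A B N p Q) : FlatCA.HasImpurity A B N p Q' := by
  obtain ⟨A', B', N', i1, i2, i3, i4, i5, i6, i7, i8, i9, i10, i11, i12, i13, i14, f, t', t, i15,
    i16, P, i17, himp, hq⟩ := h
  exact ⟨A', B', N', i1, i2, i3, i4, i5, i6, i7, i8, i9, i10, i11, i12, i13, i14, f, t', t, i15,
    i16, P, i17, himp, hQ A' t hq⟩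

end Mono

section FT

variable {A B : Type u} [CommRing A] [CommRing B] [Algebra A B] [Algebra.FiniteType A B]
  (N : Type u) [AddCommGroup N] [Module B N] (p : Ideal A) [p.IsPrime]

/-- An impurity can be found over a base of finite type. -/
theorem exists_impurity_finiteType (h : FlatCA.HasImpurity A B N p (fun _ _ _ _ => True)) :
    FlatCA.HasImpurity A B N p (fun A' _ _ _ => Algebra.FiniteType A A') := by
  obtain ⟨A', B', N', _, _, _, _, _, _, _, _, _, _, _, _, _, _, f, t', t, _, _, P, _, himp, -⟩ := h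
  have hcolim : FlatCA.IsDirectedColimitRing (fun S : {S : Subalgebra A A' // S.FG} => S.1)
      (fun i j h => (Subalgebra.inclusion (R := A) (S := i.1) (T := j.1) h).toRingHom) A' := by
    refine ⟨⟨fun S T => ⟨⟨S.1 ⊔ T.1, S.2.sup T.2⟩, (le_sup_left : S.1 ≤ S.1 ⊔ T.1),
      (le_sup_right : T.1 ≤ S.1 ⊔ T.1)⟩⟩,
      ⟨⟨⊥, Subalgebra.fg_bot⟩⟩, ?_, ?_, ?_, ?_, ?_⟩
    · intro i
      ext x
      rfl
    · intro i j k hij hjk
      ext x
      rfl
    · intro i j h
      ext x
      rfl
    · intro a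
      exact ⟨⟨Algebra.adjoin A {a}, Subalgebra.fg_adjoin_finset {a} |> fun h => by
        simpa using h⟩, ⟨a, Algebra.subset_adjoin rfl⟩, rfl⟩
    · intro i x hx
      refine ⟨i, le_rfl, ?_⟩
      have : x = 0 := Subtype.ext hx
      rw [this, map_zero]
  obtain ⟨i, hi⟩ := PureColim.exists_impurity_stage N p
    (fun S : {S : Subalgebra A A' // S.FG} => S.1)
    (fun i j h => Subalgebra.inclusion (R := A) (S := i.1) (T := j.1) h) A' hcolim B' N' f t' t P
    himp
  refine hasImpurity_mono N p ?_ hi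
  rintro A'' _ _ t'' ⟨e, -⟩
  haveI : Algebra.FiniteType A i.1 := (Subalgebra.fg_iff_finiteType i.1).mp i.2
  exact Algebra.FiniteType.equiv inferInstance e.symm

end FT

section FP

open Groth.Agent.Lib.Helper8

variable {A B : Type u} [CommRing A] [CommRing B] [Algebra A B] [Algebra.FiniteType A B]
  (N : Type u) [AddCommGroup N] [Module B N] (p : Ideal A) [p.IsPrime]

/-- An impurity can be found over a base of finite presentation. -/
theorem exists_impurity_finitePresentation
    (h : FlatCA.HasImpurity A B N p (fun A' _ _ _ => Algebra.FiniteType A A')) :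
    FlatCA.HasImpurity A B N p (fun A' _ _ _ => Algebra.FinitePresentation A A') := by
  classical
  obtain ⟨A', B', N', _, _, _, _, _, _, _, _, _, _, _, _, _, _, f, t', t, _, _, P, _, himp, hft⟩ := h
  obtain ⟨n, π, hπ⟩ := Algebra.FiniteType.iff_quotient_mvPolynomial''.mp hft
  letI algPA' : Algebra (MvPolynomial (Fin n) A) A' := π.toRingHom.toAlgebra
  haveI : IsScalarTower A (MvPolynomial (Fin n) A) A' :=
    IsScalarTower.of_algebraMap_eq fun a => (π.commutes a).symm
  let 𝔞 : Finset (RingHom.ker (algebraMap (MvPolynomial (Fin n) A) A')) →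
      Ideal (MvPolynomial (Fin n) A) := fun F =>
    Ideal.span (Subtype.val '' (F : Set (RingHom.ker (algebraMap (MvPolynomial (Fin n) A) A'))))
  have hmono : Monotone 𝔞 := fun F F' hFF' =>
    Ideal.span_mono (Set.image_mono (Finset.coe_subset.mpr hFF'))
  have hle : ∀ F, 𝔞 F ≤ RingHom.ker (algebraMap (MvPolynomial (Fin n) A) A') := by
    intro F
    refine Ideal.span_le.mpr ?_
    rintro _ ⟨x, -, rfl⟩
    exact x.2
  have hker : RingHom.ker (algebraMap (MvPolynomial (Fin n) A) A') = ⨆ F, 𝔞 F := by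
    apply le_antisymm
    · intro x hx
      refine Ideal.mem_iSup_of_mem {⟨x, hx⟩} ?_
      exact Ideal.subset_span ⟨⟨x, hx⟩, by simp, rfl⟩
    · exact iSup_le hle
  have hfg : ∀ F, (𝔞 F).FG := fun F => Submodule.fg_span ((Finset.finite_toSet F).image _)
  letI algGA' := QuotColim.algA 𝔞 A' hle
  haveI towPGA' := QuotColim.tower 𝔞 A' hle
  haveI : ∀ F, IsScalarTower A (QuotColim.G 𝔞 F) A' := fun F =>
    IsScalarTower.of_algebraMap_eq (R := A) (S := QuotColim.G 𝔞 F) (A := A') fun a => by
      rw [IsScalarTower.algebraMap_apply A (MvPolynomial (Fin n) A) A']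
      rfl
  have hcolim := QuotColim.isDirectedColimit 𝔞 A' hmono hπ hker hle
  obtain ⟨i, hi⟩ := PureColim.exists_impurity_stage N p (QuotColim.G 𝔞)
    (fun i j h => (QuotColim.g 𝔞 hmono i j h).restrictScalars A) A' hcolim B' N' f t' t P himp
  refine hasImpurity_mono N p ?_ hi
  rintro A'' _ _ t'' ⟨e, -⟩
  haveI : Algebra.FinitePresentation A (QuotColim.G 𝔞 i) :=
    Algebra.FinitePresentation.quotient (hfg i)
  exact Algebra.FinitePresentation.equiv e.symm

end FP

section Closed

variable {A : Type u} [CommRing A] (p : Ideal A) [p.IsPrime] (A' : Type u) [CommRing A']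
  [Algebra A A'] [Algebra.FiniteType A A']

/-- In a fibre of finite type, a point specialises to a closed point of the fibre avoiding a given
element. -/
theorem exists_closed_point (t : Ideal A') [ht : t.IsPrime] [hlo : t.LiesOver p] (s : A')
    (hs : s ∉ t) :
    ∃ (t₂ : Ideal A') (_ : t₂.IsPrime) (_ : t₂.LiesOver p), t ≤ t₂ ∧ s ∉ t₂ ∧
      (FlatCA.fiberIdeal p t₂).IsMaximal := by
  haveI : IsJacobsonRing (p.Fiber A') :=
    isJacobsonRing_of_finiteType (A := p.ResidueField) (B := p.Fiber A')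
  let e := PrimeSpectrum.primesOverOrderIsoFiber A A' p
  let Q' : p.primesOver A' := ⟨t, ht, hlo⟩
  have h1 : ((e.symm (e Q') : p.primesOver A') : Ideal A') = t := by rw [e.symm_apply_apply]
  rw [PrimeSpectrum.coe_primesOverOrderIsoFiber_symm_apply] at h1
  have hrad : (e Q').asIdeal.IsRadical := (e Q').isPrime.isRadical
  have hjac := IsJacobsonRing.out (inferInstance : IsJacobsonRing (p.Fiber A')) hrad
  have hs1 : (1 : p.ResidueField) ⊗ₜ[A] s ∉ (e Q').asIdeal := by
    intro hmem
    apply hs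
    rw [← h1]
    exact Ideal.mem_comap.mpr hmem
  rw [← hjac, Ideal.jacobson, Ideal.mem_sInf] at hs1
  simp only [Set.mem_ofPred_eq, not_forall] at hs1
  obtain ⟨J, ⟨hJle, hJmax⟩, hsJ⟩ := hs1
  haveI := hJmax
  haveI hJp : J.IsPrime := hJmax.isPrime
  let incl : A' →+* p.Fiber A' := (Algebra.TensorProduct.includeRight (R := A)
    (A := p.ResidueField) (B := A')).toRingHom
  refine ⟨J.comap incl, Ideal.comap_isPrime incl J,
    PurePullback.liesOver_comap_includeRight p A' J, ?_, ?_, ?_⟩
  · rw [← h1]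
    exact Ideal.comap_mono hJle
  · intro hmem
    have h2 : incl s ∈ J := Ideal.mem_comap.mp hmem
    have h3 : incl s = (1 : p.ResidueField) ⊗ₜ[A] s := rfl
    rw [h3] at h2
    exact hsJ h2
  · rw [PurePullback.fiberIdeal_comap_includeRight p A' J]
    exact hJmax

end Closed

section ClosedImp

variable {A B : Type u} [CommRing A] [CommRing B] [Algebra A B]
  (N : Type u) [AddCommGroup N] [Module B N] (p : Ideal A) [p.IsPrime]

/-- An impurity over a base of finite type can be based at a closed point of the fibre. -/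
theorem exists_impurity_closedPoint
    {Q : ∀ (A' : Type u) [CommRing A'] [Algebra A A'], Prop}
    (hQ : ∀ (A' : Type u) [CommRing A'] [Algebra A A'], Q A' → Algebra.FiniteType A A')
    (h : FlatCA.HasImpurity A B N p (fun A' _ _ _ => Q A')) :
    FlatCA.HasImpurity A B N p
      (fun A' _ _ t => Q A' ∧ (FlatCA.fiberIdeal p t).IsMaximal) := by
  obtain ⟨A', B', N', i1, i2, i3, i4, i5, i6, i7, i8, i9, i10, i11, i12, i13, i14, f, t', t, i15,
    i16, P, i17, himp, hq⟩ := h
  obtain ⟨hpo, hbc, hle, hlo, hPlo, hass, hcl⟩ := himp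
  haveI := hQ A' hq
  haveI := hlo
  -- an element outside `t` whose image lies in `tB' + P`
  have hW1 : ∃ s : A', s ∉ t ∧ algebraMap A' B' s ∈ t.map (algebraMap A' B') ⊔ P := by
    by_contra hcon0
    have hcon : ∀ s : A', s ∉ t → algebraMap A' B' s ∉ t.map (algebraMap A' B') ⊔ P :=
      fun s hs hmem => hcon0 ⟨s, hs, hmem⟩
    have hdisj : Disjoint ((t.map (algebraMap A' B') ⊔ P : Ideal B') : Set B')
        ((t.primeCompl.map (algebraMap A' B') : Submonoid B') : Set B') := by
      rw [Set.disjoint_left]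
      rintro x hx ⟨s, hs, rfl⟩
      exact hcon s hs hx
    obtain ⟨Q, hQp, hQle, hQd⟩ := Ideal.exists_le_prime_disjoint _ _ hdisj
    haveI := hQp
    refine hcl Q (le_sup_right.trans hQle) ⟨?_⟩
    apply le_antisymm
    · exact Ideal.map_le_iff_le_comap.mp (le_sup_left.trans hQle)
    · intro a ha
      by_contra hat
      exact Set.disjoint_left.mp hQd (Ideal.mem_comap.mp ha) ⟨a, hat, rfl⟩
  obtain ⟨s, hst, hs⟩ := hW1
  obtain ⟨t₂, ht₂p, ht₂lo, htt₂, hst₂, hmax⟩ := exists_closed_point p A' t s hst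
  refine ⟨A', B', N', i1, i2, i3, i4, i5, i6, i7, i8, i9, i10, i11, i12, i13, i14, f, t', t₂, i15,
    ht₂p, P, i17, ⟨hpo, hbc, hle.trans htt₂, ht₂lo, hPlo, hass, ?_⟩, hq, hmax⟩
  intro P' _ hPP' hlo'
  apply hst₂
  rw [hlo'.over]
  refine Ideal.mem_comap.mpr ?_
  have hsup : t.map (algebraMap A' B') ⊔ P ≤ P' := by
    refine sup_le ?_ hPP'
    rw [Ideal.map_le_iff_le_comap]
    refine htt₂.trans ?_
    rw [hlo'.over]
  exact hsup hs

end ClosedImp

end Groth.Agent.Lib.Helper95.PureFP
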