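import Mathlib
import Groth.Prelude.Def_FlatCA
import Groth.Agent.Lib.Helper95.HSplit
import Groth.Agent.Lib.Helper95.PureFinA

/-!
Helper library for S1222, part B: over a henselian local base without impurities based at the closed
point, a quasi-finite support is finite.
-/

set_option autoImplicit false
set_option linter.style.haveILetI false
universe u

namespace Groth.Agent.Lib.Helper95.PureFinB

open TensorProduct IsLocalRing

section Hens

attribute [local instance] Algebra.TensorProduct.rightAlgebra

variable {A B : Type u} [CommRing A] [CommRing B] [Algebra A B] [Algebra.FiniteType A B]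
  (N : Type u) [AddCommGroup N] [Module B N] [Module.Finite B N] (p : Ideal A) [p.IsPrime]
  [Algebra.QuasiFinite A (B ⧸ Module.annihilator B N)]
  (H : Type u) [CommRing H] [HenselianLocalRing H] [Algebra A H]

theorem finite_tensor_of_no_impurity (hmp : (maximalIdeal H).LiesOver p)
    (hno : ∀ (t' : Ideal H) [t'.IsPrime] (P : Ideal (H ⊗[A] B)) [P.IsPrime],
      ¬ FlatCA.IsImpurity A B N p H (H ⊗[A] B) ((H ⊗[A] B) ⊗[B] N)
        (TensorProduct.mk B (H ⊗[A] B) N 1) t' (maximalIdeal H) P) :
    Module.Finite H (H ⊗[A] (B ⧸ Module.annihilator B N)) := by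
  classical
  obtain ⟨e, he, hfin, hsplit⟩ := Groth.Agent.Lib.Helper95.HSplit.exists_idempotent_split H
    (H ⊗[A] (B ⧸ Module.annihilator B N))
  by_cases h1 : e = 1
  · have hI : Ideal.span ({1 - e} : Set (H ⊗[A] (B ⧸ Module.annihilator B N))) = ⊥ := by
      rw [h1, sub_self, Ideal.span_singleton_eq_bot]
    let φ : (H ⊗[A] (B ⧸ Module.annihilator B N)) →ₗ[H]
        (H ⊗[A] (B ⧸ Module.annihilator B N)) ⧸
          Ideal.span ({1 - e} : Set (H ⊗[A] (B ⧸ Module.annihilator B N))) :=
      (Ideal.Quotient.mkₐ H _).toLinearMap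
    have hφ : Function.Bijective φ := by
      constructor
      · rw [injective_iff_map_eq_zero]
        intro x hx
        have h2 : x ∈ Ideal.span ({1 - e} : Set (H ⊗[A] (B ⧸ Module.annihilator B N))) :=
          Ideal.Quotient.eq_zero_iff_mem.mp hx
        rw [hI] at h2
        exact (Submodule.mem_bot _).mp h2
      · exact Ideal.Quotient.mk_surjective
    haveI := hfin
    exact Module.Finite.equiv (LinearEquiv.ofBijective φ hφ).symm
  · exfalso
    have hne : Ideal.span ({e} : Set (H ⊗[A] (B ⧸ Module.annihilator B N))) ≠ ⊤ := by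
      intro htop
      have hu : IsUnit e := Ideal.span_singleton_eq_top.mp htop
      apply h1
      have h2 := he.eq
      exact hu.mul_left_cancel (by rw [h2, mul_one])
    obtain ⟨M, hMmax, hMle⟩ := Ideal.exists_le_maximal _ hne
    haveI hMp : M.IsPrime := hMmax.isPrime
    have heM : e ∈ M := hMle (Ideal.mem_span_singleton_self e)
    let ψ : H ⊗[A] B →ₐ[H] H ⊗[A] (B ⧸ Module.annihilator B N) :=
      Algebra.TensorProduct.map (AlgHom.id H H) (Ideal.Quotient.mkₐ A (Module.annihilator B N))
    have hψ : Function.Surjective ψ := by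
      intro x
      induction x using TensorProduct.induction_on with
      | zero => exact ⟨0, map_zero _⟩
      | tmul h c =>
        obtain ⟨b, rfl⟩ := Ideal.Quotient.mk_surjective c
        exact ⟨h ⊗ₜ b, by simp [ψ]⟩
      | add x y hx hy =>
        obtain ⟨x', rfl⟩ := hx
        obtain ⟨y', rfl⟩ := hy
        exact ⟨x' + y', map_add _ _ _⟩
    let w : Ideal (H ⊗[A] B) := M.comap ψ.toRingHom
    haveI hwp : w.IsPrime := Ideal.comap_isPrime _ _
    let t' : Ideal H := w.comap (algebraMap H (H ⊗[A] B))
    haveI ht'p : t'.IsPrime := Ideal.comap_isPrime _ _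
    haveI hwt' : w.LiesOver t' := ⟨rfl⟩
    -- the annihilator of the base change is contained in `w`
    have hann : Module.annihilator (H ⊗[A] B) ((H ⊗[A] B) ⊗[B] N) ≤ w := by
      refine PureFinA.annihilator_baseChange_le (S := B) (S' := H ⊗[A] B) N w ?_
      intro y hy
      change ψ (algebraMap B (H ⊗[A] B) y) ∈ M
      have : ψ (algebraMap B (H ⊗[A] B) y) = 0 := by
        rw [Algebra.TensorProduct.right_algebraMap_apply]
        simp only [ψ, Algebra.TensorProduct.map_tmul, Ideal.Quotient.mkₐ_eq_mk]
        rw [Ideal.Quotient.eq_zero_iff_mem.mpr hy, TensorProduct.tmul_zero]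
      rw [this]
      exact Ideal.zero_mem _
    -- quasi-finiteness of the support of the base change
    let J := Module.annihilator (H ⊗[A] B) ((H ⊗[A] B) ⊗[B] N)
    have hker : ∀ y ∈ Module.annihilator B N,
        ((Ideal.Quotient.mkₐ A J).comp
          (Algebra.TensorProduct.includeRight : B →ₐ[A] H ⊗[A] B)) y = 0 := by
      intro y hy
      have := PureFinA.algebraMap_mem_annihilator_baseChange (S := B) (S' := H ⊗[A] B) N hy
      exact Ideal.Quotient.eq_zero_iff_mem.mpr this
    let χ : H ⊗[A] (B ⧸ Module.annihilator B N) →ₐ[H] (H ⊗[A] B) ⧸ J :=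
      Algebra.TensorProduct.lift (Algebra.ofId H _)
        (Ideal.Quotient.liftₐ (Module.annihilator B N)
          ((Ideal.Quotient.mkₐ A J).comp
            (Algebra.TensorProduct.includeRight : B →ₐ[A] H ⊗[A] B)) hker)
        (fun _ _ => Commute.all _ _)
    have hχψ : ∀ x, χ (ψ x) = Ideal.Quotient.mk J x := by
      intro x
      induction x using TensorProduct.induction_on with
      | zero => simp
      | tmul h b =>
        simp only [ψ, χ, Algebra.TensorProduct.map_tmul, AlgHom.coe_id, id_eq,
          Ideal.Quotient.mkₐ_eq_mk, Algebra.TensorProduct.lift_tmul, Ideal.Quotient.liftₐ_apply]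
        change algebraMap H ((H ⊗[A] B) ⧸ J) h *
          Ideal.Quotient.mk J ((1 : H) ⊗ₜ[A] b) = Ideal.Quotient.mk J (h ⊗ₜ[A] b)
        rw [IsScalarTower.algebraMap_apply H (H ⊗[A] B) ((H ⊗[A] B) ⧸ J),
          Ideal.Quotient.algebraMap_eq, ← map_mul, Algebra.TensorProduct.algebraMap_apply,
          Algebra.TensorProduct.tmul_mul_tmul, mul_one, one_mul]
        rfl
      | add x y hx hy => rw [map_add, map_add, hx, hy, map_add]
    have hχ : Function.Surjective χ := by
      intro z
      obtain ⟨x, rfl⟩ := Ideal.Quotient.mk_surjective z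
      exact ⟨ψ x, hχψ x⟩
    haveI : Algebra.QuasiFinite H ((H ⊗[A] B) ⧸ J) := Algebra.QuasiFinite.of_surjective_algHom χ hχ
    apply hno t' w
    refine ⟨inferInstance, TensorProduct.isBaseChange B N (H ⊗[A] B),
      IsLocalRing.le_maximalIdeal ht'p.ne_top, hmp, hwt', ?_, ?_⟩
    · exact PureFinA.fiberIdeal_mem_associatedPrimes (R := H) (S := H ⊗[A] B)
        ((H ⊗[A] B) ⊗[B] N) t' w hann
    · intro P' hP'p hwP' hlo'
      haveI := hP'p
      have hkerle : RingHom.ker ψ.toRingHom ≤ P' := by
        intro x hx
        apply hwP'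
        change ψ.toRingHom x ∈ M
        rw [RingHom.mem_ker.mp hx]
        exact Ideal.zero_mem _
      haveI hQp : (P'.map ψ.toRingHom).IsPrime :=
        Ideal.map_isPrime_of_surjective (f := ψ.toRingHom) hψ hkerle
      have hcomap : (P'.map ψ.toRingHom).comap ψ.toRingHom = P' := by
        rw [Ideal.comap_map_of_surjective ψ.toRingHom hψ, ← RingHom.ker_eq_comap_bot,
          sup_eq_left.mpr hkerle]
      have hMQ : M ≤ P'.map ψ.toRingHom := by
        rw [← Ideal.map_comap_of_surjective ψ.toRingHom hψ M]
        exact Ideal.map_mono hwP'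
      have hlo'' : (P'.map ψ.toRingHom).LiesOver (maximalIdeal H) := by
        refine ⟨?_⟩
        rw [hlo'.over]
        ext x
        simp only [Ideal.under, Ideal.mem_comap]
        have hx : ψ.toRingHom (algebraMap H (H ⊗[A] B) x) =
            algebraMap H (H ⊗[A] (B ⧸ Module.annihilator B N)) x := ψ.commutes x
        constructor
        · intro h
          rw [← hx]
          exact Ideal.mem_map_of_mem _ h
        · intro h
          have h6 : algebraMap H (H ⊗[A] B) x ∈ (P'.map ψ.toRingHom).comap ψ.toRingHom := by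
            rw [Ideal.mem_comap, hx]
            exact h
          rwa [hcomap] at h6
      exact hsplit (P'.map ψ.toRingHom) hlo'' inferInstance (hMQ heM)

end Hens

end Groth.Agent.Lib.Helper95.PureFinB
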