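import Mathlib

/-!
Helper library for S1222, part C: finiteness of a finite type algebra is local at primes, and descends
along faithfully flat maps.
-/

set_option autoImplicit false
set_option linter.style.haveILetI false
universe u

namespace Groth.Agent.Lib.Helper95.PureFinC

open TensorProduct

section Descent

variable {A R H C : Type u} [CommRing A] [CommRing R] [CommRing H] [CommRing C]
  [Algebra A R] [Algebra R H] [Algebra A H] [IsScalarTower A R H] [Algebra A C]

theorem finite_tensor_descend [Module.FaithfullyFlat R H] (h : Module.Finite H (H ⊗[A] C)) :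
    Module.Finite R (R ⊗[A] C) := by
  have e : H ⊗[R] (R ⊗[A] C) ≃ₗ[H] H ⊗[A] C := AlgebraTensorModule.cancelBaseChange A R H H C
  haveI : Module.Finite H (H ⊗[R] (R ⊗[A] C)) := Module.Finite.equiv e.symm
  exact Module.Finite.of_finite_tensorProduct_of_faithfullyFlat (R := R) H

end Descent

section Local

attribute [local instance] Algebra.TensorProduct.rightAlgebra

variable {A C : Type u} [CommRing A] [CommRing C] [Algebra A C] [Algebra.FiniteType A C]

omit [Algebra.FiniteType A C] in
theorem isIntegral_of_forall_finite_localization
    (h : ∀ (p : Ideal A) [p.IsPrime],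
      Module.Finite (Localization.AtPrime p) ((Localization.AtPrime p) ⊗[A] C)) (x : C) :
    IsIntegral A x := by
  let I : Ideal A :=
    { carrier := {a | IsIntegral A (a • x)}
      zero_mem' := by
        change IsIntegral A ((0 : A) • x)
        rw [zero_smul]
        exact isIntegral_zero
      add_mem' := by
        intro a b ha hb
        change IsIntegral A ((a + b) • x)
        rw [add_smul]
        exact IsIntegral.add ha hb
      smul_mem' := by
        intro r a ha
        change IsIntegral A ((r • a) • x)
        rw [smul_assoc]
        exact IsIntegral.smul r ha }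
  have htop : I = ⊤ := by
    by_contra hne
    obtain ⟨m, hm, hle⟩ := Ideal.exists_le_maximal I hne
    haveI hmp : m.IsPrime := hm.isPrime
    haveI := h m
    let Rm := Localization.AtPrime m
    have hy : IsIntegral Rm ((1 : Rm) ⊗ₜ[A] x) :=
      (Algebra.IsIntegral.of_finite Rm (Rm ⊗[A] C)).isIntegral _
    obtain ⟨s, hs⟩ := IsIntegral.exists_multiple_integral_of_isLocalization m.primeCompl
      ((1 : Rm) ⊗ₜ[A] x) hy
    have hs' : IsIntegral A (algebraMap C (Rm ⊗[A] C) ((s : A) • x)) := by
      rw [Algebra.TensorProduct.right_algebraMap_apply, ← TensorProduct.smul_tmul,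
        ← TensorProduct.smul_tmul']
      exact hs
    obtain ⟨s', hs'm, hs''⟩ := IsLocalization.exists_isIntegral_smul_of_isIntegral_map
      (R := A) (S := C) (Sₘ := Rm ⊗[A] C) m.primeCompl hs'
    have hmem : s' * (s : A) ∈ I := by
      change IsIntegral A ((s' * (s : A)) • x)
      rw [mul_smul]
      exact hs''
    exact (hmp.mul_notMem hs'm s.2) (hle hmem)
  have h1 : (1 : A) ∈ I := by rw [htop]; exact Submodule.mem_top
  have h2 : IsIntegral A ((1 : A) • x) := h1
  rwa [one_smul] at h2

theorem finite_of_forall_finite_localization
    (h : ∀ (p : Ideal A) [p.IsPrime],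
      Module.Finite (Localization.AtPrime p) ((Localization.AtPrime p) ⊗[A] C)) :
    Module.Finite A C := by
  rw [Algebra.finite_iff_isIntegral_and_finiteType]
  exact ⟨⟨isIntegral_of_forall_finite_localization h⟩, inferInstance⟩

end Local

end Groth.Agent.Lib.Helper95.PureFinC
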