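import Mathlib
import Groth.Prelude.Def_FlatCA

/-!
Helper library for S1248, part A: a local ring essentially generated by a subalgebra is the local
ring of the subalgebra at the contraction of the maximal ideal.
-/

set_option autoImplicit false
set_option linter.style.haveILetI false
universe u

namespace Groth.Agent.Lib.Helper95.PureHensA

open IsLocalRing

section FracSub

variable {A L : Type u} [CommRing A] [CommRing L] [Algebra A L] (U : Subalgebra A L)

/-- The elements of `L` which are fractions of elements of `U` with denominators units of `L`. -/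
def fracSub : Subalgebra A L where
  carrier := {x | ∃ u ∈ U, ∃ v ∈ U, IsUnit v ∧ x * v = u}
  mul_mem' := by
    rintro x y ⟨u, hu, v, hv, hvu, hx⟩ ⟨u', hu', v', hv', hvu', hy⟩
    refine ⟨u * u', U.mul_mem hu hu', v * v', U.mul_mem hv hv', hvu.mul hvu', ?_⟩
    rw [← hx, ← hy]
    ring
  add_mem' := by
    rintro x y ⟨u, hu, v, hv, hvu, hx⟩ ⟨u', hu', v', hv', hvu', hy⟩
    refine ⟨u * v' + u' * v, U.add_mem (U.mul_mem hu hv') (U.mul_mem hu' hv), v * v',
      U.mul_mem hv hv', hvu.mul hvu', ?_⟩
    rw [← hx, ← hy]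
    ring
  algebraMap_mem' r := ⟨algebraMap A L r, U.algebraMap_mem r, 1, U.one_mem, isUnit_one, mul_one _⟩

theorem mem_fracSub {x : L} : x ∈ fracSub U ↔ ∃ u ∈ U, ∃ v ∈ U, IsUnit v ∧ x * v = u := Iff.rfl

theorem le_fracSub : U ≤ fracSub U := fun x hx => ⟨x, hx, 1, U.one_mem, isUnit_one, mul_one _⟩

theorem inv_mem_fracSub {x y : L} (hx : x ∈ fracSub U) (hxy : x * y = 1) : y ∈ fracSub U := by
  obtain ⟨u, hu, v, hv, hvu, hxv⟩ := hx
  have hxu : IsUnit x := IsUnit.of_mul_eq_one y hxy
  refine ⟨v, hv, u, hu, ?_, ?_⟩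
  · rw [← hxv]
    exact hxu.mul hvu
  · rw [← hxv, ← mul_assoc, mul_comm y x, hxy, one_mul]

theorem div_mem_fracSub {x a b : L} (ha : a ∈ fracSub U) (hb : b ∈ fracSub U) (hbu : IsUnit b)
    (hx : x * b = a) : x ∈ fracSub U := by
  obtain ⟨c, hc⟩ := hbu.exists_right_inv
  have hcm : c ∈ fracSub U := inv_mem_fracSub U hb hc
  have : x = a * c := by rw [← hx, mul_assoc, hc, mul_one]
  rw [this]
  exact (fracSub U).mul_mem ha hcm

end FracSub

section Gen

variable {A R C L : Type u} [CommRing A] [CommRing R] [CommRing C] [CommRing L]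
  [Algebra A R] [Algebra R C] [Algebra C L] [Algebra A L] [Algebra R L]
  [IsScalarTower A R L] [IsScalarTower R C L]
  (p : Ideal A) [p.IsPrime] [IsLocalization.AtPrime R p]
  (q : Ideal C) [q.IsPrime] [IsLocalization.AtPrime L q]

include p q in
/-- If `L` is a local ring of an `R`-algebra `C` generated by `X`, with `R` a local ring of `A`, then
any `A`-subalgebra of `L` containing the image of `X` generates `L` by fractions. -/
theorem fracSub_eq_top (X : Set C) (hX : Algebra.adjoin R X = ⊤) (U : Subalgebra A L)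
    (hXU : ∀ x ∈ X, algebraMap C L x ∈ U) : fracSub U = ⊤ := by
  have h1 : ∀ r : R, algebraMap R L r ∈ fracSub U := by
    intro r
    obtain ⟨a, s, rfl⟩ := IsLocalization.exists_mk'_eq p.primeCompl r
    have hs : IsUnit (algebraMap A L (s : A)) := by
      rw [IsScalarTower.algebraMap_apply A R L]
      exact (IsLocalization.map_units R s).map _
    refine div_mem_fracSub U (a := algebraMap A L a) (b := algebraMap A L (s : A))
      ((fracSub U).algebraMap_mem a) ((fracSub U).algebraMap_mem _) hs ?_
    rw [IsScalarTower.algebraMap_apply A R L, IsScalarTower.algebraMap_apply A R L, ← map_mul,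
      IsLocalization.mk'_spec]
  have h2 : ∀ c : C, algebraMap C L c ∈ fracSub U := by
    intro c
    have hc : c ∈ Algebra.adjoin R X := by rw [hX]; exact Algebra.mem_top
    induction hc using Algebra.adjoin_induction with
    | mem x hx => exact le_fracSub U (hXU x hx)
    | algebraMap r =>
      rw [← IsScalarTower.algebraMap_apply R C L]
      exact h1 r
    | add x y _ _ hx hy =>
      rw [map_add]
      exact (fracSub U).add_mem hx hy
    | mul x y _ _ hx hy =>
      rw [map_mul]
      exact (fracSub U).mul_mem hx hy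
  rw [eq_top_iff]
  intro x _
  obtain ⟨c, s, rfl⟩ := IsLocalization.exists_mk'_eq q.primeCompl x
  exact div_mem_fracSub U (h2 c) (h2 (s : C)) (IsLocalization.map_units L s)
    (IsLocalization.mk'_spec L c s)

end Gen

section AtPrime

variable {A L : Type u} [CommRing A] [CommRing L] [Algebra A L] [IsLocalRing L]
  (U : Subalgebra A L)

/-- The contraction of the maximal ideal to a subalgebra. -/
abbrev contr : Ideal U := (maximalIdeal L).comap (algebraMap U L)

theorem isUnit_val_of_mem_primeCompl (y : (contr U).primeCompl) :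
    IsUnit (U.val (y : U)) := by
  have h := y.2
  by_contra hnu
  exact h (Ideal.mem_comap.mpr ((mem_maximalIdeal _).mpr hnu))

/-- The comparison map from the local ring of the subalgebra. -/
noncomputable def atPrimeHom : Localization.AtPrime (contr U) →ₐ[A] L :=
  IsLocalization.liftAlgHom (M := (contr U).primeCompl) (f := U.val)
    (isUnit_val_of_mem_primeCompl U)

theorem atPrimeHom_bijective (hU : fracSub U = ⊤) : Function.Bijective (atPrimeHom U) := by
  constructor
  · rw [injective_iff_map_eq_zero]
    intro x hx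
    obtain ⟨u, s, rfl⟩ := IsLocalization.exists_mk'_eq (contr U).primeCompl x
    have h1 : U.val u = U.val (s : U) * 0 := by
      have := (IsLocalization.lift_mk'_spec (M := (contr U).primeCompl)
        (g := (U.val : U →+* L)) (isUnit_val_of_mem_primeCompl U) u 0 s).mp hx
      exact this
    rw [mul_zero] at h1
    have hu0 : u = 0 := Subtype.ext h1
    rw [hu0, IsLocalization.mk'_zero]
  · intro x
    have hx : x ∈ fracSub U := by rw [hU]; exact Algebra.mem_top
    obtain ⟨u, hu, v, hv, hvu, hxv⟩ := hx
    have hvn : (⟨v, hv⟩ : U) ∈ (contr U).primeCompl := by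
      intro hmem
      exact (mem_maximalIdeal _).mp (Ideal.mem_comap.mp hmem) hvu
    refine ⟨IsLocalization.mk' _ (⟨u, hu⟩ : U) ⟨⟨v, hv⟩, hvn⟩, ?_⟩
    refine (IsLocalization.lift_mk'_spec (M := (contr U).primeCompl)
        (g := (U.val : U →+* L)) (isUnit_val_of_mem_primeCompl U) ⟨u, hu⟩ x ⟨⟨v, hv⟩, hvn⟩).mpr ?_
    change u = v * x
    rw [← hxv, mul_comm]

theorem quasiFiniteAt_contr [Algebra.QuasiFinite A L] (hU : fracSub U = ⊤) :
    Algebra.QuasiFiniteAt A (contr U) :=
  (Algebra.QuasiFinite.iff_of_algEquiv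
    (AlgEquiv.ofBijective (atPrimeHom U) (atPrimeHom_bijective U hU))).mpr inferInstance

end AtPrime

end Groth.Agent.Lib.Helper95.PureHensA
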