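import Mathlib
import Groth.Prelude.Def_FlatCA
import Groth.Prelude.Def_Hensel
import Groth.Agent.Lib.Helper37.Hz9
import Groth.Agent.Lib.Helper95.PureFP
import Groth.Agent.Lib.Helper95.PureHensA

/-!
Helper library for S1248, part B: an impurity over the henselization descends to an impurity over
a finite type base which is quasi-finite at the point.
-/

set_option autoImplicit false
set_option linter.style.haveILetI false
universe u

namespace Groth.Agent.Lib.Helper95.PureHensB

open IsLocalRing Groth.Agent.Lib.Helper95.PureHensA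

section Aux

variable {A S T : Type u} [CommRing A] [CommRing S] [CommRing T] [Algebra A S] [Algebra A T]

theorem eq_comap_of_map_eq (e : S ≃ₐ[A] T) {I : Ideal S} {J : Ideal T} (h : I.map e = J) :
    I = J.comap e := by
  ext x
  rw [Ideal.mem_comap, ← h]
  constructor
  · intro hx
    exact Ideal.mem_map_of_mem _ hx
  · intro hx
    obtain ⟨x', hx', hxx⟩ := (Ideal.mem_map_of_equiv e (e x)).mp hx
    rwa [← e.injective hxx]

end Aux

section Stage2

variable {A B : Type u} [CommRing A] [CommRing B] [Algebra A B] [Algebra.FiniteType A B]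
  (N : Type u) [AddCommGroup N] [Module B N] (p : Ideal A) [p.IsPrime]
  (L : Type u) [CommRing L] [Algebra A L] [IsLocalRing L] [Algebra.QuasiFinite A L]

theorem exists_impurity_qf_of_local (X₀ : Finset L)
    (hX₀ : ∀ U : Subalgebra A L, (∀ x ∈ X₀, x ∈ U) → fracSub U = ⊤)
    (h : FlatCA.HasImpurity A B N p
      (fun A'' _ _ t'' => ∃ e : A'' ≃ₐ[A] L, t''.map e = maximalIdeal L)) :
    FlatCA.HasImpurity A B N p
      (fun A' _ _ t => ∃ _ : t.IsPrime, Algebra.FiniteType A A' ∧ Algebra.QuasiFiniteAt A t) := by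
  classical
  obtain ⟨A'', B'', N'', _, _, _, _, _, _, _, _, _, _, _, _, _, _, f, t', t, _, _, P, _, himp,
    e, het⟩ := h
  let ι : Type u := {U : Subalgebra A L // U.FG ∧ ∀ x ∈ X₀, x ∈ U}
  let G : ι → Type u := fun U => U.1
  let g : ∀ i j : ι, i ≤ j → G i →ₐ[A] G j := fun i j h =>
    Subalgebra.inclusion (R := A) (S := i.1) (T := j.1) h
  letI algGA'' : ∀ i : ι, Algebra (G i) A'' := fun i =>
    ((e.symm : L →+* A'').comp (i.1.val : i.1 →+* L)).toAlgebra
  have halg : ∀ (i : ι) (x : G i), algebraMap (G i) A'' x = e.symm (x : L) := fun _ _ => rfl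
  haveI : ∀ i : ι, IsScalarTower A (G i) A'' := fun i =>
    IsScalarTower.of_algebraMap_eq (R := A) (S := G i) (A := A'') fun a => by
      rw [halg]
      exact (e.symm.commutes a).symm
  have hcolim : FlatCA.IsDirectedColimitRing G (fun i j h => (g i j h).toRingHom) A'' := by
    refine ⟨⟨fun S T => ⟨⟨S.1 ⊔ T.1, S.2.1.sup T.2.1,
      fun x hx => (le_sup_left : S.1 ≤ S.1 ⊔ T.1) (S.2.2 x hx)⟩,
      (le_sup_left : S.1 ≤ S.1 ⊔ T.1), (le_sup_right : T.1 ≤ S.1 ⊔ T.1)⟩⟩,
      ⟨⟨Algebra.adjoin A (X₀ : Set L), Subalgebra.fg_adjoin_finset X₀,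
        fun x hx => Algebra.subset_adjoin hx⟩⟩, ?_, ?_, ?_, ?_, ?_⟩
    · intro i
      ext x
      rfl
    · intro i j k hij hjk
      ext x
      rfl
    · intro i j h
      ext x
      rfl
    · intro a
      refine ⟨⟨Algebra.adjoin A ((insert (e a) X₀ : Finset L) : Set L),
        Subalgebra.fg_adjoin_finset _, fun x hx => Algebra.subset_adjoin ?_⟩,
        ⟨e a, Algebra.subset_adjoin ?_⟩, ?_⟩
      · exact Finset.mem_coe.mpr (Finset.mem_insert_of_mem hx)
      · exact Finset.mem_coe.mpr (Finset.mem_insert_self _ _)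
      · rw [halg]
        exact e.symm_apply_apply a
    · intro i x hx
      refine ⟨i, le_rfl, ?_⟩
      rw [halg] at hx
      have h0 : (x : L) = 0 := by
        have := congrArg e hx
        rwa [e.apply_symm_apply, map_zero] at this
      have : x = 0 := Subtype.ext h0
      rw [this, map_zero]
  obtain ⟨i, hi⟩ := PureColim.exists_impurity_stage N p G g A'' hcolim B'' N'' f t' t P himp
  refine PureFP.hasImpurity_mono N p ?_ hi
  rintro A₃ _ _ t₃ ⟨e₃, het₃⟩
  have hU := hX₀ i.1 i.2.2
  haveI hqf : Algebra.QuasiFiniteAt A (contr i.1) := quasiFiniteAt_contr i.1 hU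
  have ht : t = (maximalIdeal L).comap e := eq_comap_of_map_eq e het
  have hcontr : t.comap (algebraMap (G i) A'') = contr i.1 := by
    ext x
    rw [Ideal.mem_comap, halg, ht, Ideal.mem_comap, e.apply_symm_apply]
    rfl
  rw [hcontr] at het₃
  have ht₃ : t₃ = (contr i.1).comap e₃.toRingHom := eq_comap_of_map_eq e₃ het₃
  subst ht₃
  haveI : Algebra.FiniteType A i.1 := (Subalgebra.fg_iff_finiteType i.1).mp i.2.1
  exact ⟨Ideal.comap_isPrime _ _, Algebra.FiniteType.equiv inferInstance e₃.symm,
    Algebra.QuasiFiniteAt.comap_algEquiv (contr i.1) e₃⟩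

end Stage2

section Stage1

open Groth.Agent.Lib.Helper37.Hz

variable {A B : Type u} [CommRing A] [CommRing B] [Algebra A B] [Algebra.FiniteType A B]
  (N : Type u) [AddCommGroup N] [Module B N] (p : Ideal A) [p.IsPrime]

theorem exists_impurity_qf_of_henselization
    (h : FlatCA.HasImpurity A B N p (fun A' _ _ t => ∃ (_ : IsLocalRing A')
        (_ : Algebra (Localization.AtPrime p) A')
        (_ : IsScalarTower A (Localization.AtPrime p) A')
        (_ : IsLocalHom (algebraMap (Localization.AtPrime p) A')),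
        Hensel.IsHenselization (Localization.AtPrime p) A' ∧ t = maximalIdeal A')) :
    FlatCA.HasImpurity A B N p
      (fun A' _ _ t => ∃ _ : t.IsPrime, Algebra.FiniteType A A' ∧ Algebra.QuasiFiniteAt A t) := by
  classical
  obtain ⟨A', B', N', _, _, _, _, _, _, _, _, _, _, _, _, _, _, f, t', t, _, _, P, _, himp,
    _, _, _, _, hHens, htmax⟩ := h
  let R := Localization.AtPrime p
  let Ω := ResidueField R
  obtain ⟨e⟩ := nonempty_algEquiv_Hens R A'
  let G : Idx R Ω → Type u := fun i => LocPt i.θ
  letI algAG : ∀ i : Idx R Ω, Algebra A (G i) := fun i =>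
    ((algebraMap R (G i)).comp (algebraMap A R)).toAlgebra
  haveI towARG : ∀ i : Idx R Ω, IsScalarTower A R (G i) := fun i =>
    IsScalarTower.of_algebraMap_eq (R := A) (S := R) (A := G i) fun _ => rfl
  let g : ∀ i j : Idx R Ω, i ≤ j → G i →ₐ[A] G j := fun i j h =>
    (trans i j h).restrictScalars A
  letI algGA' : ∀ i : Idx R Ω, Algebra (G i) A' := fun i =>
    ((e.symm : Hens R →+* A').comp (of i : G i →+* Hens R)).toAlgebra
  have halg : ∀ (i : Idx R Ω) (x : G i), algebraMap (G i) A' x = e.symm (of i x) := fun _ _ => rfl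
  haveI : ∀ i : Idx R Ω, IsScalarTower A (G i) A' := fun i =>
    IsScalarTower.of_algebraMap_eq (R := A) (S := G i) (A := A') fun a => by
      rw [halg, IsScalarTower.algebraMap_apply A R A', IsScalarTower.algebraMap_apply A R (G i),
        (of i).commutes, e.symm.commutes]
  have hcolim : FlatCA.IsDirectedColimitRing G (fun i j h => (g i j h).toRingHom) A' := by
    refine ⟨inferInstance, inferInstance, ?_, ?_, ?_, ?_, ?_⟩
    · intro i
      ext x
      exact DirectedSystem.map_self (f := fun i j h => trans (R := R) (Ω := Ω) i j h) x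
    · intro i j k hij hjk
      ext x
      exact DirectedSystem.map_map (f := fun i j h => trans (R := R) (Ω := Ω) i j h) hij hjk x
    · intro i j h
      ext x
      change algebraMap (G j) A' (trans i j h x) = algebraMap (G i) A' x
      rw [halg, halg, of_trans]
    · intro a
      obtain ⟨i, y, hy⟩ := exists_of (e a)
      refine ⟨i, y, ?_⟩
      rw [halg, hy]
      exact e.symm_apply_apply a
    · intro i x hx
      rw [halg] at hx
      have h0 : of i x = 0 := by
        have := congrArg e hx
        rwa [e.apply_symm_apply, map_zero] at this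
      obtain ⟨k, hik, hk⟩ := (of_eq_zero_iff x).mp h0
      exact ⟨k, hik, hk⟩
  obtain ⟨i, hi⟩ := PureColim.exists_impurity_stage N p G g A' hcolim B' N' f t' t P himp
  -- the contraction of the maximal ideal
  have hcontr : t.comap (algebraMap (G i) A') = maximalIdeal (G i) := by
    ext x
    rw [Ideal.mem_comap, halg, htmax, ← of_mem_maximalIdeal_iff i x, mem_maximalIdeal,
      mem_maximalIdeal, mem_nonunits_iff, mem_nonunits_iff]
    constructor
    · intro hnu hu
      exact hnu (hu.map e.symm)
    · intro hnu hu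
      apply hnu
      have := hu.map e
      rwa [e.apply_symm_apply] at this
  rw [hcontr] at hi
  -- the local ring `G i` is quasi-finite over `A`
  haveI : Algebra.QuasiFinite A R := inferInstance
  haveI : Algebra.QuasiFinite R (G i) := inferInstance
  haveI : Algebra.QuasiFinite A (G i) := Algebra.QuasiFinite.trans A R (G i)
  -- generators
  obtain ⟨X, hX⟩ := (Algebra.FiniteType.out : (⊤ : Subalgebra R i.Ring).FG)
  refine exists_impurity_qf_of_local N p (G i) (X.image (algebraMap i.Ring (G i))) ?_ hi
  intro U hU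
  refine fracSub_eq_top (A := A) (R := R) (C := i.Ring) (L := G i) p (ptKer i.θ) (X : Set i.Ring)
    hX U ?_
  intro x hx
  exact hU _ (Finset.mem_image_of_mem _ (Finset.mem_coe.mp hx))

end Stage1

end Groth.Agent.Lib.Helper95.PureHensB
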