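import Mathlib
import Groth.Prelude.Def_FlatCA
import Groth.Prelude.Def_Hensel
import Groth.Agent.Lib.Helper37.Hz9
import Groth.Agent.Lib.Helper95.PureClosedImm
import Groth.Agent.Lib.Helper95.PureFinA
import Groth.Agent.Lib.Helper95.PureFinB
import Groth.Agent.Lib.Helper95.PureFinC
import Groth.Agent.S1248

/-!
Helper library for S1222, part D: purity and finiteness of a quasi-finite support.
-/

set_option autoImplicit false
set_option linter.style.haveILetI false
universe u

namespace Groth.Agent.Lib.Helper95.PureFinD

open TensorProduct IsLocalRing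

section UnivPure

attribute [local instance] Algebra.TensorProduct.rightAlgebra

variable {A B : Type u} [CommRing A] [CommRing B] [Algebra A B] [Algebra.FiniteType A B]
  (N : Type u) [AddCommGroup N] [Module B N] [Module.Finite B N]

omit [Algebra.FiniteType A B] [Module.Finite B N] in
/-- A module with finite scheme-theoretic support is universally pure. -/
theorem isUnivPureAlong_of_finite (hfinite : Module.Finite A (B ⧸ Module.annihilator B N))
    (p : Ideal A) [p.IsPrime] : FlatCA.IsUnivPureAlong A B N p := by
  intro A' B' N' _ _ _ _ _ _ _ _ _ _ _ _ _ _ f t' t _ _ P _ himp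
  obtain ⟨hpo, hbc, hle, hlo, hPlo, hass, hcl⟩ := himp
  haveI := hPlo
  -- the annihilator of `N` maps into `P`
  have hJP : ∀ y ∈ Module.annihilator B N, algebraMap B B' y ∈ P := by
    intro y hy
    have h1 : algebraMap B B' y ∈ Module.annihilator B' N' := by
      rw [Module.mem_annihilator]
      intro n'
      refine hbc.inductionOn n' _ ?_ ?_ ?_ ?_
      · rw [smul_zero]
      · intro n
        rw [algebraMap_smul, ← map_smul, Module.mem_annihilator.mp hy n, map_zero]
      · intro b' n'' h
        rw [smul_comm, h, smul_zero]
      · intro n₁ n₂ h₁ h₂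
        rw [smul_add, h₁, h₂, add_zero]
    have h2 := PureFinA.algebraMap_mem_annihilator_fiberMod N' t' h1
    have h3 : Module.annihilator (t'.Fiber B') (FlatCA.fiberMod t' B' N') ≤
        FlatCA.fiberIdeal t' P := by
      rw [← Submodule.annihilator_top]
      exact IsAssociatedPrime.annihilator_le hass
    have h4 : algebraMap B B' y ∈ (FlatCA.fiberIdeal t' P).comap
        (Algebra.TensorProduct.includeRight (R := A') (A := t'.ResidueField) (B := B')).toRingHom :=
      Ideal.mem_comap.mpr (h3 h2)
    exact PureClosedImm.comap_fiberIdeal_le t' B' P h4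
  -- `B' ⧸ P` is integral over `A'`
  haveI hintC : Algebra.IsIntegral A (B ⧸ Module.annihilator B N) :=
    Algebra.IsIntegral.of_finite A _
  have hker : ∀ y ∈ Module.annihilator B N,
      ((Ideal.Quotient.mkₐ A P).comp (IsScalarTower.toAlgHom A B B')) y = 0 := by
    intro y hy
    exact Ideal.Quotient.eq_zero_iff_mem.mpr (hJP y hy)
  let θ : (B ⧸ Module.annihilator B N) →ₐ[A] B' ⧸ P :=
    Ideal.Quotient.liftₐ (Module.annihilator B N)
      ((Ideal.Quotient.mkₐ A P).comp (IsScalarTower.toAlgHom A B B')) hker
  have hint : Algebra.IsIntegral A' (B' ⧸ P) := by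
    refine ⟨fun z => ?_⟩
    obtain ⟨b', rfl⟩ := Ideal.Quotient.mk_surjective z
    refine hpo.out.inductionOn b' _ ?_ ?_ ?_ ?_
    · rw [map_zero]
      exact isIntegral_zero
    · intro a'
      exact isIntegral_algebraMap (R := A') (A := B' ⧸ P) (x := a')
    · intro b b'' h
      have h1 : IsIntegral A (θ (Ideal.Quotient.mk _ b)) :=
        IsIntegral.map θ (hintC.isIntegral _)
      have h2 : IsIntegral A' (θ (Ideal.Quotient.mk _ b)) := h1.tower_top
      have h3 : Ideal.Quotient.mk P (b • b'') = θ (Ideal.Quotient.mk _ b) * Ideal.Quotient.mk P b'' := by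
        rw [Algebra.smul_def, map_mul]
        rfl
      rw [h3]
      exact IsIntegral.mul h2 h
    · intro x y hx hy
      rw [map_add]
      exact IsIntegral.add hx hy
  -- going up
  have hkerA' : RingHom.ker (algebraMap A' (B' ⧸ P)) ≤ t := by
    intro a ha
    apply hle
    rw [hPlo.over]
    have h5 : Ideal.Quotient.mk P (algebraMap A' B' a) = 0 := ha
    exact Ideal.mem_comap.mpr (Ideal.Quotient.eq_zero_iff_mem.mp h5)
  obtain ⟨Q, hQp, hQt⟩ := Ideal.exists_ideal_over_prime_of_isIntegral_of_isDomain
    (R := A') (S := B' ⧸ P) t hkerA'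
  haveI := hQp
  refine hcl (Q.comap (Ideal.Quotient.mk P)) ?_ ⟨?_⟩
  · intro x hx
    rw [Ideal.mem_comap, Ideal.Quotient.eq_zero_iff_mem.mpr hx]
    exact Ideal.zero_mem _
  · rw [← hQt]
    rfl

end UnivPure

section Main

attribute [local instance] Algebra.TensorProduct.rightAlgebra

open Groth.Agent.Lib.Helper37.Hz

variable {A B : Type u} [CommRing A] [CommRing B] [Algebra A B] [Algebra.FiniteType A B]
  (N : Type u) [AddCommGroup N] [Module B N] [Module.Finite B N]

/-- A pure module with quasi-finite support has finite scheme-theoretic support. -/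
theorem finite_of_isPure
    (hfin : ∀ (p : Ideal A) [p.IsPrime],
      (Module.support (p.Fiber B) (FlatCA.fiberMod p B N)).Finite)
    (hpure : FlatCA.IsPure A B N) :
    Module.Finite A (B ⧸ Module.annihilator B N) := by
  haveI hqf := PureFinA.quasiFinite_quotient_annihilator N hfin
  apply PureFinC.finite_of_forall_finite_localization
  intro p _
  let R := Localization.AtPrime p
  let Hh := Hens R
  letI algAH : Algebra A Hh := ((algebraMap R Hh).comp (algebraMap A R)).toAlgebra
  haveI towARH : IsScalarTower A R Hh :=
    IsScalarTower.of_algebraMap_eq (R := A) (S := R) (A := Hh) fun _ => rfl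
  haveI : Module.FaithfullyFlat R Hh := faithfullyFlat_of_isHenselization R Hh
  have hmp : (maximalIdeal Hh).LiesOver p := by
    refine ⟨?_⟩
    have h1 : (maximalIdeal Hh).under A =
        ((maximalIdeal Hh).comap (algebraMap R Hh)).comap (algebraMap A R) := rfl
    rw [h1, IsLocalRing.maximalIdeal_comap]
    exact (Localization.AtPrime.under_maximalIdeal (I := p)).symm
  have key := PureFinB.finite_tensor_of_no_impurity (A := A) (B := B) N p Hh hmp ?_
  · exact PureFinC.finite_tensor_descend (A := A) (R := R) (H := Hh) key
  · intro t' _ P _ himp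
    have hHas : FlatCA.HasImpurity A B N p (fun A' _ _ t => ∃ (_ : IsLocalRing A')
        (_ : Algebra (Localization.AtPrime p) A')
        (_ : IsScalarTower A (Localization.AtPrime p) A')
        (_ : IsLocalHom (algebraMap (Localization.AtPrime p) A')),
        Hensel.IsHenselization (Localization.AtPrime p) A' ∧ t = maximalIdeal A') :=
      ⟨Hh, Hh ⊗[A] B, (Hh ⊗[A] B) ⊗[B] N, inferInstance, inferInstance, algAH, inferInstance,
        inferInstance, inferInstance, inferInstance, inferInstance, inferInstance, inferInstance,
        inferInstance, inferInstance, inferInstance, inferInstance,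
        TensorProduct.mk B (Hh ⊗[A] B) N 1, t', maximalIdeal Hh, inferInstance, inferInstance, P,
        inferInstance, himp, inferInstance, inferInstance, towARH, inferInstance,
        isHenselization_Hens R, rfl⟩
    obtain ⟨A', B', N', _, _, _, _, _, _, _, _, _, _, _, _, _, _, f, t'', t, _, _, P', _, himp',
      _, het⟩ := Groth.Agent.S1248.result N p hHas
    exact hpure p A' B' N' f t'' t P' het himp'

end Main

end Groth.Agent.Lib.Helper95.PureFinD
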