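import Mathlib
import Groth.Prelude.Def_FlatCA
import Groth.Prelude.Def_Hensel
import Groth.Agent.Lib.Helper37.Hz9
import Groth.Agent.Lib.Helper37.HenselLocal
import Groth.Agent.Lib.Helper95.PurePullback

/-!
Helper library for S9000: an impurity over an elementary etale neighbourhood gives an impurity over
the henselization.
-/

set_option autoImplicit false
set_option linter.style.haveILetI false
universe u

namespace Groth.Agent.Lib.Helper95.PureHensC

open IsLocalRing TensorProduct Groth.Agent.Lib.Helper37.Hz

attribute [local instance] Algebra.TensorProduct.rightAlgebra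

theorem exists_impurity_henselization {A B : Type u} [CommRing A] [CommRing B] [Algebra A B]
    [Algebra.FiniteType A B] (N : Type u) [AddCommGroup N] [Module B N] (p : Ideal A) [p.IsPrime]
    (h : FlatCA.HasImpurity A B N p (fun A' _ _ t => ∃ _ : t.IsPrime, FlatCA.IsEtaleNhd A A' p t)) :
    FlatCA.HasImpurity A B N p (fun A' _ _ t => ∃ (_ : IsLocalRing A')
        (_ : Algebra (Localization.AtPrime p) A')
        (_ : IsScalarTower A (Localization.AtPrime p) A')
        (_ : IsLocalHom (algebraMap (Localization.AtPrime p) A')),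
        Hensel.IsHenselization (Localization.AtPrime p) A' ∧ t = maximalIdeal A') := by
  classical
  obtain ⟨A₁, B₁, N₁, _, _, _, _, _, _, _, _, _, _, _, _, _, _, f₁, t', t, _, _, P, _, himp,
    _, het, hlo, hbij⟩ := h
  haveI := het
  haveI := hlo
  have htt' : t' ≤ t := himp.2.2.1
  let R := Localization.AtPrime p
  let Hh := Hens R
  letI algAH : Algebra A Hh := ((algebraMap R Hh).comp (algebraMap A R)).toAlgebra
  haveI towARH : IsScalarTower A R Hh :=
    IsScalarTower.of_algebraMap_eq (R := A) (S := R) (A := Hh) fun _ => rfl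
  haveI : Module.Flat A Hh := Module.Flat.trans A R Hh
  -- the residue field map
  let e : p.ResidueField ≃+* t.ResidueField :=
    RingEquiv.ofBijective (Ideal.ResidueField.mapₐ p t (Algebra.ofId A A₁) hlo.over) hbij
  let τ : t.ResidueField →+* ResidueField Hh :=
    (ResidueField.map (algebraMap R Hh)).comp (e.symm : t.ResidueField →+* p.ResidueField)
  have hτ : τ.comp (algebraMap A t.ResidueField) = (residue Hh).comp (algebraMap A Hh) := by
    ext a
    have h1 : e (algebraMap A p.ResidueField a) = algebraMap A t.ResidueField a :=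
      (Ideal.ResidueField.mapₐ p t (Algebra.ofId A A₁) hlo.over).commutes a
    have h2 : e.symm (algebraMap A t.ResidueField a) = algebraMap A p.ResidueField a := by
      rw [← h1, e.symm_apply_apply]
    change ResidueField.map (algebraMap R Hh) (e.symm (algebraMap A t.ResidueField a)) =
      residue Hh (algebraMap R Hh (algebraMap A R a))
    rw [h2, IsScalarTower.algebraMap_apply A R p.ResidueField]
    exact ResidueField.map_residue (algebraMap R Hh) (algebraMap A R a)
  obtain ⟨φ, ⟨hφ1, -⟩, -⟩ :=
    Groth.Agent.Lib.Helper37.existsUnique_algHom_of_etale_of_henselianLocal A Hh A₁ t τ hτ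
  letI algA₁H : Algebra A₁ Hh := φ.toRingHom.toAlgebra
  haveI : IsScalarTower A A₁ Hh :=
    IsScalarTower.of_algebraMap_eq (R := A) (S := A₁) (A := Hh) fun a => (φ.commutes a).symm
  haveI : Module.Flat A₁ Hh := Algebra.FormallyUnramified.flat_of_restrictScalars A A₁ Hh
  haveI hmt : (maximalIdeal Hh).LiesOver t := ⟨hφ1.symm⟩
  haveI hmp : (maximalIdeal Hh).LiesOver p := by
    refine ⟨?_⟩
    have h1 : (maximalIdeal Hh).under A =
        ((maximalIdeal Hh).comap (algebraMap R Hh)).comap (algebraMap A R) := rfl
    rw [h1, IsLocalRing.maximalIdeal_comap]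
    exact (Localization.AtPrime.under_maximalIdeal (I := p)).symm
  obtain ⟨s', hs'le, hs'p, hs'lo⟩ :=
    Ideal.exists_ideal_le_liesOver_of_le (maximalIdeal Hh) (p := t') (q := t) htt'
  haveI := hs'p
  haveI := hs'lo
  -- pull the impurity back
  have hpo : Algebra.IsPushout A B A B := inferInstance
  have hf : IsBaseChange B (LinearEquiv.refl B N).toLinearMap :=
    IsBaseChange.ofEquiv (LinearEquiv.refl B N)
  have hpo₂ : Algebra.IsPushout A B Hh (Hh ⊗[A] B) := inferInstance
  have hf₂ : IsBaseChange (Hh ⊗[A] B) (TensorProduct.mk B (Hh ⊗[A] B) N 1) :=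
    TensorProduct.isBaseChange B N (Hh ⊗[A] B)
  have key := PurePullback.exists_impurity_pullback N p A B N (LinearEquiv.refl B N).toLinearMap p
    A₁ B₁ N₁ f₁ t' t P Hh (Hh ⊗[A] B) ((Hh ⊗[A] B) ⊗[B] N)
    (TensorProduct.mk B (Hh ⊗[A] B) N 1) s' (maximalIdeal Hh)
  have key2 := key hpo hf
  have key3 := key2 hpo₂ hf₂ hs'le
  obtain ⟨P₂, hP₂, himp₂⟩ := key3 himp
  exact ⟨Hh, Hh ⊗[A] B, (Hh ⊗[A] B) ⊗[B] N, inferInstance, inferInstance, algAH, inferInstance,
    inferInstance, inferInstance, inferInstance, inferInstance, inferInstance, inferInstance,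
    inferInstance, inferInstance, inferInstance, inferInstance,
    TensorProduct.mk B (Hh ⊗[A] B) N 1, s', maximalIdeal Hh, inferInstance, inferInstance, P₂,
    hP₂, himp₂, inferInstance, inferInstance, towARH, inferInstance,
    isHenselization_Hens R, rfl⟩

end Groth.Agent.Lib.Helper95.PureHensC
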