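import Mathlib

/-!
# Adjoining a `D`-th root of a uniformizer to a discrete valuation ring gives a discrete valuation ring
-/

namespace Groth.Agent.Lib.Helper95.RootDVR

open Polynomial IsLocalRing

variable {R : Type*} [CommRing R] [IsDomain R] [IsDiscreteValuationRing R]

/-- the Eisenstein polynomial `X ^ D - π` -/
noncomputable def poly (π : R) (D : ℕ) : R[X] := X ^ D - C π

variable (π : R) (D : ℕ)

lemma poly_monic (hD : D ≠ 0) : (poly π D).Monic := monic_X_pow_sub_C π hD

lemma poly_natDegree (hD : D ≠ 0) : (poly π D).natDegree = D := natDegree_X_pow_sub_C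

lemma poly_coeff (n : ℕ) : (poly π D).coeff n = (if n = D then 1 else 0) - (if n = 0 then π else 0) := by
  rw [poly, coeff_sub, coeff_X_pow, coeff_C]

variable {π}

lemma maximalIdeal_eq (hπ : Irreducible π) : maximalIdeal R = Ideal.span {π} :=
  (IsDiscreteValuationRing.irreducible_iff_uniformizer π).mp hπ

lemma poly_eisenstein (hπ : Irreducible π) (hD : D ≠ 0) :
    (poly π D).IsEisensteinAt (maximalIdeal R) := by
  refine ⟨?_, ?_, ?_⟩
  · rw [(poly_monic π D hD).leadingCoeff]
    intro h1
    exact (maximalIdeal.isMaximal R).ne_top ((Ideal.eq_top_iff_one _).mpr h1)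
  · intro n hn
    rw [poly_natDegree π D hD] at hn
    rw [poly_coeff, if_neg (by omega)]
    by_cases h0 : n = 0
    · rw [if_pos h0, zero_sub, maximalIdeal_eq hπ]
      exact Ideal.neg_mem_iff _ |>.mpr (Ideal.mem_span_singleton_self π)
    · rw [if_neg h0, sub_zero]; exact Ideal.zero_mem _
  · rw [poly_coeff, if_neg (Ne.symm hD), if_pos rfl, zero_sub, maximalIdeal_eq hπ, Ideal.neg_mem_iff,
      Ideal.span_singleton_pow, Ideal.mem_span_singleton]
    rintro ⟨c, hc⟩
    have h1 : π * (π * c - 1) = 0 := by rw [mul_sub, mul_one, ← mul_assoc, ← pow_two, ← hc, sub_self]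
    rcases mul_eq_zero.mp h1 with h | h
    · exact hπ.ne_zero h
    · exact hπ.not_isUnit (IsUnit.of_mul_eq_one c (sub_eq_zero.mp h))

lemma poly_irreducible (hπ : Irreducible π) (hD : D ≠ 0) : Irreducible (poly π D) :=
  (poly_eisenstein D hπ hD).irreducible (maximalIdeal.isMaximal R).isPrime
    (poly_monic π D hD).isPrimitive (by rw [poly_natDegree π D hD]; omega)

lemma poly_prime (hπ : Irreducible π) (hD : D ≠ 0) : Prime (poly π D) :=
  (poly_irreducible D hπ hD).prime

variable (π)

/-- the extension `R[π^(1/D)]` -/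
abbrev Ext : Type _ := AdjoinRoot (poly π D)

/-- the root -/
noncomputable def rt : Ext π D := AdjoinRoot.root (poly π D)

lemma rt_pow : rt π D ^ D = algebraMap R (Ext π D) π := by
  have h := AdjoinRoot.mk_self (f := poly π D)
  rw [poly, map_sub, map_pow, AdjoinRoot.mk_X, AdjoinRoot.mk_C] at h
  rw [AdjoinRoot.algebraMap_eq]
  exact sub_eq_zero.mp h

variable {π}

instance ext_isDomain [Fact (Irreducible π)] [Fact (D ≠ 0)] : IsDomain (Ext π D) :=
  AdjoinRoot.isDomain_of_prime (poly_prime D (Fact.out) (Fact.out))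

lemma algebraMap_injective (hD : D ≠ 0) : Function.Injective (algebraMap R (Ext π D)) := by
  rw [AdjoinRoot.algebraMap_eq]
  apply AdjoinRoot.of.injective_of_degree_ne_zero
  rw [degree_eq_natDegree (poly_monic π D hD).ne_zero, poly_natDegree π D hD]
  exact_mod_cast hD

instance ext_finite [Fact (D ≠ 0)] : Module.Finite R (Ext π D) :=
  (poly_monic π D Fact.out).finite_adjoinRoot

instance ext_noeth : IsNoetherianRing (Ext π D) :=
  inferInstanceAs (IsNoetherianRing (R[X] ⧸ Ideal.span {poly π D}))

/-- decomposition of an element: constant term plus multiple of the root -/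
lemma exists_decomp (y : Ext π D) : ∃ (r : R) (z : Ext π D),
    y = algebraMap R (Ext π D) r + rt π D * z := by
  obtain ⟨p, rfl⟩ := AdjoinRoot.mk_surjective y
  refine ⟨p.coeff 0, AdjoinRoot.mk _ p.divX, ?_⟩
  conv_lhs => rw [← divX_mul_X_add p]
  rw [map_add, map_mul, AdjoinRoot.mk_X, AdjoinRoot.mk_C, AdjoinRoot.algebraMap_eq, rt]
  ring

section local_

variable [Fact (Irreducible π)] [Fact (D ≠ 0)]

lemma rt_ne_zero : rt π D ≠ 0 := by
  intro h
  have h1 := rt_pow π D
  rw [h, zero_pow (Fact.out : D ≠ 0)] at h1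
  have h2 : algebraMap R (Ext π D) π = algebraMap R (Ext π D) 0 := by rw [← h1, map_zero]
  exact (Fact.out : Irreducible π).ne_zero (algebraMap_injective D Fact.out h2)

/-- every maximal ideal contains the root -/
lemma rt_mem_of_isMaximal (M : Ideal (Ext π D)) [hM : M.IsMaximal] : rt π D ∈ M := by
  have h1 : (M.comap (algebraMap R (Ext π D))).IsMaximal :=
    Ideal.isMaximal_comap_of_isIntegral_of_isMaximal M
  have h2 : M.comap (algebraMap R (Ext π D)) = maximalIdeal R := eq_maximalIdeal h1
  have h3 : π ∈ M.comap (algebraMap R (Ext π D)) := by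
    rw [h2, maximalIdeal_eq (Fact.out : Irreducible π)]
    exact Ideal.mem_span_singleton_self π
  rw [Ideal.mem_comap, ← rt_pow] at h3
  exact hM.isPrime.mem_of_pow_mem D h3

lemma rt_not_isUnit : ¬ IsUnit (rt π D) := by
  intro hu
  obtain ⟨M, hM⟩ := Ideal.exists_maximal (Ext π D)
  exact hM.ne_top (Ideal.eq_top_of_isUnit_mem _ (rt_mem_of_isMaximal D M) hu)

lemma span_rt_isMaximal : (Ideal.span {rt π D}).IsMaximal := by
  rw [Ideal.isMaximal_iff]
  constructor
  · intro h1
    rw [Ideal.mem_span_singleton] at h1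
    exact rt_not_isUnit D (isUnit_of_dvd_one h1)
  · intro J y hJ hy hyJ
    obtain ⟨r, z, rfl⟩ := exists_decomp D y
    have hr : IsUnit r := by
      by_contra hr
      have h1 : r ∈ maximalIdeal R := (mem_maximalIdeal r).mpr hr
      rw [maximalIdeal_eq (Fact.out : Irreducible π), Ideal.mem_span_singleton] at h1
      obtain ⟨c, rfl⟩ := h1
      apply hy
      rw [map_mul, ← rt_pow]
      have hpow : rt π D ^ D = rt π D * rt π D ^ (D - 1) := by
        rw [← pow_succ', Nat.sub_add_cancel (Nat.pos_of_ne_zero (Fact.out : D ≠ 0))]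
      rw [hpow]
      refine Ideal.add_mem _ ?_ ?_
      · rw [mul_assoc]; exact Ideal.mul_mem_right _ _ (Ideal.mem_span_singleton_self _)
      · exact Ideal.mul_mem_right _ _ (Ideal.mem_span_singleton_self _)
    have h2 : algebraMap R (Ext π D) r ∈ J := by
      have h3 : rt π D * z ∈ J := Ideal.mul_mem_right _ _ (hJ (Ideal.mem_span_singleton_self _))
      have := J.sub_mem hyJ h3
      rwa [add_sub_cancel_right] at this
    have h4 : IsUnit (algebraMap R (Ext π D) r) := hr.map _
    have := Ideal.eq_top_of_isUnit_mem _ h2 h4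
    rw [this]; trivial

instance ext_isLocalRing : IsLocalRing (Ext π D) := by
  apply IsLocalRing.of_unique_max_ideal
  refine ⟨Ideal.span {rt π D}, span_rt_isMaximal D, ?_⟩
  intro M hM
  have h1 : Ideal.span {rt π D} ≤ M := by
    rw [Ideal.span_le, Set.singleton_subset_iff]
    exact rt_mem_of_isMaximal D M
  exact ((span_rt_isMaximal D).eq_of_le hM.ne_top h1).symm

lemma ext_maximalIdeal : maximalIdeal (Ext π D) = Ideal.span {rt π D} :=
  (eq_maximalIdeal (span_rt_isMaximal D)).symm

instance ext_isDVR : IsDiscreteValuationRing (Ext π D) := by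
  have hnf : ¬ IsField (Ext π D) := by
    rw [isField_iff_maximalIdeal_eq, ext_maximalIdeal, Ideal.span_singleton_eq_bot]
    exact rt_ne_zero D
  refine ((IsDiscreteValuationRing.TFAE (Ext π D) hnf).out 4 0).mp ?_
  exact ⟨⟨rt π D, ext_maximalIdeal D⟩⟩

instance ext_isLocalHom : IsLocalHom (algebraMap R (Ext π D)) := by
  constructor
  intro a ha
  by_contra hna
  have h1 : a ∈ maximalIdeal R := (mem_maximalIdeal a).mpr hna
  rw [maximalIdeal_eq (Fact.out : Irreducible π), Ideal.mem_span_singleton] at h1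
  obtain ⟨c, rfl⟩ := h1
  rw [map_mul, ← rt_pow] at ha
  have h2 : IsUnit (rt π D ^ D) := isUnit_of_mul_isUnit_left ha
  exact rt_not_isUnit D ((isUnit_pow_iff (Fact.out : D ≠ 0)).mp h2)

lemma rt_mem_maximalIdeal : rt π D ∈ maximalIdeal (Ext π D) := by
  rw [ext_maximalIdeal]; exact Ideal.mem_span_singleton_self _

end local_

end Groth.Agent.Lib.Helper95.RootDVR
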