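import Mathlib.LinearAlgebra.RootSystem.Defs
import Mathlib.LinearAlgebra.QuadraticForm.Basic

/-! Quadratic forms invariant under a coreflection of a root pairing. -/

set_option autoImplicit false
universe u v w x

namespace Groth.Agent.Lib.Helper95

open QuadraticMap

variable {ι : Type u} {R : Type v} {M : Type w} {N : Type x} [CommRing R]
  [AddCommGroup M] [Module R M] [AddCommGroup N] [Module R N] (P : RootPairing ι R M N)

/-- Expansion of `Q` on a reflected vector. -/
lemma quad_coreflection (Q : QuadraticMap R N R) (j : ι) (y : N) :
    Q (P.coreflection j y) =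
      Q y + P.root' j y * P.root' j y * Q (P.coroot j)
        - P.root' j y * polar Q y (P.coroot j) := by
  rw [P.coreflection_apply, sub_eq_add_neg, ← neg_smul, QuadraticMap.map_add (⇑Q), QuadraticMap.map_smul,
    polar_smul_right]
  simp only [smul_eq_mul]
  ring

/-- If `Q` is fixed by the coreflection `s_j` at `y` and at `y + α_j^∨`, the polar form against
`α_j^∨` is the expected one. -/
lemma polar_coroot_of_invariant [IsDomain R] [CharZero R] (Q : QuadraticMap R N R) (j : ι) (y : N)
    (hy : Q (P.coreflection j y) = Q y)
    (hy' : Q (P.coreflection j (y + P.coroot j)) = Q (y + P.coroot j)) :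
    polar Q y (P.coroot j) = P.root' j y * Q (P.coroot j) := by
  rw [quad_coreflection] at hy hy'
  have h2 : P.root' j (y + P.coroot j) = P.root' j y + 2 := by
    rw [map_add, P.root'_coroot_eq_pairing, P.pairing_same]
  rw [h2, polar_add_left, polar_self] at hy'
  set c := P.root' j y with hc
  set a := Q (P.coroot j) with ha
  set b := polar Q y (P.coroot j) with hb
  simp only [nsmul_eq_mul, Nat.cast_ofNat] at hy'
  have e1 : c * (c * a - b) = 0 := by linear_combination hy
  have e2 : (c + 2) * (c * a - b) = 0 := by linear_combination hy'
  have e3 : (2 : R) * (c * a - b) = 0 := by linear_combination e2 - e1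
  have e4 : c * a - b = 0 := by
    rcases mul_eq_zero.mp e3 with h | h
    · exact absurd h two_ne_zero
    · exact h
  linear_combination -e4

/-- Conversely the polar identity at `y` gives invariance at `y`. -/
lemma invariant_of_polar_coroot (Q : QuadraticMap R N R) (j : ι) (y : N)
    (h : polar Q y (P.coroot j) = P.root' j y * Q (P.coroot j)) :
    Q (P.coreflection j y) = Q y := by
  rw [quad_coreflection, h]
  ring

end Groth.Agent.Lib.Helper95
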