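import Mathlib

/-!
# Helper95: formally unramified can be checked on fibres (finite type case).
-/

set_option autoImplicit false

namespace Groth.Agent.Lib.Helper95.UnramFiber

open TensorProduct

attribute [local instance] Algebra.TensorProduct.rightAlgebra in
theorem formallyUnramified_of_fiber {R A : Type*} [CommRing R] [CommRing A] [Algebra R A]
    [Algebra.FiniteType R A]
    (h : ∀ (p : Ideal R) [p.IsPrime], Algebra.FormallyUnramified p.ResidueField (p.Fiber A)) :
    Algebra.FormallyUnramified R A := by
  rw [Algebra.formallyUnramified_iff, ← Module.support_eq_empty_iff (R := A),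
    Set.eq_empty_iff_forall_notMem]
  intro q hq
  rw [Module.mem_support_iff_nontrivial_residueField_tensorProduct] at hq
  let p := q.asIdeal.under R
  have hp : p.IsPrime := Ideal.IsPrime.under R q.asIdeal
  have hlo : q.asIdeal.LiesOver p := ⟨rfl⟩
  have hfu := h p
  let g : p.ResidueField →ₐ[R] q.asIdeal.ResidueField :=
    Ideal.ResidueField.mapₐ p q.asIdeal (Algebra.ofId R A) rfl
  let φ : p.Fiber A →ₐ[R] q.asIdeal.ResidueField :=
    Algebra.TensorProduct.lift g (IsScalarTower.toAlgHom R A q.asIdeal.ResidueField)
      fun _ _ => .all _ _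
  algebraize [φ.toRingHom]
  have htow : IsScalarTower A (p.Fiber A) q.asIdeal.ResidueField := by
    refine IsScalarTower.of_algebraMap_eq' ?_
    ext a
    change _ = φ (1 ⊗ₜ a)
    simp [φ]
  have hsub : Subsingleton (p.Fiber A ⊗[A] Ω[A⁄R]) := by
    have : Subsingleton Ω[p.Fiber A⁄p.ResidueField] := (Algebra.formallyUnramified_iff _ _).mp hfu
    exact (KaehlerDifferential.tensorKaehlerEquiv R p.ResidueField A (p.Fiber A)).subsingleton_congr.mpr this
  have e := TensorProduct.AlgebraTensorModule.cancelBaseChange A (p.Fiber A) q.asIdeal.ResidueField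
    q.asIdeal.ResidueField Ω[A⁄R]
  have : Subsingleton (q.asIdeal.ResidueField ⊗[A] Ω[A⁄R]) := e.symm.subsingleton_congr.mpr inferInstance
  exact not_nontrivial _ hq

end Groth.Agent.Lib.Helper95.UnramFiber
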